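import Mathlib
import Cfsg.Agent.S0205

/-!
# Minimal non-CA groups: vocabulary and elementary lemmas

`CA G`: centralisers of non-central elements are abelian. `ProperCA G`: all proper subgroups are CA.
-/

set_option autoImplicit false

namespace Cfsg.Lib.MinNonCA

open Subgroup

variable {G : Type*} [Group G]

/-- Centralisers of non-central elements are abelian. -/
def CA (G : Type*) [Group G] : Prop :=
  ∀ x : G, x ∉ center G → IsMulCommutative (centralizer ({x} : Set G))

/-- All proper subgroups are CA. -/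
def ProperCA (G : Type*) [Group G] : Prop := ∀ H : Subgroup G, H ≠ ⊤ → CA H

/-- The elements of `H` commute pairwise. -/
def Comm (H : Subgroup G) : Prop := ∀ a ∈ H, ∀ b ∈ H, Commute a b

theorem comm_iff {H : Subgroup G} : Comm H ↔ IsMulCommutative H :=
  ⟨fun h => ⟨⟨fun a b => Subtype.ext (h a a.2 b b.2)⟩⟩,
    fun h a ha b hb => congrArg Subtype.val (h.is_comm.comm ⟨a, ha⟩ ⟨b, hb⟩)⟩

theorem Comm.mono {H K : Subgroup G} (h : Comm K) (hle : H ≤ K) : Comm H :=
  fun a ha b hb => h a (hle ha) b (hle hb)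

theorem Comm.isSolvable {H : Subgroup G} (h : Comm H) : Group.IsSolvable H :=
  Group.isSolvable_of_comm fun a b => Subtype.ext (h a a.2 b b.2)

theorem not_comm_iff {H : Subgroup G} : ¬ Comm H ↔ ∃ a ∈ H, ∃ b ∈ H, ¬ Commute a b := by
  simp [Comm]

theorem mem_cent {x a : G} : a ∈ centralizer ({x} : Set G) ↔ Commute x a := by
  rw [mem_centralizer_singleton_iff]; exact ⟨fun h => h.symm, fun h => h.symm⟩

theorem self_mem_cent (x : G) : x ∈ centralizer ({x} : Set G) := mem_cent.2 (Commute.refl x)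

theorem mem_center_iff' {x : G} : x ∈ center G ↔ ∀ y, Commute x y :=
  ⟨fun h y => (mem_center_iff.1 h y).symm, fun h => mem_center_iff.2 fun y => (h y).symm⟩

theorem cent_eq_top_iff {x : G} : centralizer ({x} : Set G) = ⊤ ↔ x ∈ center G := by
  rw [eq_top_iff', mem_center_iff']
  simp only [mem_cent]

theorem cent_ne_top {x : G} (hx : x ∉ center G) : centralizer ({x} : Set G) ≠ ⊤ :=
  fun h => hx (cent_eq_top_iff.1 h)

theorem CA.comm (h : CA G) {x : G} (hx : x ∉ center G) : Comm (centralizer ({x} : Set G)) :=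
  comm_iff.2 (h x hx)

theorem ca_of_comm (h : ∀ x : G, x ∉ center G → Comm (centralizer ({x} : Set G))) : CA G :=
  fun x hx => comm_iff.1 (h x hx)

theorem CA.commute (h : CA G) {x a b : G} (hxa : Commute x a) (hxb : Commute x b)
    (hx : x ∉ center G) : Commute a b :=
  h.comm hx a (mem_cent.2 hxa) b (mem_cent.2 hxb)

theorem CA.congr {G' : Type*} [Group G'] (h : CA G) (e : G ≃* G') : CA G' := by
  refine ca_of_comm fun x hx a ha b hb => ?_
  obtain ⟨x, rfl⟩ := e.surjective x
  obtain ⟨a, rfl⟩ := e.surjective a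
  obtain ⟨b, rfl⟩ := e.surjective b
  refine (h.commute (x := x) ?_ ?_ fun hc => hx ?_).map e
  · exact (show Commute (e x) (e a) from mem_cent.1 ha).of_map e.injective
  · exact (show Commute (e x) (e b) from mem_cent.1 hb).of_map e.injective
  · refine mem_center_iff'.2 fun y => ?_
    obtain ⟨y, rfl⟩ := e.surjective y
    exact (mem_center_iff'.1 hc y).map e

theorem CA.subgroup (h : CA G) (H : Subgroup G) : CA H := by
  refine ca_of_comm fun x hx a ha b hb => ?_
  refine (show Commute (a : G) b from h.commute (x := (x : G)) ?_ ?_ fun hc => hx ?_).of_map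
    (f := H.subtype) H.subtype_injective
  · exact (mem_cent.1 ha).map H.subtype
  · exact (mem_cent.1 hb).map H.subtype
  · exact mem_center_iff'.2 fun y => Subtype.ext (mem_center_iff'.1 hc (y : G))

theorem ProperCA.congr {G' : Type*} [Group G'] (h : ProperCA G) (e : G ≃* G') : ProperCA G' := by
  intro H hH
  have hc : (H.comap (e : G →* G')) ≠ ⊤ := fun hh => hH <| by
    rw [← map_comap_eq_self_of_surjective (f := (e : G →* G')) e.surjective H, hh,
      map_top_of_surjective _ e.surjective]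
  refine (h _ hc).congr ((e.subgroupMap _).trans (MulEquiv.subgroupCongr ?_))
  exact map_comap_eq_self_of_surjective (f := (e : G →* G')) e.surjective H

/-- In a proper subgroup, an element commuting with two non-commuting elements is central. -/
theorem ProperCA.central (h : ProperCA G) {H : Subgroup G} (hH : H ≠ ⊤) {x a b : G} (hx : x ∈ H)
    (ha : a ∈ H) (hb : b ∈ H) (hxa : Commute x a) (hxb : Commute x b) (hab : ¬ Commute a b) :
    ∀ y ∈ H, Commute x y := by
  intro y hy
  by_contra hxy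
  refine hab (((h H hH).commute (x := (⟨x, hx⟩ : H)) (a := ⟨a, ha⟩) (b := ⟨b, hb⟩) (Subtype.ext hxa)
    (Subtype.ext hxb) fun hc => hxy ?_).map H.subtype)
  exact congrArg Subtype.val (mem_center_iff'.1 hc ⟨y, hy⟩)

/-- A non-abelian centraliser is maximal. -/
theorem ProperCA.le_cent (h : ProperCA G) {g : G} (hM : ¬ Comm (centralizer ({g} : Set G)))
    {H : Subgroup G} (hH : H ≠ ⊤) (hle : centralizer ({g} : Set G) ≤ H) :
    H ≤ centralizer ({g} : Set G) := by
  obtain ⟨a, ha, b, hb, hab⟩ := not_comm_iff.1 hM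
  exact fun y hy => mem_cent.2 (h.central hH (hle (self_mem_cent g)) (hle ha) (hle hb) (mem_cent.1 ha)
    (mem_cent.1 hb) hab y hy)

theorem ProperCA.cent_eq (h : ProperCA G) {g : G} (hM : ¬ Comm (centralizer ({g} : Set G)))
    {H : Subgroup G} (hH : H ≠ ⊤) (hle : centralizer ({g} : Set G) ≤ H) :
    H = centralizer ({g} : Set G) :=
  le_antisymm (h.le_cent hM hH hle) hle

/-- If the proper subgroup `H` contains a non-abelian subgroup centralised by `x ∈ H`, then `x` is
central in `H`. -/
theorem ProperCA.central_of_not_comm (h : ProperCA G) {H L : Subgroup G} (hH : H ≠ ⊤) {x : G}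
    (hx : x ∈ H) (hLH : L ≤ H) (hL : ¬ Comm L) (hxL : ∀ l ∈ L, Commute x l) : ∀ y ∈ H, Commute x y := by
  obtain ⟨a, ha, b, hb, hab⟩ := not_comm_iff.1 hL
  exact h.central hH hx (hLH ha) (hLH hb) (hxL a ha) (hxL b hb) hab

/-- `y` conjugates `x` to `x * z` with `z` commuting with `y`. -/
theorem conj_pow_eq {x y z : G} (h : y * x * y⁻¹ = x * z) (hyz : Commute y z) (n : ℕ) :
    y ^ n * x * (y ^ n)⁻¹ = x * z ^ n := by
  induction n with
  | zero => simp
  | succ n ih =>
    calc y ^ (n + 1) * x * (y ^ (n + 1))⁻¹ = y * (y ^ n * x * (y ^ n)⁻¹) * y⁻¹ := by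
          rw [pow_succ']; group
      _ = (y * x * y⁻¹) * (y * z ^ n * y⁻¹) := by rw [ih]; group
      _ = x * z ^ (n + 1) := by rw [h, (hyz.pow_right n).eq, mul_inv_cancel_right, pow_succ', mul_assoc]

theorem pow_eq_one_of_coprime {z : G} {n m : ℕ} (hn : z ^ n = 1) (hm : z ^ m = 1) (h : n.Coprime m) :
    z = 1 := by
  rw [← orderOf_eq_one_iff]
  exact Nat.eq_one_of_dvd_coprimes h (orderOf_dvd_of_pow_eq_one hn) (orderOf_dvd_of_pow_eq_one hm)

/-- Coprime stabilisation: `y` fixing `x` modulo a central element of coprime order fixes `x`. -/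
theorem commute_of_conj_mul {x y z : G} (h : y * x * y⁻¹ = x * z) (hyz : Commute y z) {n m : ℕ}
    (hn : Commute (y ^ n) x) (hm : z ^ m = 1) (hco : n.Coprime m) : Commute y x := by
  have h1 := conj_pow_eq h hyz n
  rw [hn.eq, mul_inv_cancel_right, left_eq_mul] at h1
  rw [pow_eq_one_of_coprime h1 hm hco, mul_one, mul_inv_eq_iff_eq_mul] at h
  exact h

theorem commute_of_pow_eq_one {x y z : G} (h : y * x * y⁻¹ = x * z) (hyz : Commute y z) {n m : ℕ}
    (hn : y ^ n = 1) (hm : z ^ m = 1) (hco : n.Coprime m) : Commute y x :=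
  commute_of_conj_mul h hyz (hn ▸ Commute.one_left x) hm hco

theorem commute_conj_iff {h a b : G} : Commute (h * a * h⁻¹) (h * b * h⁻¹) ↔ Commute a b :=
  ⟨fun e => (show Commute (MulAut.conj h a) (MulAut.conj h b) from e).of_map (MulAut.conj h).injective,
    fun e => e.map (MulAut.conj h)⟩

/-- An element outside a subgroup has a power of prime power order outside it. -/
theorem exists_pow_primePow' [Finite G] {K : Subgroup G} {x : G} (hx : x ∉ K) :
    ∃ n p k : ℕ, p.Prime ∧ orderOf (x ^ n) = p ^ k ∧ x ^ n ∉ K := by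
  suffices H : ∀ d : ℕ, ∀ y : G, orderOf y = d → y ∉ K →
      ∃ n p k : ℕ, p.Prime ∧ orderOf (y ^ n) = p ^ k ∧ y ^ n ∉ K from H _ x rfl hx
  intro d
  induction d using Nat.recOnPosPrimePosCoprime with
  | prime_pow p k hp hk => exact fun y hy hyc => ⟨1, p, k, hp, by rw [pow_one, hy], by rwa [pow_one]⟩
  | zero => exact fun y hy => absurd hy (orderOf_pos y).ne'
  | one => exact fun y hy hyc => absurd ((orderOf_eq_one_iff.1 hy) ▸ one_mem _) hyc
  | coprime a b ha hb hab iha ihb =>
    intro y hy hyc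
    have hya : orderOf (y ^ b) = a := by
      rw [orderOf_pow_of_dvd (by omega) ⟨a, by rw [hy, mul_comm]⟩, hy, Nat.mul_div_cancel _ (by omega)]
    have hyb : orderOf (y ^ a) = b := by
      rw [orderOf_pow_of_dvd (by omega) ⟨b, hy⟩, hy, Nat.mul_div_cancel_left _ (by omega)]
    by_cases h1 : y ^ b ∈ K
    · by_cases h2 : y ^ a ∈ K
      · refine absurd ?_ hyc
        have h3 := mul_mem (zpow_mem h2 (Nat.gcdA a b)) (zpow_mem h1 (Nat.gcdB a b))
        rw [← zpow_natCast y a, ← zpow_natCast y b, ← zpow_mul, ← zpow_mul, ← zpow_add,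
          ← Nat.gcd_eq_gcd_ab, hab.gcd_eq_one] at h3
        simpa using h3
      · obtain ⟨n, q, k, hq, hk, hc⟩ := ihb _ hyb h2
        exact ⟨a * n, q, k, hq, by rwa [pow_mul], by rwa [pow_mul]⟩
    · obtain ⟨n, q, k, hq, hk, hc⟩ := iha _ hya h1
      exact ⟨b * n, q, k, hq, by rwa [pow_mul], by rwa [pow_mul]⟩

/-- A non-central element has a non-central power of prime power order. -/
theorem exists_pow_primePow [Finite G] {x : G} (hx : x ∉ center G) :
    ∃ n p k : ℕ, p.Prime ∧ orderOf (x ^ n) = p ^ k ∧ x ^ n ∉ center G :=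
  exists_pow_primePow' hx

theorem isSolvable_sup_of_le_normalizer {N L : Subgroup G} (hN : Group.IsSolvable N)
    (hL : Group.IsSolvable L) (hLN : L ≤ normalizer (N : Set G)) :
    Group.IsSolvable (N ⊔ L : Subgroup G) := by
  haveI := hN
  haveI := hL
  haveI : (N.subgroupOf (N ⊔ L)).Normal :=
    (normal_subgroupOf_iff_le_normalizer le_sup_left).2 (sup_le le_normalizer hLN)
  haveI : Group.IsSolvable (N.subgroupOf (N ⊔ L)) :=
    Group.isSolvable_of_isSolvable_injective
      (f := (subgroupOfEquivOfLe (le_sup_left : N ≤ N ⊔ L)).toMonoidHom)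
      (subgroupOfEquivOfLe le_sup_left).injective
  refine (Group.isSolvable_iff_subgroup_quotient (N.subgroupOf (N ⊔ L))).mpr ⟨inferInstance, ?_⟩
  refine Group.isSolvable_of_surjective
    (f := (QuotientGroup.mk' (N.subgroupOf (N ⊔ L))).comp (inclusion (le_sup_right : L ≤ N ⊔ L)))
    fun q => ?_
  obtain ⟨⟨x, hx⟩, rfl⟩ := QuotientGroup.mk'_surjective _ q
  have hx' : x ∈ (L ⊔ N : Subgroup G) := sup_comm N L ▸ hx
  obtain ⟨l, hl, n, hn, rfl⟩ : ∃ l ∈ L, ∃ n ∈ N, l * n = x := by
    have h := coe_mul_of_left_le_normalizer_right L N hLN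
    have hx2 : x ∈ ((L ⊔ N : Subgroup G) : Set G) := hx'
    rw [h] at hx2
    exact hx2
  refine ⟨⟨l, hl⟩, QuotientGroup.eq.mpr ?_⟩
  rw [mem_subgroupOf]
  show l⁻¹ * (l * n) ∈ N
  rwa [inv_mul_cancel_left]

theorem isSolvable_sup {N L : Subgroup G} [N.Normal] (hN : Group.IsSolvable N)
    (hL : Group.IsSolvable L) : Group.IsSolvable (N ⊔ L : Subgroup G) :=
  isSolvable_sup_of_le_normalizer hN hL (by rw [normalizer_eq_top]; exact le_top)

theorem mem_sup_of_commute' {g y : G} (h : Commute g y) {z : G} (hz : z ∈ zpowers g ⊔ zpowers y) :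
    ∃ a ∈ zpowers g, ∃ b ∈ zpowers y, a * b = z := by
  have hn : zpowers g ≤ normalizer (zpowers y : Set G) := by
    refine le_trans ?_ (centralizer_le_normalizer _)
    rw [zpowers_le, mem_centralizer_iff]
    rintro _ ⟨j, rfl⟩
    exact (h.symm.zpow_left j).eq
  have h' := coe_mul_of_left_le_normalizer_right (zpowers g) (zpowers y) hn
  have hz' : z ∈ ((zpowers g ⊔ zpowers y : Subgroup G) : Set G) := hz
  rw [h'] at hz'
  exact hz'

theorem isSolvable_of_eq_top {N : Subgroup G} (hN : Group.IsSolvable N) (h : N = ⊤) :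
    Group.IsSolvable G := by
  subst h
  haveI := hN
  exact Group.isSolvable_of_surjective (f := (Subgroup.topEquiv : (⊤ : Subgroup G) ≃* G).toMonoidHom)
    Subgroup.topEquiv.surjective

theorem isSolvable_of_le {H K : Subgroup G} (hle : H ≤ K) (hK : Group.IsSolvable K) :
    Group.IsSolvable H := by
  haveI := hK
  exact Group.isSolvable_of_isSolvable_injective (inclusion_injective hle)

/-- A normal solvable subgroup containing all 2-elements forces solvability. -/
theorem isSolvable_of_two_elements [Finite G] {B : Subgroup G} [B.Normal] (hB : Group.IsSolvable B)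
    (h : ∀ y : G, ∀ k : ℕ, y ^ 2 ^ k = 1 → y ∈ B) : Group.IsSolvable G := by
  haveI := hB
  haveI : Group.IsSolvable (G ⧸ B) := by
    refine Cfsg.Agent.S0205.result (Nat.not_even_iff_odd.1 fun hev => ?_)
    haveI : Fact (Nat.Prime 2) := ⟨Nat.prime_two⟩
    obtain ⟨q, hq⟩ := exists_prime_orderOf_dvd_card' (G := G ⧸ B) 2 (even_iff_two_dvd.1 hev)
    obtain ⟨y, rfl⟩ := QuotientGroup.mk'_surjective B q
    obtain ⟨k, m, hm, hkm⟩ := Nat.exists_eq_two_pow_mul_odd (orderOf_pos y).ne'
    have h1 : (QuotientGroup.mk' B) y ^ m = 1 := by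
      rw [← map_pow, QuotientGroup.mk'_apply, QuotientGroup.eq_one_iff]
      exact h _ k (by rw [← pow_mul, mul_comm, ← hkm, pow_orderOf_eq_one])
    have h2 := orderOf_dvd_of_pow_eq_one h1
    rw [hq] at h2
    exact (Nat.not_even_iff_odd.2 hm) (even_iff_two_dvd.2 h2)
  exact (Group.isSolvable_iff_subgroup_quotient B).mpr ⟨inferInstance, inferInstance⟩

end Cfsg.Lib.MinNonCA
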