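import Cfsg.Agent.Lib.MinNonCA.TwoBase

/-!
# Minimal non-CA groups: tools for a proper component
-/

set_option autoImplicit false
set_option linter.style.haveILetI false

namespace Cfsg.Lib.MinNonCA

open Subgroup
open scoped commutatorElement

/-- A perfect group has no nontrivial Sylow subgroup with abelian normaliser. -/
theorem burnside_false {X : Type*} [Group X] [Finite X] {p : ℕ} [Fact p.Prime]
    (hperf : commutator X = ⊤) (P : Sylow p X) (hP : (P : Subgroup X) ≠ ⊥)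
    (hc : Comm (normalizer ((P : Subgroup X) : Set X))) : False := by
  have hle : normalizer ((P : Subgroup X) : Set X) ≤ centralizer ((P : Subgroup X) : Set X) :=
    fun a ha => mem_centralizer_iff.2 fun b hb => (hc b (le_normalizer hb) a ha).eq
  haveI : IsMulCommutative P := comm_iff.1 (hc.mono le_normalizer)
  set f := MonoidHom.transferSylow P hle with hf
  have hker : f.ker = ⊤ := by
    refine top_le_iff.1 (hperf.ge.trans ?_)
    refine Subgroup.commutator_le.2 fun a _ b _ => ?_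
    rw [MonoidHom.mem_ker, map_commutatorElement]
    exact commutatorElement_eq_one_iff_mul_comm.2 (mul_comm' (f a) (f b))
  have h1 := MonoidHom.ker_transferSylow_isComplement' P hle
  rw [← hf, hker, isComplement'_top_left] at h1
  exact hP h1

/-- In a perfect CA group no non-central centraliser is self-normalising. -/
theorem selfnorm_false {X : Type*} [Group X] [Finite X] (hCA : CA X) (hperf : commutator X = ⊤)
    {x : X} (hx : x ∉ center X)
    (hN : normalizer ((centralizer ({x} : Set X) : Subgroup X) : Set X) ≤ centralizer ({x} : Set X)) :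
    False := by
  obtain ⟨n, r, k, hr, hk, ha⟩ := exists_pow_primePow hx
  haveI := Fact.mk hr
  set a := x ^ n with hadef
  set A := centralizer ({x} : Set X) with hA
  have hAc : Comm A := hCA.comm hx
  have hAa : centralizer ({a} : Set X) = A := by
    refine le_antisymm (fun b hb => mem_cent.2 ?_)
      fun b hb => mem_cent.2 ((mem_cent.1 hb).pow_left n)
    exact hCA.comm ha x (mem_cent.2 ((Commute.refl x).pow_left n)) b hb
  have haA : a ∈ A := mem_cent.2 ((Commute.refl x).pow_right n)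
  have key : ∀ m : X, m * a * m⁻¹ ∈ A → m ∈ A := by
    intro m hm
    have hle : A ≤ A.map (MulAut.conj m).toMonoidHom := by
      intro b hb
      rw [Cfsg.Lib.Core.mem_map_conj, ← hAa, mem_cent, ← commute_conj_iff (h := m)]
      rw [show m * (m⁻¹ * b * m) * m⁻¹ = b by group]
      exact hAc _ hm b hb
    have he := Subgroup.eq_of_le_of_card_ge hle
      (Subgroup.card_map_of_injective (MulAut.conj m).injective).le
    exact hN (Cfsg.Lib.Core.mem_normalizer_iff_map_conj.2 he.symm)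
  have hak : a ^ r ^ k = 1 := by rw [← hk, pow_orderOf_eq_one]
  obtain ⟨R, hR⟩ := (isPGroup_zpowers hak).exists_le_sylow
  have haR : a ∈ (R : Subgroup X) := hR (mem_zpowers a)
  have hRA : (R : Subgroup X) ≤ A := by
    by_contra hle
    have hlt : (R : Subgroup X) ⊓ A < R := inf_le_left.lt_of_ne fun e => hle (inf_eq_left.1 e)
    obtain ⟨b, hb, hbT⟩ := SetLike.exists_of_lt (Cfsg.Lib.Fusion.lt_inf_normalizer R.2 hlt)
    obtain ⟨hbR, hbN⟩ := Subgroup.mem_inf.1 hb
    exact hbT (Subgroup.mem_inf.2 ⟨hbR,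
      key b (Subgroup.mem_inf.1 ((mem_normalizer_iff.1 hbN a).1 (Subgroup.mem_inf.2 ⟨haR, haA⟩))).2⟩)
  refine burnside_false hperf R (fun e => ha ?_)
    (hAc.mono fun m hm => key m (hRA ((mem_normalizer_iff.1 hm a).1 haR)))
  rw [e, Subgroup.mem_bot] at haR
  rw [haR]
  exact one_mem _

variable {G : Type*} [Group G] [Finite G]

/-- An element normalising `N` and centralising `S` acts on `K` as an inner automorphism, when `S` is
transitive on the cosets other than `N`. -/
theorem kernel_false {K : Subgroup G} [K.Normal] (hperf : ⁅K, K⁆ = K)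
    (hC : centralizer (K : Set G) ≤ center G)
    (hqs : ∀ D : Subgroup K, D.Normal → D ≠ ⊤ → D ≤ center K)
    {N S : Subgroup G} (hNK : N ≤ K) (hNne : N ≠ K) (hZN : K ⊓ center G ≤ N) (hSN : S ≤ N)
    (hScomm : ∀ s ∈ S, ∀ t ∈ S, s * t * s⁻¹ * t⁻¹ ∈ center G) {x₀ : G} (hx₀ : x₀ ∈ K) (hx₀N : x₀ ∉ N)
    (htrans : ∀ k ∈ K, k ∉ N → ∃ s ∈ S, (s * x₀)⁻¹ * k ∈ N) {y : G}
    (hyN : y ∈ normalizer (N : Set G)) (hyS : ∀ s ∈ S, Commute y s) : y ∈ K ⊔ center G := by
  have hK : K.Normal := inferInstance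
  have hconjN : ∀ n ∈ N, y * n * y⁻¹ ∈ N := fun n hn => (mem_normalizer_iff.1 hyN n).1 hn
  have hy0 : y * x₀ * y⁻¹ ∉ N := fun e => hx₀N ((mem_normalizer_iff.1 hyN x₀).2 e)
  obtain ⟨s₀, hs₀, hn₀⟩ := htrans _ (hK.conj_mem x₀ hx₀ y) hy0
  set y' := s₀⁻¹ * y with hy'
  have hN' : ∀ k ∈ K, k⁻¹ * (y' * k * y'⁻¹) ∈ N := by
    intro k hk
    by_cases hkN : k ∈ N
    · have h1 : y' * k * y'⁻¹ ∈ N := by
        rw [show y' * k * y'⁻¹ = s₀⁻¹ * (y * k * y⁻¹) * s₀ by rw [hy']; group]
        exact N.mul_mem (N.mul_mem (N.inv_mem (hSN hs₀)) (hconjN k hkN)) (hSN hs₀)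
      exact N.mul_mem (N.inv_mem hkN) h1
    obtain ⟨s₁, hs₁, hn⟩ := htrans k hk hkN
    set n := (s₁ * x₀)⁻¹ * k with hndef
    set n₀ := (s₀ * x₀)⁻¹ * (y * x₀ * y⁻¹) with hn0def
    set c := s₁⁻¹ * (s₀⁻¹ * s₁ * s₀) with hc
    have hcz : c ∈ center G := by
      have h1 := hScomm _ (S.inv_mem hs₁) _ (S.inv_mem hs₀)
      rw [inv_inv, inv_inv] at h1
      rwa [hc, show s₁⁻¹ * (s₀⁻¹ * s₁ * s₀) = s₁⁻¹ * s₀⁻¹ * s₁ * s₀ by group]
    have hcN : c ∈ N := hZN (Subgroup.mem_inf.2
      ⟨hNK (N.mul_mem (N.inv_mem (hSN hs₁)) (N.mul_mem (N.mul_mem (N.inv_mem (hSN hs₀)) (hSN hs₁)) (hSN hs₀))),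
        hcz⟩)
    have hys : y * s₁ * y⁻¹ = s₁ := by rw [(hyS s₁ hs₁).eq, mul_inv_cancel_right]
    have e : k⁻¹ * (y' * k * y'⁻¹) = n⁻¹ * c * n₀ * (y * n * y⁻¹) * s₀ := by
      calc k⁻¹ * (y' * k * y'⁻¹)
          = n⁻¹ * x₀⁻¹ * s₁⁻¹ * s₀⁻¹ * (y * s₁ * y⁻¹) * (y * x₀ * y⁻¹) * (y * n * y⁻¹) * s₀ := by
            rw [hy', hndef]; group
        _ = n⁻¹ * (x₀⁻¹ * c * x₀) * n₀ * (y * n * y⁻¹) * s₀ := by
            rw [hys, hn0def, hc]; group
        _ = _ := by rw [mem_center_iff.1 hcz x₀⁻¹, inv_mul_cancel_right]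
    rw [e]
    exact N.mul_mem (N.mul_mem (N.mul_mem (N.mul_mem (N.inv_mem hn) hcN) hn₀) (hconjN n hn)) (hSN hs₀)
  set d : K → K := fun k => ⟨(k : G)⁻¹ * (y' * k * y'⁻¹), hNK (hN' k k.2)⟩ with hd
  have hdmul : ∀ a b, d (a * b) = b⁻¹ * d a * b * d b := fun a b => Subtype.ext (by simp [hd, mul_assoc])
  set D := closure (Set.range d) with hDdef
  have hDN : D ≤ N.subgroupOf K := (closure_le _).2 (by
    rintro _ ⟨k, rfl⟩
    exact mem_subgroupOf.2 (hN' k k.2))
  have hDconj : ∀ z ∈ D, ∀ b : K, b⁻¹ * z * b ∈ D := by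
    intro z hz b
    induction hz using Subgroup.closure_induction with
    | mem z hz =>
      obtain ⟨a, rfl⟩ := hz
      have e : b⁻¹ * d a * b = d (a * b) * (d b)⁻¹ := by rw [hdmul, mul_inv_cancel_right]
      rw [e]
      exact D.mul_mem (subset_closure ⟨_, rfl⟩) (D.inv_mem (subset_closure ⟨_, rfl⟩))
    | one => simp
    | mul z w _ _ hz hw =>
      have e : b⁻¹ * (z * w) * b = (b⁻¹ * z * b) * (b⁻¹ * w * b) := by group
      rw [e]
      exact D.mul_mem hz hw
    | inv z _ hz =>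
      have e : b⁻¹ * z⁻¹ * b = (b⁻¹ * z * b)⁻¹ := by group
      rw [e]
      exact D.inv_mem hz
  have hDn : D.Normal := ⟨fun z hz b => by simpa using hDconj z hz b⁻¹⟩
  have hDc : D ≤ center K := hqs D hDn fun e => hNne (le_antisymm hNK fun k hk =>
    mem_subgroupOf.1 (hDN (e ▸ mem_top (⟨k, hk⟩ : K))))
  have hz : ∀ a, d a ∈ center K := fun a => hDc (subset_closure ⟨a, rfl⟩)
  let f : K →* center K :=
    { toFun := fun k => ⟨d k, hz k⟩
      map_one' := Subtype.ext (Subtype.ext (by simp [hd]))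
      map_mul' := fun a b => Subtype.ext (by
        show d (a * b) = d a * d b
        rw [hdmul, mem_center_iff.1 (hz a) b⁻¹, inv_mul_cancel_right]) }
  have hp : commutator K = ⊤ := by
    refine map_injective K.subtype_injective ?_
    rw [map_subtype_commutator, hperf, ← MonoidHom.range_eq_map, range_subtype]
  have htriv : ∀ k, f k = 1 := fun k => by
    have hle : commutator K ≤ f.ker := Subgroup.commutator_le.2 fun a _ b _ => by
      rw [MonoidHom.mem_ker, map_commutatorElement]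
      exact commutatorElement_eq_one_iff_mul_comm.2
        (Subtype.ext (mem_center_iff.1 (f b).2 (f a : K)))
    exact hle (hp ▸ mem_top k)
  have hy'C : y' ∈ center G := hC (mem_centralizer_iff.2 fun k hk => by
    have h1 : k⁻¹ * (y' * k * y'⁻¹) = 1 := congrArg (fun z : center K => ((z : K) : G)) (htriv ⟨k, hk⟩)
    exact (mul_inv_eq_iff_eq_mul.1 (inv_mul_eq_one.1 h1).symm).symm)
  have e : y = s₀ * y' := by rw [hy']; group
  rw [e]
  exact mul_mem (mem_sup_left (hNK (hSN hs₀))) (mem_sup_right hy'C)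

end Cfsg.Lib.MinNonCA
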