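import Cfsg.Agent.Lib.MinNonCA.Defs
import Cfsg.Agent.Lib.Dickson.DihedralMax
import Cfsg.Agent.Lib.Dickson.CentralizerCard
import Cfsg.Agent.Lib.Dickson.Involutions
import Cfsg.Agent.Lib.Linear.DicksonTwo
import Cfsg.Agent.Lib.Dickson.Solvable
import Cfsg.Agent.Lib.GW.Basic

/-!
# Facts on `PSL₂(q)` for the minimal non-CA groups
-/

set_option autoImplicit false
set_option linter.style.haveILetI false

namespace Cfsg.Lib.MinNonCA

open Subgroup Matrix
open scoped MatrixGroups

theorem sq_one_of {X : Type*} [Group X] {x : X} (h : orderOf x = 2) : x ^ 2 = 1 :=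
  h ▸ pow_orderOf_eq_one x

variable {F : Type*} [Field F] [Fintype F]

local notation "SL2" => Matrix.SpecialLinearGroup (Fin 2) F
local notation "PSL2" => Matrix.ProjectiveSpecialLinearGroup (Fin 2) F

/-- The centraliser of an element which is not an involution is abelian. -/
theorem comm_cent_of_sq_ne {x : PSL2} (hx : x * x ≠ 1) : Comm (centralizer ({x} : Set PSL2)) := by
  obtain ⟨g, rfl⟩ := QuotientGroup.mk_surjective x
  have hgc : g ∉ center SL2 := fun e => hx (by
    rw [(QuotientGroup.eq_one_iff g).2 e, one_mul])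
  have key : ∀ a : SL2, Commute (QuotientGroup.mk g : PSL2) (QuotientGroup.mk a) → Commute a g := by
    intro a ha
    have hz : (a * g)⁻¹ * (g * a) ∈ center SL2 := QuotientGroup.eq.1 (by
      rw [QuotientGroup.mk_mul, QuotientGroup.mk_mul]; exact ha.eq.symm)
    set z := (a * g)⁻¹ * (g * a) with hzdef
    obtain ⟨z01, z10, z11⟩ := Cfsg.Lib.Dickson.mem_center_sl hz
    have he : g * a = a * g * z := by rw [hzdef, mul_inv_cancel_left]
    have hd := z.2
    rw [Matrix.det_fin_two, z01, z10, z11, mul_zero, sub_zero] at hd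
    by_cases h1 : z 0 0 = 1
    · have : z = 1 := by
        ext i j
        fin_cases i <;> fin_cases j <;> simp [z01, z10, z11, h1]
      rw [this, mul_one] at he
      exact he.symm
    · exfalso
      refine hx (Cfsg.Lib.Dickson.mk_sq_eq_one_of_trace ?_)
      have ha' := a.2
      rw [Matrix.det_fin_two] at ha'
      have e00 := congrArg (fun m : SL2 => m 0 0) he
      have e01 := congrArg (fun m : SL2 => m 0 1) he
      have e10 := congrArg (fun m : SL2 => m 1 0) he
      have e11 := congrArg (fun m : SL2 => m 1 1) he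
      simp [Matrix.mul_apply, Fin.sum_univ_two, z01, z10, z11] at e00 e01 e10 e11
      have hc : z 0 0 = -1 := (mul_self_eq_one_iff.1 hd).resolve_left h1
      rw [hc] at e00 e01 e10 e11
      have hne : (2 : F) ≠ 0 := fun h2 => h1 (by rw [hc]; linear_combination -h2)
      have ht : (g 0 0 + g 1 1) * 2 = 0 := by
        linear_combination
          a 1 1 * e00 - a 1 0 * e01 - a 0 1 * e10 + a 0 0 * e11 - 2 * (g 0 0 + g 1 1) * ha'
      exact (mul_eq_zero.1 ht).resolve_right hne
  intro a ha b hb
  obtain ⟨a, rfl⟩ := QuotientGroup.mk_surjective a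
  obtain ⟨b, rfl⟩ := QuotientGroup.mk_surjective b
  exact (Cfsg.Lib.Linear.Dickson.commute_of_commute hgc (key a (mem_cent.1 ha))
    (key b (mem_cent.1 hb))).map (QuotientGroup.mk' (center SL2))

/-- The centraliser of a nontrivial element of exponent `p` is a Sylow `p`-subgroup. -/
theorem exists_sylow_eq_cent (p : ℕ) [Fact p.Prime] [CharP F p] {x : PSL2} (hx : x ^ p = 1)
    (hx1 : x ≠ 1) : ∃ P : Sylow p PSL2, centralizer ({x} : Set PSL2) = (P : Subgroup PSL2) := by
  obtain ⟨P, hP⟩ := (IsPGroup.of_card (p := p) (n := 1)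
    (by rw [Nat.card_zpowers, orderOf_eq_prime hx hx1, pow_one]) :
    IsPGroup p (zpowers x)).exists_le_sylow
  exact ⟨P, Cfsg.Lib.Dickson.centralizer_eq_sylow p P (hP (mem_zpowers x)) hx1⟩

theorem normalizer_sylow_ne (h3 : 3 < Fintype.card F) (p : ℕ) [Fact p.Prime] [CharP F p]
    (P : Sylow p PSL2) : ¬ normalizer ((P : Subgroup PSL2) : Set PSL2) ≤ (P : Subgroup PSL2) := by
  intro hle
  have e : normalizer ((P : Subgroup PSL2) : Set PSL2) = (P : Subgroup PSL2) :=
    le_antisymm hle le_normalizer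
  have h1 := Cfsg.Lib.Dickson.card_normalizer_sylow_psl (F := F) p P
  rw [e, Cfsg.Lib.Dickson.card_sylow_psl p P, mul_comm] at h1
  have h2 := Nat.eq_of_mul_eq_mul_left (by omega) h1
  have := Nat.le_of_dvd two_pos (Nat.gcd_dvd_left 2 (Fintype.card F - 1))
  omega

theorem exists_inverting' (p : ℕ) [Fact p.Prime] [CharP F p] {x : PSL2} (hx : x ^ p ≠ 1) :
    ∃ w : PSL2, w * x * w⁻¹ = x⁻¹ := by
  obtain ⟨g, rfl⟩ := QuotientGroup.mk_surjective x
  obtain ⟨w, -, hw⟩ := Cfsg.Lib.Dickson.exists_inverting p g hx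
  exact ⟨w, hw⟩

theorem psl_isSimple (h : 4 ≤ Fintype.card F) : IsSimpleGroup PSL2 :=
  Matrix.ProjectiveSpecialLinearGroup.rank_two_simple (by rw [Nat.card_eq_fintype_card]; exact h)

theorem psl_not_solvable (h : 4 ≤ Fintype.card F) : ¬ Group.IsSolvable PSL2 :=
  Cfsg.Lib.Dickson.not_isSolvable_psl h

/-- Centralisers of involutions are maximal dihedral subgroups. -/
theorem cent_invol_coatom (h2 : Fintype.card F % 2 = 1) (h11 : 11 ≤ Fintype.card F) {t : PSL2}
    (ht : orderOf t = 2) :
    IsCoatom (centralizer ({t} : Set PSL2)) ∧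
      ∃ u ∈ centralizer ({t} : Set PSL2), orderOf u = 2 ∧
        ∃ a ∈ centralizer ({t} : Set PSL2), ¬ Commute u a := by
  set q := Fintype.card F with hq
  have hd : Nat.gcd 2 (q - 1) = 2 := Nat.gcd_eq_left (by omega)
  obtain ⟨n, hn, hev, hcard⟩ : ∃ n : ℕ, ((n = (q + 1) / Nat.gcd 2 (q - 1) ∧ q ≠ 7) ∨
      (n = (q - 1) / Nat.gcd 2 (q - 1) ∧ q ≠ 5 ∧ q ≠ 7 ∧ q ≠ 11)) ∧ n % 2 = 0 ∧
      ∀ x : PSL2, x ^ 2 = 1 → x ≠ 1 → Nat.card (centralizer ({x} : Set PSL2)) = 2 * n := by
    rw [hd]
    rcases Nat.lt_or_ge (q % 4) 2 with h4 | h4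
    · refine ⟨(q - 1) / 2, Or.inr ⟨rfl, by omega, by omega, by omega⟩, by omega, fun x hx hx1 => ?_⟩
      rw [(Cfsg.Lib.Dickson.card_centralizer_involution h2 (by omega) hx hx1).1 (by omega)]
      omega
    · refine ⟨(q + 1) / 2, Or.inl ⟨rfl, by omega⟩, by omega, fun x hx hx1 => ?_⟩
      rw [(Cfsg.Lib.Dickson.card_centralizer_involution h2 (by omega) hx hx1).2 (by omega)]
      omega
  have hn3 : 3 ≤ n := by rw [hd] at hn; omega
  obtain ⟨H, hH, ⟨e⟩⟩ := Cfsg.Lib.Dickson.exists_maximal_dihedral (F := F) n (by omega) (by omega) hn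
  haveI : NeZero n := ⟨by omega⟩
  set z : PSL2 := ((e.symm (DihedralGroup.r ((n / 2 : ℕ) : ZMod n)) : H) : PSL2) with hz
  have hz2 : orderOf z = 2 := by
    rw [hz, Subgroup.orderOf_coe, MulEquiv.orderOf_eq, DihedralGroup.orderOf_r, ZMod.val_natCast,
      Nat.mod_eq_of_lt (by omega),
      Nat.gcd_eq_right ⟨2, by omega⟩]
    exact Nat.div_eq_of_eq_mul_left (by omega) (by omega)
  have hzc : H ≤ centralizer ({z} : Set PSL2) := by
    intro a ha
    refine mem_cent.2 (congrArg Subtype.val (?_ : e.symm (DihedralGroup.r ((n / 2 : ℕ) : ZMod n)) * ⟨a, ha⟩ =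
      ⟨a, ha⟩ * e.symm (DihedralGroup.r ((n / 2 : ℕ) : ZMod n))))
    apply e.injective
    rw [map_mul, map_mul, MulEquiv.apply_symm_apply]
    have h0 : ((n / 2 : ℕ) : ZMod n) + ((n / 2 : ℕ) : ZMod n) = 0 := by
      rw [← Nat.cast_add, show n / 2 + n / 2 = n by omega, ZMod.natCast_self]
    have hneg : -((n / 2 : ℕ) : ZMod n) = ((n / 2 : ℕ) : ZMod n) := neg_eq_of_add_eq_zero_left h0
    rcases e ⟨a, ha⟩ with i | i <;>
      simp [DihedralGroup.r_mul_r, DihedralGroup.r_mul_sr, DihedralGroup.sr_mul_r, add_comm, sub_eq_add_neg, hneg]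
  have hz1 : z ≠ 1 := fun h => by rw [h, orderOf_one] at hz2; norm_num at hz2
  have hzH : H = centralizer ({z} : Set PSL2) :=
    eq_of_le_of_card_ge hzc (by
      rw [hcard z (sq_one_of hz2) hz1, Nat.card_congr e.toEquiv, DihedralGroup.nat_card])
  have ht1 : t ≠ 1 := fun h => by rw [h, orderOf_one] at ht; norm_num at ht
  obtain ⟨c, hc⟩ := Cfsg.Lib.Dickson.exists_conj_involution h2 (x := z) (y := t)
    (sq_one_of hz2) hz1 (sq_one_of ht) ht1
  set φ : PSL2 ≃* PSL2 := MulAut.conj c⁻¹ with hφ
  have hφa : ∀ a, φ a = c⁻¹ * a * c := fun a => by simp [hφ, MulAut.conj_apply]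
  have hmap : centralizer ({t} : Set PSL2) = H.map φ.toMonoidHom := by
    ext a
    rw [Subgroup.mem_map_equiv, hzH, mem_cent, mem_cent, ← commute_conj_iff (h := c⁻¹)
      (a := z) (b := φ.symm a), inv_inv, hc, ← hφa, MulEquiv.apply_symm_apply]
  refine ⟨?_, ?_⟩
  · rw [hmap]
    exact (OrderIso.isCoatom_iff (φ.mapSubgroup) H).2 hH
  · set u : PSL2 := ((e.symm (DihedralGroup.sr 0) : H) : PSL2) with hu
    set a : PSL2 := ((e.symm (DihedralGroup.r 1) : H) : PSL2) with ha
    refine ⟨φ u, hmap.ge ⟨u, SetLike.coe_mem _, rfl⟩, ?_, φ a, hmap.ge ⟨a, SetLike.coe_mem _, rfl⟩, fun hc' => ?_⟩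
    · rw [MulEquiv.orderOf_eq, hu, Subgroup.orderOf_coe, MulEquiv.orderOf_eq, DihedralGroup.orderOf_sr]
    · have h1 : Commute u a := hc'.of_map φ.injective
      have h2' : e.symm (DihedralGroup.sr 0) * e.symm (DihedralGroup.r 1) =
          e.symm (DihedralGroup.r 1) * e.symm (DihedralGroup.sr 0) := Subtype.ext h1
      rw [← map_mul, ← map_mul] at h2'
      have h3 := e.symm.injective h2'
      simp only [DihedralGroup.sr_mul_r, DihedralGroup.r_mul_sr, DihedralGroup.sr.injEq, zero_add,
        zero_sub] at h3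
      have h4 : ((2 : ℕ) : ZMod n) = 0 := by push_cast; linear_combination h3
      rw [ZMod.natCast_eq_zero_iff] at h4
      have := Nat.le_of_dvd two_pos h4
      omega

/-- A subgroup of odd prime power small index argument: the index of a proper subgroup. -/
theorem index_dvd_factorial {X : Type*} [Group X] [Finite X] [IsSimpleGroup X] {H : Subgroup X}
    (hH : H ≠ ⊤) : Nat.card X ∣ H.index.factorial := by
  classical
  haveI := Fintype.ofFinite (X ⧸ H)
  have hker : (MulAction.toPermHom X (X ⧸ H)).ker = ⊥ := by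
    rw [← Subgroup.normalCore_eq_ker]
    exact H.normalCore_normal.eq_bot_or_eq_top.resolve_right fun e =>
      hH (top_le_iff.1 (e ▸ H.normalCore_le))
  have h1 := Subgroup.card_dvd_of_injective _ ((MonoidHom.ker_eq_bot_iff _).1 hker)
  rwa [Nat.card_perm, ← Subgroup.index_eq_card] at h1

/-- No proper subgroup of `PSL₂(q)`, `q ≥ 7` odd, contains an involution and the centraliser of
each of its involutions. -/
theorem no_closed_subgroup (h2 : Fintype.card F % 2 = 1) (h7 : 7 ≤ Fintype.card F)
    (hSD : Cfsg.Lib.GW.SylowDihedral PSL2) {H : Subgroup PSL2} (hH : H ≠ ⊤) {t : PSL2} (ht : t ∈ H) (ht2 : orderOf t = 2)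
    (hcl : ∀ w ∈ H, orderOf w = 2 → centralizer ({w} : Set PSL2) ≤ H) : False := by
  haveI : Fact (Nat.Prime 2) := ⟨Nat.prime_two⟩
  set q := Fintype.card F with hq
  by_cases h11 : 11 ≤ q
  · obtain ⟨hco, u, hu, hu2, a, ha, hua⟩ := cent_invol_coatom h2 h11 ht2
    have e1 : H = centralizer ({t} : Set PSL2) := ((hco.le_iff.1 (hcl t ht ht2)).resolve_left hH)
    have hco' := (cent_invol_coatom h2 h11 hu2).1
    have e2 : H = centralizer ({u} : Set PSL2) := (hco'.le_iff.1 (hcl u (e1.ge hu) hu2)).resolve_left hH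
    exact hua (mem_cent.1 ((e2.symm.trans e1).ge ha))
  have hd : Nat.gcd 2 (q - 1) = 2 := Nat.gcd_eq_left (by omega)
  have hcardX := Cfsg.Lib.Linear.Two.card_PSL_two (F := F)
  rw [← hq, hd] at hcardX
  have hq79 : q = 7 ∨ q = 9 := by omega
  have hC : ∀ w : PSL2, orderOf w = 2 → Nat.card (centralizer ({w} : Set PSL2)) = 8 := by
    intro w hw
    have hw1 : w ≠ 1 := fun h => by rw [h, orderOf_one] at hw; norm_num at hw
    obtain ⟨h1, h3⟩ := Cfsg.Lib.Dickson.card_centralizer_involution (F := F) h2 h7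
      (x := w) (sq_one_of hw) hw1
    rcases hq79 with e | e
    · rw [h3 (by omega)]; omega
    · rw [h1 (by omega)]; omega
  haveI := psl_isSimple (F := F) (by omega)
  obtain ⟨eC⟩ : Nonempty (centralizer ({t} : Set PSL2) ≃* DihedralGroup 4) := by
    have hC8 : Nat.card (centralizer ({t} : Set PSL2)) = 2 ^ 3 := by rw [hC t ht2]; norm_num
    have hidx : ¬ 2 ∣ (centralizer ({t} : Set PSL2)).index := by
      have h1 := card_mul_index (centralizer ({t} : Set PSL2))
      rw [hC8] at h1
      intro hdvd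
      have h16 : 16 ∣ Nat.card PSL2 := h1 ▸ (Nat.mul_dvd_mul_left 8 hdvd)
      rcases hq79 with e | e <;> rw [e] at hcardX <;> omega
    obtain ⟨n, -, ⟨e⟩⟩ := hSD ((IsPGroup.of_card hC8).toSylow hidx)
    have hn4 : n = 4 := by
      have := Nat.card_congr e.toEquiv
      rw [DihedralGroup.nat_card] at this
      change Nat.card (centralizer ({t} : Set PSL2)) = 2 * n at this
      omega
    subst hn4
    exact ⟨e⟩
  have hnc : ¬ Comm (centralizer ({t} : Set PSL2)) := fun hc => by
    have h1 : eC.symm (DihedralGroup.r 1) * eC.symm (DihedralGroup.sr 0) =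
        eC.symm (DihedralGroup.sr 0) * eC.symm (DihedralGroup.r 1) :=
      Subtype.ext (hc _ (SetLike.coe_mem _) _ (SetLike.coe_mem _))
    rw [← map_mul, ← map_mul] at h1
    exact absurd (eC.symm.injective h1) (by decide)
  set C := centralizer ({t} : Set PSL2) with hCdef
  have hCH : C ≤ H := hcl t ht ht2
  have h8 : 8 ∣ Nat.card H := hC t ht2 ▸ card_dvd_of_le hCH
  obtain ⟨m, hm⟩ := h8
  have hmX : 8 * m ∣ Nat.card PSL2 := hm ▸ card_subgroup_dvd_card H
  have hlt : Nat.card H < Nat.card PSL2 := by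
    refine lt_of_le_of_ne (Nat.le_of_dvd Nat.card_pos (card_subgroup_dvd_card H)) fun e => hH ?_
    exact Subgroup.eq_top_of_card_eq H e
  have hm0 : 0 < m := by
    rcases Nat.eq_zero_or_pos m with rfl | h0
    · have := (Nat.card_pos : 0 < Nat.card H); omega
    · exact h0
  have hodd : ¬ 2 ∣ m := by
    intro hd2
    have : 16 ∣ Nat.card PSL2 := (Nat.mul_dvd_mul_left 8 hd2).trans hmX
    rcases hq79 with e | e <;> rw [e] at hcardX <;> omega
  have key : 5 ≤ m := by
    classical
    haveI := Fintype.ofFinite H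
    -- the centralisers of the involutions of `H` are its Sylow subgroups
    have sw : ∀ w ∈ C, orderOf w = 2 → ∃ P : Sylow 2 H,
        (P : Subgroup H) = (centralizer ({w} : Set PSL2)).subgroupOf H := by
      intro w hw hw2
      have hle := hcl w (hCH hw) hw2
      have hc : Nat.card ((centralizer ({w} : Set PSL2)).subgroupOf H) = 2 ^ 3 := by
        rw [Nat.card_congr (subgroupOfEquivOfLe hle).toEquiv, hC w hw2]; norm_num
      refine ⟨(IsPGroup.of_card hc).toSylow ?_, rfl⟩
      intro hdvd
      have h1 := card_mul_index ((centralizer ({w} : Set PSL2)).subgroupOf H)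
      rw [hc, hm] at h1
      have h2' : ((centralizer ({w} : Set PSL2)).subgroupOf H).index = m := by omega
      exact hodd (h2' ▸ hdvd)
    choose P hP using sw
    have hS : Nat.card (Sylow 2 H) ∣ m := by
      obtain ⟨P₀⟩ : Nonempty (Sylow 2 H) := inferInstance
      obtain ⟨P₁, hP₁⟩ : ∃ P₁ : Sylow 2 H, (P₁ : Subgroup H) = C.subgroupOf H :=
        ⟨P t (self_mem_cent t) ht2, hP t (self_mem_cent t) ht2⟩
      refine P₁.card_dvd_index.trans ?_
      have h1 := card_mul_index (P₁ : Subgroup H)
      rw [hP₁, Nat.card_congr (subgroupOfEquivOfLe hCH).toEquiv, hC t ht2, hm] at h1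
      rw [hP₁]
      exact dvd_of_eq (Nat.eq_of_mul_eq_mul_left (by norm_num) h1)
    have hinj : ∀ w (hw : w ∈ C) (hw2 : orderOf w = 2) w' (hw' : w' ∈ C) (hw2' : orderOf w' = 2),
        P w hw hw2 = P w' hw' hw2' → w = w' := by
      intro w hw hw2 w' hw' hw2' e
      by_contra hne
      set D := centralizer ({w} : Set PSL2) with hD
      have e' : centralizer ({w'} : Set PSL2) = D := by
        have := congrArg (fun Q : Sylow 2 H => (Q : Subgroup H).map H.subtype) e
        simp only [hP, subgroupOf_map_subtype, inf_eq_left.2 (hcl w (hCH hw) hw2),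
          inf_eq_left.2 (hcl w' (hCH hw') hw2')] at this
        exact this.symm
      have hw'D : w' ∈ D := e' ▸ self_mem_cent w'
      have hc1 : (⟨w, self_mem_cent w⟩ : D) ∈ center D :=
        mem_center_iff'.2 fun y => Subtype.ext (mem_cent.1 y.2)
      have hc2 : (⟨w', hw'D⟩ : D) ∈ center D :=
        mem_center_iff'.2 fun y => Subtype.ext (mem_cent.1 (e'.ge y.2))
      have hc4 : 3 ≤ Nat.card (center D) := by
        let f : Fin 3 → center D := ![1, ⟨_, hc1⟩, ⟨_, hc2⟩]
        have hf : Function.Injective f := by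
          have w1 : w ≠ 1 := fun h => by rw [h, orderOf_one] at hw2; norm_num at hw2
          have w1' : w' ≠ 1 := fun h => by rw [h, orderOf_one] at hw2'; norm_num at hw2'
          intro i j hij
          have hij' := congrArg (fun y : center D => ((y : D) : PSL2)) hij
          fin_cases i <;> fin_cases j <;>
            simp [f, w1, w1', hne, w1.symm, w1'.symm, Ne.symm hne] at hij' ⊢
        have := Nat.card_le_card_of_injective f hf
        simpa using this
      have hidx : (center D).index ≤ 2 := by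
        have h1 := card_mul_index (center D)
        rw [hC w hw2] at h1
        by_contra hgt
        nlinarith
      haveI : IsCyclic (D ⧸ center D) := by
        rcases Nat.lt_or_ge (center D).index 2 with h1 | h1
        · haveI : Subsingleton (D ⧸ center D) := Finite.card_le_one_iff_subsingleton.1 (by
            rw [← index_eq_card]; omega)
          infer_instance
        · exact isCyclic_of_prime_card (p := 2) (by rw [← index_eq_card]; omega)
      refine hnc ?_
      have hDc : Comm D := fun a ha b hb => by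
        show a * b = b * a
        refine congrArg Subtype.val (?_ : (⟨a, ha⟩ : D) * ⟨b, hb⟩ = ⟨b, hb⟩ * ⟨a, ha⟩)
        have := commutative_of_cyclic_center_quotient (QuotientGroup.mk' (center D))
          (QuotientGroup.ker_mk' _).le
        exact this ⟨a, ha⟩ ⟨b, hb⟩
      -- all these centralisers are conjugate
      obtain ⟨c, hc⟩ := Cfsg.Lib.Dickson.exists_conj_involution h2 (x := w) (y := t)
        (sq_one_of hw2) (fun h => by rw [h, orderOf_one] at hw2; norm_num at hw2)
        (sq_one_of ht2) (fun h => by rw [h, orderOf_one] at ht2; norm_num at ht2)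
      intro a ha b hb
      have tr : ∀ y ∈ C, c * y * c⁻¹ ∈ D := fun y hy => mem_cent.2 (by
        have := (commute_conj_iff (h := c)).2 (mem_cent.1 hy)
        rwa [← hc, show c * (c⁻¹ * w * c) * c⁻¹ = w by group] at this)
      exact commute_conj_iff.1 (hDc _ (tr a ha) _ (tr b hb))
    -- five involutions in the dihedral group `C`
    have hcnt : 5 ≤ Nat.card {w : C // orderOf w = 2} := by
      let f : {d : DihedralGroup 4 // d * d = 1 ∧ d ≠ 1} → {w : C // orderOf w = 2} := fun d =>
        ⟨eC.symm d.1, (eC.symm.orderOf_eq d.1).trans (orderOf_eq_prime (by rw [sq]; exact d.2.1) d.2.2)⟩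
      have hf : Function.Injective f := fun a b hab => Subtype.ext
        (eC.symm.injective (congrArg Subtype.val hab))
      have h5 : Nat.card {d : DihedralGroup 4 // d * d = 1 ∧ d ≠ 1} = 5 := by
        rw [Nat.card_eq_fintype_card]; decide
      exact h5 ▸ Nat.card_le_card_of_injective f hf
    refine le_trans hcnt ((Nat.card_le_card_of_injective
      (fun w : {w : C // orderOf w = 2} => P w.1 w.1.2 (by rw [Subgroup.orderOf_coe]; exact w.2)) ?_).trans
      (Nat.le_of_dvd hm0 hS))
    exact fun w w' e => Subtype.ext (Subtype.ext (hinj _ _ _ _ _ _ e))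
  have hidx : H.index * (8 * m) = Nat.card PSL2 := by rw [← hm, mul_comm, card_mul_index]
  have hfac := index_dvd_factorial hH
  rcases hq79 with e | e <;> rw [e] at hcardX <;> norm_num at hcardX
  · have h168 : Nat.card PSL2 = 168 := by omega
    rw [h168] at hmX hlt hidx hfac
    have hm21 : m ∣ 21 := Nat.dvd_of_mul_dvd_mul_left (by norm_num : 0 < 8) hmX
    have : m ∈ Nat.divisors 21 := Nat.mem_divisors.2 ⟨hm21, by norm_num⟩
    rw [show Nat.divisors 21 = {1, 3, 7, 21} by decide] at this
    simp only [Finset.mem_insert, Finset.mem_singleton] at this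
    rcases this with rfl | rfl | rfl | rfl <;> try omega
    have : H.index = 3 := by omega
    rw [this] at hfac
    norm_num [Nat.factorial] at hfac
  · have h360 : Nat.card PSL2 = 360 := by omega
    rw [h360] at hmX hlt hidx hfac
    have hm45 : m ∣ 45 := Nat.dvd_of_mul_dvd_mul_left (by norm_num : 0 < 8) hmX
    have : m ∈ Nat.divisors 45 := Nat.mem_divisors.2 ⟨hm45, by norm_num⟩
    rw [show Nat.divisors 45 = {1, 3, 5, 9, 15, 45} by decide] at this
    simp only [Finset.mem_insert, Finset.mem_singleton] at this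
    rcases this with rfl | rfl | rfl | rfl | rfl | rfl <;> try omega
    · exact no_forty hq h2 e hm (hC t ht2) hCH hnc
    · have : H.index = 5 := by omega
      rw [this] at hfac
      norm_num [Nat.factorial] at hfac
    · have : H.index = 3 := by omega
      rw [this] at hfac
      norm_num [Nat.factorial] at hfac
where
  no_forty {H C : Subgroup PSL2} {q : ℕ} (hq : q = Fintype.card F) (h2 : q % 2 = 1) (e : q = 9)
      (hm : Nat.card H = 8 * 5) (h8 : Nat.card C = 8) (hCH : C ≤ H) (hnc : ¬ Comm C) : False := by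
    haveI : Fact (Nat.Prime 3) := ⟨Nat.prime_three⟩
    haveI : Fact (Nat.Prime 5) := ⟨by norm_num⟩
    obtain ⟨p', hpp, hp', j, hj0, hj⟩ := Cfsg.Lib.Dickson.exists_char (F := F)
    have hp3 : p' = 3 := by
      have h39 : p' ∣ 3 ^ 2 := by
        have := hj ▸ dvd_pow_self p' hj0.ne'
        rw [← hq, e] at this
        simpa using this
      exact (Nat.prime_dvd_prime_iff_eq hpp Nat.prime_three).1 (hpp.dvd_of_dvd_pow h39)
    subst hp3
    obtain ⟨P⟩ : Nonempty (Sylow 5 H) := inferInstance
    have hP5 : Nat.card (P : Subgroup H) = 5 := by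
      obtain ⟨k, hk⟩ := IsPGroup.iff_card.1 P.2
      have hd1 := card_subgroup_dvd_card (P : Subgroup H)
      have hd2 := P.dvd_card_of_dvd_card (show 5 ∣ Nat.card H from hm ▸ dvd_mul_left 5 8)
      rw [hk, hm] at hd1
      rcases Nat.lt_or_ge k 2 with hk2 | hk2
      · interval_cases k <;> simp_all
      · have := (pow_dvd_pow 5 hk2).trans hd1
        norm_num at this
    haveI : Subsingleton (Sylow 5 H) := by
      rw [← Finite.card_le_one_iff_subsingleton]
      have hd := P.card_dvd_index
      have hmod := card_sylow_modEq_one 5 H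
      have hidx : (P : Subgroup H).index = 8 := by
        have := card_mul_index (P : Subgroup H)
        rw [hP5, hm] at this
        omega
      rw [hidx] at hd
      have hle := Nat.le_of_dvd (by norm_num) hd
      unfold Nat.ModEq at hmod
      interval_cases h : Nat.card (Sylow 5 H) <;> omega
    haveI : (P : Subgroup H).Normal := inferInstance
    obtain ⟨x, hx⟩ := exists_prime_orderOf_dvd_card' (G := (P : Subgroup H)) 5 (dvd_of_eq hP5.symm)
    set y : PSL2 := ((x : H) : PSL2) with hy
    have hy5 : orderOf y = 5 := by rw [hy, Subgroup.orderOf_coe, Subgroup.orderOf_coe, hx]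
    have hconj : ∀ c ∈ C, ∃ i : ℤ, c * y * c⁻¹ = y ^ i := by
      intro c hc
      have hm' := ‹(P : Subgroup H).Normal›.conj_mem _ x.2 ⟨c, hCH hc⟩
      have hgen : zpowers x = ⊤ := eq_top_of_card_eq _ (by rw [Nat.card_zpowers, hx, hP5])
      obtain ⟨i, hi⟩ := mem_zpowers_iff.1 (hgen.ge (mem_top (⟨_, hm'⟩ : (P : Subgroup H))))
      exact ⟨i, (congrArg (fun z : (P : Subgroup H) => ((z : H) : PSL2)) hi).symm⟩
    obtain ⟨a, ha, b, hb, hab⟩ := not_comm_iff.1 hnc
    obtain ⟨i, hi⟩ := hconj a ha
    obtain ⟨j', hj'⟩ := hconj b hb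
    have hcomm : Commute y ((b * a)⁻¹ * (a * b)) := by
      have h1 : a * b * y * (a * b)⁻¹ = y ^ (i * j') := by
        calc a * b * y * (a * b)⁻¹ = a * (b * y * b⁻¹) * a⁻¹ := by group
          _ = a * y ^ j' * a⁻¹ := by rw [hj']
          _ = _ := by rw [← conj_zpow, hi, ← _root_.zpow_mul]
      have h2 : b * a * y * (b * a)⁻¹ = y ^ (i * j') := by
        calc b * a * y * (b * a)⁻¹ = b * (a * y * a⁻¹) * b⁻¹ := by group
          _ = b * y ^ i * b⁻¹ := by rw [hi]
          _ = _ := by rw [← conj_zpow, hj', ← _root_.zpow_mul, mul_comm]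
      have h3 := h1.trans h2.symm
      refine (mul_inv_eq_iff_eq_mul.1 ?_).symm
      calc (b * a)⁻¹ * (a * b) * y * ((b * a)⁻¹ * (a * b))⁻¹
          = (b * a)⁻¹ * (a * b * y * (a * b)⁻¹) * (b * a) := by group
        _ = y := by rw [h3]; group
    have hcne : (b * a)⁻¹ * (a * b) ≠ 1 := fun e' => hab (inv_mul_eq_one.1 e').symm
    have hcard := Cfsg.Lib.Dickson.card_centralizer_semisimple (F := F) (by omega) 3 (x := y)
      (fun e' => by
        have := Nat.le_of_dvd two_pos (orderOf_dvd_of_pow_eq_one e')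
        omega) (by rw [hy5]; norm_num)
    rw [← hq, e] at hcard
    norm_num [hy5] at hcard
    have hmem : (b * a)⁻¹ * (a * b) ∈ C := mul_mem (inv_mem (mul_mem hb ha)) (mul_mem ha hb)
    refine hcne (pow_eq_one_of_coprime (n := 8) (m := 5) ?_ ?_ (by norm_num))
    · have := pow_card_eq_one' (x := (⟨_, hmem⟩ : C))
      rw [h8] at this
      exact congrArg Subtype.val this
    · have := pow_card_eq_one' (x := (⟨_, mem_cent.2 hcomm⟩ : centralizer ({y} : Set PSL2)))
      rw [hcard] at this
      exact congrArg Subtype.val this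

end Cfsg.Lib.MinNonCA
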