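import Cfsg.Agent.Lib.MinNonCA.Radical

/-!
# Minimal non-CA groups: the component
-/

set_option autoImplicit false
set_option linter.style.haveILetI false

namespace Cfsg.Lib.MinNonCA

open Subgroup
open scoped Pointwise

variable {G : Type*} [Group G] [Finite G]

/-- `K` is a normal quasisimple subgroup with central centraliser. -/
structure IsMainComp (K : Subgroup G) : Prop where
  normal : K.Normal
  quasi : Cfsg.IsQuasisimple K
  cent : centralizer (K : Set G) ≤ center G

/-- A non-solvable minimal non-CA group has a unique component, and its centraliser is central. -/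
theorem Min.exists_mainComp (h : Min G) : ∃ K : Subgroup G, IsMainComp K := by
  haveI := Cfsg.Lib.Core.fittingSubgroup_normal' G
  haveI := Cfsg.Lib.Core.fittingSubgroup_isNilpotent G
  have hF : Cfsg.fittingSubgroup G ≤ center G :=
    h.solvable_normal_le_center IsNilpotent.to_isSolvable
  obtain ⟨L, hL⟩ : ∃ L : Subgroup G, Cfsg.IsComponent L := by
    by_contra hc
    simp only [not_exists] at hc
    have e := Cfsg.Lib.Core.generalizedFitting_eq_fitting_of_layer_eq_bot
      (Cfsg.Lib.Core.layer_eq_bot_iff.2 hc)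
    have h1 := Cfsg.Lib.Core.centralizer_generalizedFitting_le (G := G)
    rw [e] at h1
    have htop : Cfsg.fittingSubgroup G = ⊤ := top_le_iff.1 fun x _ => h1
      (mem_centralizer_iff.2 fun f hf => (mem_center_iff.1 (hF hf) x).symm)
    exact h.notSolvable (isSolvable_of_eq_top IsNilpotent.to_isSolvable htop)
  have hne : ∀ L' : Subgroup G, Cfsg.IsComponent L' → L' = L := by
    intro L' hL'
    by_contra hne
    have hcomm : ∀ a ∈ L', ∀ b ∈ L, Commute a b :=
      Cfsg.Lib.Core.commutator_eq_bot_iff_forall.1 (Cfsg.Lib.Core.component_commute hL' hL hne)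
    haveI := Cfsg.Lib.Core.quasisimple_nontrivial hL.2
    obtain ⟨s, hs, P, hPn, hPc⟩ :=
      exists_sylow_normalizer L (Cfsg.Lib.Core.quasisimple_commutator hL.2)
    set D := normalizer ((P : Subgroup L) : Set L) with hD
    set L₁ := D.map L.subtype with hL1
    have hL₁c : ¬ Comm L₁ := fun hc => hPc fun a ha b hb =>
      (hc _ ⟨a, ha, rfl⟩ _ ⟨b, hb, rfl⟩).of_map L.subtype_injective
    have hsup : L' ⊔ L₁ ≠ ⊤ := by
      intro htop
      refine hPn (normalizer_eq_top_iff.1 (hD ▸ ?_))
      haveI hDn : D.Normal := by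
        refine ⟨fun a ha x => ?_⟩
        have hx : (x : G) ∈ L₁ ⊔ L' := by rw [sup_comm, htop]; exact mem_top _
        have hnorm : L₁ ≤ normalizer (L' : Set G) := by
          refine le_trans ?_ (centralizer_le_normalizer _)
          rintro _ ⟨c, -, rfl⟩
          exact mem_centralizer_iff.2 fun z hz => hcomm z hz _ c.2
        have hmem : (x : G) ∈ (L₁ : Set G) * (L' : Set G) := by
          rw [← coe_mul_of_left_le_normalizer_right _ _ hnorm]
          exact hx
        obtain ⟨_, ⟨d, hd, rfl⟩, l, hl, he⟩ := hmem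
        have hl' : l ∈ L := by
          have e : l = (L.subtype d)⁻¹ * (x : G) := by rw [← he]; group
          exact e ▸ L.mul_mem (L.inv_mem d.2) x.2
        have hcl : ∀ b : L, Commute (⟨l, hl'⟩ : L) b := fun b => Subtype.ext (hcomm l hl _ b.2)
        have ex : x = d * ⟨l, hl'⟩ := Subtype.ext he.symm
        rw [ex, mul_inv_rev, show d * ⟨l, hl'⟩ * a * ((⟨l, hl'⟩ : L)⁻¹ * d⁻¹) =
          d * ((⟨l, hl'⟩ : L) * a * (⟨l, hl'⟩ : L)⁻¹) * d⁻¹ by group, (hcl a).eq, mul_inv_cancel_right]
        exact D.mul_mem (D.mul_mem hd ha) (D.inv_mem hd)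
      rcases Cfsg.Lib.Core.quasisimple_normal hL.2 (N := D) with hle | he
      · refine absurd (fun a ha b hb => ?_) hPc
        exact (mem_center_iff.1 (hle hb) a)
      · exact he
    refine Cfsg.Lib.Core.quasisimple_not_solvable hL'.2 (Comm.isSolvable fun a ha b hb => ?_)
    refine h.proper.central_of_not_comm hsup (mem_sup_left ha) le_sup_right hL₁c ?_ b (mem_sup_left hb)
    rintro _ ⟨c, -, rfl⟩
    exact hcomm a ha _ c.2
  have hn : L.Normal := ⟨fun x hx g => by
    have he := hne _ (Cfsg.Lib.Core.IsComponent.map_conj hL g)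
    rw [← he]
    exact ⟨x, hx, rfl⟩⟩
  haveI := hn
  exact ⟨L, hn, hL.2, h.centralizer_perfect_le (Cfsg.Lib.Core.IsComponent.ne_bot hL)
    (Cfsg.Lib.Core.IsComponent.commutator_eq hL)⟩

omit [Finite G] in
theorem IsMainComp.perfect {K : Subgroup G} (hK : IsMainComp K) : commutator K = ⊤ :=
  Cfsg.Lib.Core.quasisimple_commutator hK.quasi

omit [Finite G] in
theorem IsMainComp.mem_center {K : Subgroup G} (hK : IsMainComp K) {x : K} :
    x ∈ center K ↔ (x : G) ∈ center G := by
  refine ⟨fun hx => hK.cent (mem_centralizer_iff.2 fun k hk => ?_), fun hx => ?_⟩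
  · exact congrArg Subtype.val (mem_center_iff.1 hx ⟨k, hk⟩)
  · exact mem_center_iff.2 fun y => Subtype.ext (mem_center_iff.1 hx y)

omit [Finite G] in
theorem IsMainComp.not_le_center {K : Subgroup G} (hK : IsMainComp K) : ¬ K ≤ center G := fun hle =>
  Cfsg.Lib.Core.quasisimple_center_ne_top hK.quasi
    (top_le_iff.1 fun x _ => hK.mem_center.2 (hle x.2))

end Cfsg.Lib.MinNonCA
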