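import Cfsg.Agent.Lib.MinNonCA.PSLCA
import Cfsg.Agent.S0799

/-!
# The listed `PSL₂(q)` are minimal non-CA
-/

set_option autoImplicit false
set_option linter.style.haveILetI false

namespace Cfsg.Lib.MinNonCA

open Subgroup Matrix
open scoped MatrixGroups

theorem CA.of_comm {X : Type*} [Group X] (h : ∀ a b : X, a * b = b * a) : CA X :=
  ca_of_comm fun _ _ a _ b _ => h a b

/-- Dihedral groups are CA. -/
theorem dihedral_ca (k : ℕ) : CA (DihedralGroup k) := by
  refine ca_of_comm fun x hx a ha b hb => ?_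
  have ha' := (mem_cent.1 ha).eq
  have hb' := (mem_cent.1 hb).eq
  rcases x with i | i
  · have hi : i + i ≠ 0 := fun h0 => hx (mem_center_iff'.2 fun y => by
      rcases y with j | j
      · show _ = _
        simp only [DihedralGroup.r_mul_r, add_comm]
      · show _ = _
        simp only [DihedralGroup.r_mul_sr, DihedralGroup.sr_mul_r, DihedralGroup.sr.injEq]
        linear_combination -h0)
    rcases a with j | j <;> rcases b with l | l <;>
      simp only [DihedralGroup.r_mul_r, DihedralGroup.r_mul_sr, DihedralGroup.sr_mul_r,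
        DihedralGroup.sr.injEq] at ha' hb' <;>
      first
        | (show _ = _; simp only [DihedralGroup.r_mul_r, add_comm])
        | exact absurd (by linear_combination -ha' : i + i = 0) hi
        | exact absurd (by linear_combination -hb' : i + i = 0) hi
  · show _ = _
    rcases a with j | j <;> rcases b with l | l <;>
      simp only [DihedralGroup.r_mul_r, DihedralGroup.r_mul_sr, DihedralGroup.sr_mul_r,
        DihedralGroup.sr_mul_sr, DihedralGroup.sr.injEq, DihedralGroup.r.injEq] at ha' hb' ⊢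
    · exact add_comm _ _
    · linear_combination -ha'
    · linear_combination hb'
    · linear_combination hb' - ha'

theorem alt_five_ca : CA (alternatingGroup (Fin 5)) := by
  refine ca_of_comm fun x hx => comm_cent_of_card_le (fun e => hx (e ▸ one_mem _)) ?_
  have h0 : ∀ y : alternatingGroup (Fin 5), y ≠ 1 →
      (Finset.univ.filter fun a => y * a = a * y).card ≤ 7 := by decide +kernel
  refine le_of_eq_of_le ?_ (h0 x fun e => hx (e ▸ one_mem _))
  rw [← Nat.card_eq_finsetCard]
  exact Nat.card_congr (Equiv.subtypeEquivRight fun a => by simp [mem_cent, Commute, SemiconjBy])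

theorem alt_four_ca : CA (alternatingGroup (Fin 4)) := by
  refine ca_of_comm fun x hx => comm_cent_of_card_le (fun e => hx (e ▸ one_mem _)) ?_
  have h0 : ∀ y : alternatingGroup (Fin 4), y ≠ 1 →
      (Finset.univ.filter fun a => y * a = a * y).card ≤ 7 := by decide +kernel
  refine le_of_eq_of_le ?_ (h0 x fun e => hx (e ▸ one_mem _))
  rw [← Nat.card_eq_finsetCard]
  exact Nat.card_congr (Equiv.subtypeEquivRight fun a => by simp [mem_cent, Commute, SemiconjBy])

variable {F : Type*} [Field F] [Fintype F]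

local notation "SL2" => Matrix.SpecialLinearGroup (Fin 2) F
local notation "PSL2" => Matrix.ProjectiveSpecialLinearGroup (Fin 2) F

theorem borel_commutator_mem {g h : SL2} (hg : g ∈ Cfsg.Lib.Dickson.borelSL F)
    (hh : h ∈ Cfsg.Lib.Dickson.borelSL F) : g * h * g⁻¹ * h⁻¹ ∈ Cfsg.Lib.Linear.Two.UT F := by
  have hg10 : g 1 0 = 0 := Cfsg.Lib.Dickson.mem_borelSL.mp hg
  have hh10 : h 1 0 = 0 := Cfsg.Lib.Dickson.mem_borelSL.mp hh
  have dg := g.2
  have dh := h.2
  rw [Matrix.det_fin_two, hg10, mul_zero, sub_zero] at dg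
  rw [Matrix.det_fin_two, hh10, mul_zero, sub_zero] at dh
  rw [Cfsg.Lib.Linear.Two.mem_UT]
  refine ⟨?_, ?_, ?_⟩ <;>
    simp [Matrix.SpecialLinearGroup.coe_inv, Matrix.adjugate_fin_two, Matrix.mul_apply,
      Fin.sum_univ_two, hg10, hh10]
  · linear_combination (h 0 0 * h 1 1) * dg + dh
  · linear_combination (h 0 0 * h 1 1) * dg + dh

/-- The normaliser of a Sylow subgroup of the defining characteristic is metabelian. -/
theorem normalizer_commutator_mem (p : ℕ) [Fact p.Prime] [CharP F p] (P : Sylow p PSL2) {a b : PSL2}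
    (ha : a ∈ normalizer ((P : Subgroup PSL2) : Set PSL2))
    (hb : b ∈ normalizer ((P : Subgroup PSL2) : Set PSL2)) :
    a * b * a⁻¹ * b⁻¹ ∈ (P : Subgroup PSL2) := by
  obtain ⟨c, hc⟩ := MulAction.exists_smul_eq PSL2 (Cfsg.Lib.Dickson.stdSylow (F := F) p) P
  subst hc
  have conv : ∀ y ∈ normalizer ((c • Cfsg.Lib.Dickson.stdSylow (F := F) p : Sylow p PSL2) : Set PSL2),
      ∃ y' ∈ Cfsg.Lib.Dickson.borelSL F, QuotientGroup.mk' (center SL2) y' = c⁻¹ * y * c := by
    intro y hy
    have h1 : c⁻¹ * y * c ∈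
        normalizer (((Cfsg.Lib.Dickson.stdSylow (F := F) p) : Subgroup PSL2) : Set PSL2) :=
      Sylow.smul_eq_iff_mem_normalizer.mp (by
        rw [mul_smul, mul_smul, Sylow.smul_eq_iff_mem_normalizer.mpr hy, inv_smul_smul])
    rw [Cfsg.Lib.Dickson.normalizer_stdSylow] at h1
    exact h1
  obtain ⟨a', ha', ea⟩ := conv a ha
  obtain ⟨b', hb', eb⟩ := conv b hb
  rw [Sylow.coe_subgroup_smul, Subgroup.mem_pointwise_smul_iff_inv_smul_mem]
  simp only [MulAut.smul_def, MulAut.inv_def, MulAut.conj_symm_apply]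
  rw [Cfsg.Lib.Dickson.stdSylow_coe]
  refine ⟨_, borel_commutator_mem ha' hb', ?_⟩
  rw [map_mul, map_mul, map_mul, map_inv, map_inv, ea, eb]
  group

/-- The normaliser of a Sylow subgroup of the defining characteristic is CA. -/
theorem normalizer_sylow_ca (p : ℕ) [Fact p.Prime] [CharP F p] (hp : p ≠ 2) (P : Sylow p PSL2) :
    CA (normalizer ((P : Subgroup PSL2) : Set PSL2)) := by
  refine ca_of_comm fun x hx a ha b hb => Subtype.ext ?_
  have hax : Commute (x : PSL2) (a : PSL2) := (mem_cent.1 ha).map (Subgroup.subtype _)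
  have hbx : Commute (x : PSL2) (b : PSL2) := (mem_cent.1 hb).map (Subgroup.subtype _)
  by_cases hxx : (x : PSL2) * x = 1
  · have hc := normalizer_commutator_mem p P a.2 b.2
    set c := (a : PSL2) * b * (a : PSL2)⁻¹ * (b : PSL2)⁻¹ with hcdef
    by_cases hc1 : c = 1
    · rw [hcdef, mul_inv_eq_one, mul_inv_eq_iff_eq_mul] at hc1
      exact hc1
    exfalso
    have hxP : (x : PSL2) ∈ (P : Subgroup PSL2) := by
      refine (Cfsg.Lib.Dickson.centralizer_eq_sylow p P hc hc1).le ?_
      exact mem_cent.2 (((hax.mul_right hbx).mul_right hax.inv_right).mul_right hbx.inv_right).symm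
    obtain ⟨k, hk⟩ := P.isPGroup' ⟨_, hxP⟩
    replace hk : (x : PSL2) ^ p ^ k = 1 := congrArg Subtype.val hk
    refine hx ?_
    rw [show x = 1 from Subtype.ext (pow_eq_one_of_coprime (z := (x : PSL2)) (n := 2) (m := p ^ k)
      (by rw [sq, hxx]) hk (Nat.Coprime.pow_right _ ((Nat.coprime_primes Nat.prime_two Fact.out).2 (Ne.symm hp))))]
    exact one_mem _
  · exact comm_cent_of_sq_ne hxx _ (mem_cent.2 hax) _ (mem_cent.2 hbx)

/-- The proper subgroups of the listed groups are CA. -/
theorem psl_properCA (h2 : Fintype.card F % 2 = 1) (h4 : 4 ≤ Fintype.card F)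
    (h16 : ¬ 16 ∣ Fintype.card F ^ 2 - 1)
    (hdeg : ∀ (k m : ℕ), k ^ m = Fintype.card F → k % 2 = 1 → m = 1 ∨ k ≤ 5) : ProperCA PSL2 := by
  obtain ⟨p, hpp, hp, f, hf0, hf⟩ := Cfsg.Lib.Dickson.exists_char (F := F)
  haveI := Fact.mk hpp
  have hp2 : p ≠ 2 := fun e => by
    subst e
    rw [hf, Nat.pow_mod, Nat.mod_self, Nat.zero_pow hf0] at h2
    simp at h2
  have hcard := Cfsg.Lib.Linear.Two.card_PSL_two (F := F)
  rw [Nat.gcd_eq_left (show 2 ∣ Fintype.card F - 1 by omega)] at hcard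
  intro H hH
  have h8 : ¬ 8 ∣ Nat.card H := fun hd => h16 (by
    have h1 : 2 * 8 ∣ 2 * Nat.card PSL2 :=
      Nat.mul_dvd_mul_left 2 (hd.trans (card_subgroup_dvd_card H))
    rw [hcard] at h1
    exact (Nat.Coprime.pow_left 4 (Nat.coprime_two_left.2 (Nat.odd_iff.2 h2))).dvd_of_dvd_mul_left h1)
  rcases Cfsg.Agent.S0799.result (F := F) rfl p H with
    ⟨k, -, ⟨hc, -⟩ | ⟨⟨e⟩⟩⟩ | ⟨P, K, hK, ⟨e⟩⟩ | ⟨⟨e⟩⟩ | ⟨⟨e⟩⟩ | ⟨⟨e⟩⟩ | ⟨K, iK, jK, m, hm, he⟩
  · haveI := hc
    exact CA.of_comm fun a b => IsCyclic.commutative.is_comm.comm a b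
  · exact (dihedral_ca k).congr e.symm
  · exact (((normalizer_sylow_ca p hp2 P).subgroup (K.subgroupOf _)).congr
      (subgroupOfEquivOfLe hK)).congr e.symm
  · exact alt_four_ca.congr e.symm
  · refine absurd ?_ h8
    rw [Nat.card_congr e.toEquiv, Nat.card_perm, Nat.card_eq_fintype_card, Fintype.card_fin]
    norm_num [Nat.factorial]
  · exact alt_five_ca.congr e.symm
  have hK2 : Fintype.card K % 2 = 1 := by
    rcases Nat.mod_two_eq_zero_or_one (Fintype.card K) with h0 | h0
    · exfalso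
      rw [← hm, Nat.pow_mod, h0] at h2
      rcases Nat.eq_zero_or_pos m with rfl | hm0
      · simp at hm
        omega
      · simp [Nat.zero_pow hm0] at h2
    · exact h0
  rcases he with ⟨⟨e⟩⟩ | ⟨⟨e⟩⟩
  · rcases hdeg _ m hm hK2 with rfl | hk5
    · exfalso
      refine hH (eq_top_of_card_eq H ?_)
      have h0 := Cfsg.Lib.Linear.Two.card_PSL_two (F := K)
      rw [pow_one] at hm
      rw [hm, Nat.gcd_eq_left (show 2 ∣ Fintype.card F - 1 by omega)] at h0
      rw [Nat.card_congr e.toEquiv]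
      omega
    · exact (psl_five_ca hK2 hk5).congr e.symm
  · refine absurd ?_ h8
    rw [Nat.card_congr e.toEquiv, Cfsg.Lib.Dickson.card_PGL_two_eq]
    refine Dvd.dvd.mul_left ?_ _
    rcases sq_mod_sixteen hK2 with h | h <;>
      · have : 1 ≤ Fintype.card K ^ 2 := Nat.one_le_pow _ _ Fintype.card_pos
        omega

/-- Each listed group is non-solvable, not CA, and all its proper subgroups are CA. -/
theorem psl_minimal_non_ca
    (h : ((Fintype.card F).Prime ∧ 5 < Fintype.card F ∧ ¬ 16 ∣ Fintype.card F ^ 2 - 1) ∨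
      (∃ p : ℕ, p.Prime ∧ p ≠ 2 ∧ (Fintype.card F = 3 ^ p ∨ Fintype.card F = 5 ^ p))) :
    ¬ Group.IsSolvable PSL2 ∧ ¬ CA PSL2 ∧ ProperCA PSL2 := by
  have key : Fintype.card F % 2 = 1 ∧ 11 ≤ Fintype.card F ∧ ¬ 16 ∣ Fintype.card F ^ 2 - 1 ∧
      ∀ (k m : ℕ), k ^ m = Fintype.card F → k % 2 = 1 → m = 1 ∨ k ≤ 5 := by
    rcases h with ⟨hq, h5, h16⟩ | ⟨r, hr, hr2, hq⟩
    · refine ⟨hq.eq_two_or_odd.resolve_left (by omega), ?_, h16, fun k m hm _ => Or.inl ?_⟩
      · by_contra hlt
        interval_cases hc : Fintype.card F <;> simp_all (config := { decide := true })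
      · exact (Nat.Prime.eq_one_of_pow (hm ▸ hq))
    · obtain ⟨b, hb, hqb⟩ : ∃ b : ℕ, (b = 3 ∨ b = 5) ∧ Fintype.card F = b ^ r := by
        rcases hq with e | e
        · exact ⟨3, Or.inl rfl, e⟩
        · exact ⟨5, Or.inr rfl, e⟩
      have hr3 : 3 ≤ r := by have := hr.two_le; omega
      have hbp : b.Prime := by rcases hb with rfl | rfl <;> norm_num
      refine ⟨by rw [hqb, Nat.pow_mod]; rcases hb with rfl | rfl <;> simp, ?_, ?_, fun k m hm _ => ?_⟩
      · rw [hqb]
        calc 11 ≤ 3 ^ 3 := by norm_num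
          _ ≤ b ^ r := (Nat.pow_le_pow_left (by omega) 3).trans (Nat.pow_le_pow_right (by omega) hr3)
      · rw [hqb, sixteen_dvd_pow_iff (by rcases hb with rfl | rfl <;> rfl), not_or]
        refine ⟨Nat.not_even_iff_odd.2 (hr.odd_of_ne_two hr2), ?_⟩
        rcases hb with rfl | rfl <;> norm_num
      · rw [hqb] at hm
        have hm0 : m ≠ 0 := fun e => by
          rw [e, pow_zero] at hm
          have := Nat.one_lt_pow hr.ne_zero hbp.one_lt
          omega
        obtain ⟨i, -, rfl⟩ := (Nat.dvd_prime_pow hbp).1 (hm ▸ dvd_pow_self k hm0)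
        rw [← pow_mul] at hm
        have him := Nat.pow_right_injective hbp.two_le hm
        rcases hr.eq_one_or_self_of_dvd m (Dvd.intro_left i him) with e | e
        · exact Or.inl e
        · right
          have : i = 1 := by
            rw [e] at him
            exact (mul_left_eq_self₀.1 him).resolve_right hr.ne_zero
          rw [this, pow_one]
          rcases hb with rfl | rfl <;> omega
  obtain ⟨h2, h11, h16, hdeg⟩ := key
  exact ⟨psl_not_solvable (by omega), psl_not_ca h2 h11, psl_properCA h2 (by omega) h16 hdeg⟩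

end Cfsg.Lib.MinNonCA
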