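import Cfsg.Agent.Lib.MinNonCA.OuterBase
import Cfsg.Agent.Lib.Invol.ElementaryCentralizers
import Cfsg.Agent.Lib.Linear.DicksonTwo
import Cfsg.Agent.Lib.Fusion.Abelian
import Cfsg.Agent.S2202

/-!
# Minimal non-CA groups with a proper component: abelian Sylow 2-subgroups
-/

set_option autoImplicit false
set_option linter.style.haveILetI false

namespace Cfsg.Lib.MinNonCA

open Subgroup

/-- In characteristic two the centraliser of an involution of `SL₂` has exponent two. -/
theorem sl_two_char_two {F : Type*} [Field F] [CharP F 2] {t c : Matrix.SpecialLinearGroup (Fin 2) F}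
    (ht : t * t = 1) (ht1 : t ∉ center (Matrix.SpecialLinearGroup (Fin 2) F)) (hc : Commute c t) :
    c * c = 1 := by
  open Cfsg.Lib.Linear.Dickson in
  have h2 : (2 : F) = 0 := CharTwo.two_eq_zero
  have htr : tr2 t = 0 := by
    by_contra hne
    obtain ⟨e00, e01, e10, e11⟩ := sq_entries t
    rw [ht] at e00 e01 e10 e11
    simp only [Matrix.SpecialLinearGroup.coe_one, Matrix.one_apply_eq, ne_eq, zero_ne_one, one_ne_zero,
      not_false_eq_true, Matrix.one_apply_ne] at e00 e01 e10 e11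
    have h00 : t 0 0 = 0 := (mul_eq_zero.1 (show tr2 t * t 0 0 = 0 by linear_combination h2 - e00)).resolve_left hne
    have h01 : t 0 1 = 0 := (mul_eq_zero.1 (show tr2 t * t 0 1 = 0 by linear_combination -e01)).resolve_left hne
    have hd := det_eq t
    rw [h00, h01] at hd
    simp at hd
  obtain ⟨r, s, a00, a01, a10, a11⟩ := exists_param ht1 hc
  have hc' : tr2 c = 0 := by
    rw [tr2] at htr ⊢
    rw [a00, a11]
    linear_combination r * h2 + s * htr
  obtain ⟨f00, f01, f10, f11⟩ := sq_entries c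
  rw [hc'] at f00 f01 f10 f11
  refine ext_two ?_ ?_ ?_ ?_ <;>
    simp only [f00, f01, f10, f11, zero_mul, zero_sub, Matrix.SpecialLinearGroup.coe_one, Matrix.one_apply_eq,
      ne_eq, zero_ne_one, one_ne_zero, not_false_eq_true, Matrix.one_apply_ne] <;>
    linear_combination -h2

/-- The elementary centraliser hypotheses in a perfect CA group with abelian Sylow 2-subgroups. -/
theorem ea_hyp_of_ca {X : Type*} [Group X] [Finite X] (hq : QMin X) (hCA : CA X) (S : Sylow 2 X)
    (hS : Comm (S : Subgroup X)) : Cfsg.Lib.Invol.EA.Hyp S := by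
  haveI : Fact (Nat.Prime 2) := ⟨Nat.prime_two⟩
  have hperf := hq.commutator_eq_top
  have hcent : ∀ t : X, orderOf t = 2 → t ∉ center X := by
    intro t ht htc
    obtain ⟨P, hP⟩ := (isPGroup_zpowers (p := 2) (k := 1) (y := t)
      (by rw [pow_one]; exact ht ▸ pow_orderOf_eq_one t)).exists_le_sylow
    haveI : IsMulCommutative (P : Subgroup X) := comm_iff.1 (by
      by_contra hc
      exact not_comm_sylow_conj P S hc hS)
    have h1 := Cfsg.Lib.Fusion.inf_commutator_inf_center_eq_bot_sylow P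
    rw [hperf, inf_top_eq] at h1
    have h3 : t ∈ ((P : Subgroup X) ⊓ center X) := ⟨hP (mem_zpowers t), htc⟩
    rw [h1, Subgroup.mem_bot] at h3
    rw [h3, orderOf_one] at ht
    norm_num at ht
  have hnc : ¬ IsCyclic (S : Subgroup X) := fun hc => hq.not_solvable (isSolvable_of_cyclic_sylow S hc)
  have hnn : ¬ (S : Subgroup X).Normal := fun hn => by
    rcases Cfsg.Lib.Core.quasisimple_normal hq.quasi (N := (S : Subgroup X)) with h | h
    · refine hnc ?_
      haveI : IsMulCommutative (S : Subgroup X) := comm_iff.1 hS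
      have h1 := Cfsg.Lib.Fusion.inf_commutator_inf_center_eq_bot_sylow S
      rw [hperf, inf_top_eq, inf_eq_left.2 h] at h1
      rw [h1]
      infer_instance
    · exact hq.ne_top_of_comm hS h
  refine ⟨hnc, hnn, fun t ht => ⟨comm_iff.1 (hCA.comm (hcent t ht)), ?_⟩⟩
  have heven : Even (Nat.card X) := even_iff_two_dvd.2 (ht ▸ orderOf_dvd_natCard t)
  rcases Cfsg.Agent.S2202.result heven fun u hu => comm_iff.1 (hCA.comm (hcent u hu)) with
    hc | hn | ⟨F, iF, jF, A, iA, fA, hF2, -, ⟨e⟩⟩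
  · exact absurd (hc S) hnc
  · exact absurd (hn S) hnn
  intro c hc
  have htriv : ∀ y : X, (e y).2 = 1 := fun y => by
    set f := (MonoidHom.snd (Matrix.SpecialLinearGroup (Fin 2) F) A).comp e.toMonoidHom with hf
    have hle : commutator X ≤ f.ker := Subgroup.commutator_le.2 fun a _ b _ => by
      rw [MonoidHom.mem_ker, map_commutatorElement]
      exact commutatorElement_eq_one_iff_mul_comm.2 (mul_comm (f a) (f b))
    exact hle (hperf ▸ mem_top y)
  have ht' : (e t).1 * (e t).1 = 1 := by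
    have h0 : t * t = 1 := by rw [← sq]; exact ht ▸ pow_orderOf_eq_one t
    have h1 := congrArg Prod.fst (congrArg e h0)
    rwa [map_mul, map_one, Prod.fst_mul, Prod.fst_one] at h1
  have ht1 : (e t).1 ∉ center (Matrix.SpecialLinearGroup (Fin 2) F) := fun hcc => hcent t ht
    (mem_center_iff'.2 fun y => e.injective (by
      rw [map_mul, map_mul]
      exact Prod.ext (mem_center_iff.1 hcc (e y).1).symm (mul_comm _ _)))
  have hct : Commute (e c).1 (e t).1 :=
    ((mem_cent.1 hc).symm.map e).map (MonoidHom.fst (Matrix.SpecialLinearGroup (Fin 2) F) A)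
  refine e.injective ?_
  rw [sq, map_mul, map_one]
  exact Prod.ext (sl_two_char_two ht' ht1 hct) (by simp [htriv])

variable {G : Type*} [Group G] [Finite G] {K : Subgroup G}

/-- A proper component has non-abelian Sylow 2-subgroups. -/
theorem IsMainComp.sylow_not_comm (hK : IsMainComp K) (h : Min G) (htop : K ≠ ⊤) (S : Sylow 2 K) :
    ¬ Comm (S : Subgroup K) := by
  haveI : Fact (Nat.Prime 2) := ⟨Nat.prime_two⟩
  intro hS
  haveI := hK.normal
  have hH := ea_hyp_of_ca (hK.qmin h htop) (hK.ca h htop) S hS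
  obtain ⟨hTc, hTsq⟩ := Cfsg.Lib.Invol.EA.elementary hH
  have hse := Cfsg.Lib.Invol.EA.se hH
  set S' := (S : Subgroup K).map K.subtype with hS'
  have hfr : normalizer (S' : Set G) ⊔ K = ⊤ := Sylow.normalizer_sup_eq_top S
  obtain ⟨y, hy, hyK⟩ : ∃ y ∈ normalizer (S' : Set G), y ∉ K ⊔ center G := by
    by_contra hc
    simp only [not_exists, not_and, not_not] at hc
    exact hK.sup_center_ne_top h htop (top_le_iff.1 (hfr ▸ sup_le hc le_sup_left))
  haveI : Nontrivial (S : Subgroup K) := by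
    rw [← Finite.one_lt_card_iff_nontrivial]
    exact lt_trans one_lt_two (Cfsg.Lib.Invol.EA.two_lt hH)
  obtain ⟨s₀, hs₀1⟩ := exists_ne (1 : (S : Subgroup K))
  have ho : ∀ s : (S : Subgroup K), s ≠ 1 → orderOf (s : K) = 2 := fun s hs =>
    Cfsg.Lib.Invol.orderOf_eq_two_of (fun e => hs (Subtype.ext e)) (hTsq _ s.2)
  -- the normaliser of `S` in `K` is transitive on its involutions
  have htrans : ∀ a b : (S : Subgroup K), a ≠ 1 → b ≠ 1 →
      ∃ n ∈ normalizer ((S : Subgroup K) : Set K), n * a * n⁻¹ = (b : K) := by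
    intro a b ha hb
    obtain ⟨c, hc⟩ := isConj_iff.1 (Cfsg.Lib.Invol.se_isConj hse (ho a ha) (ho b hb))
    haveI : IsMulCommutative (S : Subgroup K) := hTc
    obtain ⟨n, hn, e⟩ := S.conj_eq_normalizer_conj_of_mem (a : K) c⁻¹ a.2
      (by rw [inv_inv, hc]; exact b.2)
    rw [inv_inv, hc] at e
    exact ⟨n⁻¹, inv_mem hn, by rw [inv_inv]; exact e.symm⟩
  have hs₀S : ((s₀ : K) : G) ∈ S' := ⟨_, s₀.2, rfl⟩
  obtain ⟨s₁, hs₁, e₁⟩ := (mem_normalizer_iff.1 hy _).1 hs₀S
  obtain ⟨n, hn, hne⟩ := htrans ⟨s₁, hs₁⟩ s₀ (fun e => hs₀1 (by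
    have e2 : (s₁ : K) = 1 := congrArg Subtype.val e
    rw [e2, map_one] at e₁
    exact Subtype.ext (Subtype.ext (conj_eq_one_iff.1 e₁.symm)))) hs₀1
  have hn' : (n : G) ∈ normalizer (S' : Set G) := le_normalizer_map K.subtype ⟨n, hn, rfl⟩
  set y' := (n : G) * y with hy'
  have hy'N : y' ∈ normalizer (S' : Set G) := mul_mem hn' hy
  have hfix : Commute ((s₀ : K) : G) y' := by
    refine (mul_inv_eq_iff_eq_mul.1 ?_).symm
    rw [hy', show (n : G) * y * (s₀ : K) * ((n : G) * y)⁻¹ = n * (y * (s₀ : K) * y⁻¹) * (n : G)⁻¹ by group,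
      ← e₁]
    exact congrArg Subtype.val hne
  set H := normalizer (S' : Set G) with hHdef
  have hS'c : Comm S' := by
    rintro _ ⟨a, ha, rfl⟩ _ ⟨b, hb, rfl⟩
    exact (hS a ha b hb).map K.subtype
  have hHne : H ≠ ⊤ := fun e => by
    haveI := normalizer_eq_top_iff.1 e
    have hz : (s₀ : K) ∈ center K := hK.mem_center.2 (h.comm_normal_le_center hS'c hs₀S)
    obtain ⟨P⟩ : Nonempty (Sylow 2 K) := ⟨S⟩
    haveI : IsMulCommutative (S : Subgroup K) := hTc
    have h1 := Cfsg.Lib.Fusion.inf_commutator_inf_center_eq_bot_sylow S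
    rw [hK.perfect, inf_top_eq] at h1
    have h3 : (s₀ : K) ∈ (S : Subgroup K) ⊓ center K := ⟨s₀.2, hz⟩
    rw [h1, Subgroup.mem_bot] at h3
    exact hs₀1 (Subtype.ext h3)
  obtain ⟨b, hb1⟩ : ∃ b : (S : Subgroup K), b ≠ 1 ∧ b ≠ s₀ := by
    classical
    haveI := Fintype.ofFinite (S : Subgroup K)
    by_contra hc
    simp only [not_exists, not_and, not_not] at hc
    have hsub : (Finset.univ : Finset (S : Subgroup K)) ⊆ {1, s₀} := fun b _ => by
      simp only [Finset.mem_insert, Finset.mem_singleton]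
      exact or_iff_not_imp_left.2 (hc b)
    have := (Finset.card_le_card hsub).trans Finset.card_le_two
    have h2 := Cfsg.Lib.Invol.EA.two_lt hH
    rw [Finset.card_univ, ← Nat.card_eq_fintype_card] at this
    change 2 < Nat.card (S : Subgroup K) at h2
    omega
  obtain ⟨n₁, hn₁, hn₁e⟩ := htrans s₀ b hs₀1 hb1.1
  have hcomm : ∀ s ∈ S', Commute y' s := by
    intro s hs
    refine ((h.proper H hHne).commute (x := (⟨_, le_normalizer hs₀S⟩ : H)) (a := ⟨y', hy'N⟩)
      (b := ⟨s, le_normalizer hs⟩) (Subtype.ext hfix) (Subtype.ext (hS'c _ hs₀S s hs)) fun hc => hb1.2 ?_).map H.subtype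
    have h1 : ((s₀ : K) : G) * (n₁ : G) = (n₁ : G) * (s₀ : K) := congrArg Subtype.val
      (mem_center_iff'.1 hc ⟨n₁, le_normalizer_map K.subtype ⟨n₁, hn₁, rfl⟩⟩).eq
    refine Subtype.ext (hn₁e.symm.trans ?_)
    refine mul_inv_eq_iff_eq_mul.2 (Subtype.ext ?_)
    exact h1.symm
  -- apply the kernel lemma
  obtain ⟨u, hu, hu2⟩ := Cfsg.Lib.Invol.se_exists_outside hse
  set N := (normalizer ((S : Subgroup K) : Set K)).map K.subtype with hN
  have hNeq : ∀ a : G, a ∈ N ↔ a ∈ H ∧ a ∈ K := by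
    intro a
    refine ⟨fun ⟨c, hc, e⟩ => e ▸ ⟨le_normalizer_map K.subtype ⟨c, hc, rfl⟩, c.2⟩, fun ⟨ha, haK⟩ =>
      ⟨⟨a, haK⟩, mem_normalizer_iff.2 fun d => ?_, rfl⟩⟩
    have h2 := mem_normalizer_iff.1 ha (d : G)
    rw [show a * d * a⁻¹ = K.subtype (⟨a, haK⟩ * d * ⟨a, haK⟩⁻¹) by simp,
      show (d : G) = K.subtype d from rfl, hS', mem_map_iff_mem K.subtype_injective,
      mem_map_iff_mem K.subtype_injective] at h2
    exact h2
  refine hyK ?_
  have hy'K : y' ∈ K ⊔ center G := by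
    refine kernel_false hK.commutator_self hK.cent (fun D hD hDne => ?_) (N := N) (S := S') (x₀ := (u : G))
      (map_subtype_le _) (fun e => hse.1 ?_) (fun z hz => ?_) (map_mono le_normalizer) (fun s hs t ht => ?_)
      u.2 (fun e => hu ?_) (fun k hk hkN => ?_) (mem_normalizer_iff.2 fun a => ?_) hcomm
    · haveI := hD
      exact (hK.qmin h htop).normal_le_center hDne
    · exact top_le_iff.1 fun k _ => by
        have h1 : (k : G) ∈ N := e.ge k.2
        exact (mem_map_iff_mem K.subtype_injective).1 h1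
    · refine (hNeq z).2 ⟨centralizer_le_normalizer _ (mem_centralizer_iff.2 fun a _ => ?_),
        (Subgroup.mem_inf.1 hz).1⟩
      exact mem_center_iff.1 (Subgroup.mem_inf.1 hz).2 a
    · rw [(hS'c s hs t ht).eq, mul_inv_cancel_right, mul_inv_cancel]
      exact one_mem _
    · exact (mem_map_iff_mem K.subtype_injective).1 e
    · obtain ⟨t, ht, hte⟩ := Cfsg.Lib.Invol.EA.exists_translate hH hu2 hu (g := ⟨k, hk⟩)
        (fun e => hkN ⟨_, e, rfl⟩)
      exact ⟨t, ⟨t, ht, rfl⟩, ⟨_, hte, by simp⟩⟩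
    · rw [hNeq, hNeq]
      constructor
      · exact fun ⟨h1, h2⟩ => ⟨mul_mem (mul_mem hy'N h1) (inv_mem hy'N), hK.normal.conj_mem a h2 y'⟩
      · rintro ⟨h1, h2⟩
        have e : a = y'⁻¹ * (y' * a * y'⁻¹) * y' := by group
        rw [e]
        exact ⟨mul_mem (mul_mem (inv_mem hy'N) h1) hy'N, hK.normal.conj_mem' _ h2 y'⟩
  have e : y = (n : G)⁻¹ * y' := by rw [hy']; group
  rw [e]
  exact mul_mem (mem_sup_left (inv_mem n.2)) hy'K

end Cfsg.Lib.MinNonCA
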