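import Cfsg.Agent.Lib.MinNonCA.OuterTwo
import Cfsg.Agent.Lib.MinNonCA.OuterAbelian
import Cfsg.Agent.Lib.MinNonCA.PSL
import Cfsg.Agent.Lib.GW.Main
import Cfsg.Agent.S0035

/-!
# A non-solvable minimal non-CA group is its own component
-/

set_option autoImplicit false
set_option linter.style.haveILetI false

namespace Cfsg.Lib.MinNonCA

open Subgroup
open scoped Pointwise

variable {G : Type*} [Group G] [Finite G] {K : Subgroup G} {g : G}

/-- No witness is an involution modulo the centre. -/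
theorem IsWitness.two_false (hg : IsWitness K g) (hK : IsMainComp K) (h : Min G) (htop : K ≠ ⊤)
    (hg2 : g ^ 2 ∈ center G) (hLc : ¬ Comm (centralizer ({g} : Set G) ⊓ K)) {S : Sylow 2 K} {A : Subgroup K}
    (hA : TwoData S A) : False := by
  haveI := hK.normal
  haveI hsimple : IsSimpleGroup (K ⧸ center K) := hK.quasi.2
  set π := QuotientGroup.mk' (center K) with hπ
  set L := (centralizer ({g} : Set G)).subgroupOf K with hL
  have hmemL : ∀ k : K, k ∈ L ↔ Commute g (k : G) := fun k => by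
    rw [hL, mem_subgroupOf, mem_cent]
  have hZL : center K ≤ L := fun z hz =>
    (hmemL z).2 (mem_center_iff'.1 (hK.mem_center.1 hz) g).symm
  have hback : ∀ k : K, π k ∈ L.map π → k ∈ L := by
    rintro k ⟨l, hl, e⟩
    simpa using L.mul_mem hl (hZL ((QuotientGroup.eq (s := center K)).1 e))
  by_cases hx : ∃ x : K, x ∉ L ∧ ∃ l ∈ L, l ∉ center K ∧ x⁻¹ * l * x ∈ L
  · obtain ⟨x, hxL, l, hl, hlc, hl'⟩ := hx
    have h1 : Commute ((x : G) * g * (x : G)⁻¹) (l : G) := by
      have h2 := (commute_conj_iff (h := (x : G))).2 ((hmemL _).1 hl')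
      rwa [show (x : G) * ((x⁻¹ * l * x : K) : G) * (x : G)⁻¹ = (l : G) by simp [mul_assoc]] at h2
    have hc : Commute g ((x : G) * g * (x : G)⁻¹) :=
      hK.cent_comm h htop l.2 (fun e => hlc (hK.mem_center.2 e)) g (mem_cent.2 ((hmemL _).1 hl).symm)
        _ (mem_cent.2 h1.symm)
    have hkK : (x : G) * g * (x : G)⁻¹ * g⁻¹ ∈ K := by
      rw [show (x : G) * g * (x : G)⁻¹ * g⁻¹ = (x : G) * (g * (x : G)⁻¹ * g⁻¹) by group]
      exact mul_mem x.2 (hK.normal.conj_mem _ (inv_mem x.2) g)
    set k : K := ⟨_, hkK⟩ with hk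
    have hkk : k * k = 1 := by
      refine Subtype.ext ?_
      show (x : G) * g * (x : G)⁻¹ * g⁻¹ * ((x : G) * g * (x : G)⁻¹ * g⁻¹) = 1
      rw [(hc.inv_left).mul_mul_mul_comm]
      have hgg : g * g ∈ center G := sq g ▸ hg2
      calc (x : G) * g * (x : G)⁻¹ * ((x : G) * g * (x : G)⁻¹) * (g⁻¹ * g⁻¹)
          = (x : G) * (g * g) * (x : G)⁻¹ * (g * g)⁻¹ := by group
        _ = 1 := by rw [mem_center_iff.1 hgg (x : G), mul_inv_cancel_right, mul_inv_cancel]
    have hkz := hK.mem_center.1 (hA.involution_central hK.perfect hkk)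
    exact hxL ((hmemL x).2 (hg.commute_of_central h hkz))
  · have hbot : L.map π ≠ ⊥ := fun e => hLc fun a ha b hb => by
      obtain ⟨ha', haK⟩ := Subgroup.mem_inf.1 ha
      have h1 : π (⟨a, haK⟩ : K) ∈ L.map π := ⟨_, (hmemL _).2 (mem_cent.1 ha'), rfl⟩
      rw [e, Subgroup.mem_bot] at h1
      exact mem_center_iff'.1 (hK.mem_center.1 ((QuotientGroup.eq_one_iff _).1 h1)) b
    have htopL : L.map π ≠ ⊤ := fun e => hg.not_center (hK.cent (mem_centralizer_iff.2 fun k hk =>
      ((hmemL ⟨k, hk⟩).1 (hback _ (e ▸ mem_top _))).eq.symm))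
    have hF : Cfsg.IsFrobeniusComplement (L.map π) := by
      refine ⟨hbot, htopL, fun q hq => eq_bot_iff.2 fun a ha => ?_⟩
      obtain ⟨x, rfl⟩ := QuotientGroup.mk'_surjective (center K) q
      obtain ⟨⟨l, hl, rfl⟩, ha2⟩ := Subgroup.mem_inf.1 ha
      rw [Subgroup.mem_pointwise_smul_iff_inv_smul_mem] at ha2
      simp only [MulAut.smul_def, MulAut.inv_def, MulAut.conj_symm_apply] at ha2
      have h2 : x⁻¹ * l * x ∈ L := hback _ (by simpa only [hπ, map_mul, map_inv] using ha2)
      have hlc : l ∈ center K := by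
        by_contra hlc
        exact hx ⟨x, fun e => hq ⟨x, e, rfl⟩, l, hl, hlc, h2⟩
      rw [Subgroup.mem_bot]
      exact (QuotientGroup.eq_one_iff l).2 hlc
    obtain ⟨N, -, hN, hc⟩ := Cfsg.Agent.S0035.result (L.map π) hF
    rcases hN.eq_bot_or_eq_top with e | e
    · rw [e, isComplement'_bot_left] at hc
      exact htopL hc
    · rw [e, isComplement'_top_left] at hc
      exact hbot hc

/-- A non-solvable minimal non-CA group is its own component. -/
theorem IsMainComp.eq_top (hK : IsMainComp K) (h : Min G) : K = ⊤ := by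
  by_contra htop
  haveI hKn := hK.normal
  haveI : Fact (Nat.Prime 2) := ⟨Nat.prime_two⟩
  haveI hsimple : IsSimpleGroup (K ⧸ center K) := hK.quasi.2
  have hq := hK.qmin h htop
  obtain ⟨S⟩ : Nonempty (Sylow 2 K) := inferInstance
  have hS := hK.sylow_not_comm h htop S
  obtain ⟨A, hA⟩ := hq.exists_twoData S hS
  have hSD := hA.sylowDihedral hS
  rcases Cfsg.Lib.GW.simpleGW (K ⧸ center K) (fun hc => hq.quotient_not_comm fun a b => hc.is_comm.comm a b)
    hSD with ⟨F, iF, jF, hodd, hq3, ⟨e⟩⟩ | he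
  swap
  · obtain ⟨e⟩ := he
    obtain ⟨d, hd, -, hdc, -⟩ := hq.alt_seven_data hS e
    exact hdc ((hK.ca h htop).comm hd)
  obtain ⟨g, r, hr, hgr, hg⟩ := hK.exists_witness h htop
  have hLc := hg.not_comm_inter hK h htop hr hgr
  by_cases hr2 : r = 2
  · exact hg.two_false hK h htop (hr2 ▸ hgr) hLc hA
  have hexp : ∀ y : G, y ^ r ∈ K ⊔ center G := by
    intro y
    set Q := QuotientGroup.mk' (K ⊔ center G) with hQ
    obtain ⟨a, ha, b, ⟨i, rfl⟩, rfl⟩ :=
      mem_sup_of_normal_left.1 ((hg.sup_eq_top hK h hLc).symm ▸ mem_top y :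
        y ∈ (K ⊔ center G) ⊔ zpowers g)
    refine (QuotientGroup.eq_one_iff _).1 ?_
    show Q ((a * g ^ i) ^ r) = 1
    rw [map_pow, map_mul, show Q a = 1 from (QuotientGroup.eq_one_iff a).2 ha, one_mul, map_zpow,
      ← zpow_natCast, zpow_comm, zpow_natCast, ← map_pow,
      show Q (g ^ r) = 1 from (QuotientGroup.eq_one_iff _).2 (mem_sup_right hgr), one_zpow]
  obtain ⟨y, hyK, hys⟩ := hK.exists_outer_centralizing h htop hS hr hr2 hexp
  -- the subgroup fixed by `y` is closed under centralisers of involutions modulo the centre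
  set π := QuotientGroup.mk' (center K) with hπ
  set L := (centralizer ({y} : Set G)).subgroupOf K with hL
  have hmemL : ∀ k : K, k ∈ L ↔ Commute y (k : G) := fun k => by rw [hL, mem_subgroupOf, mem_cent]
  have hSL : (S : Subgroup K) ≤ L := fun s hs => (hmemL s).2 (hys s hs)
  have hZL : center K ≤ L := fun z hz => (hmemL z).2 (mem_center_iff'.1 (hK.mem_center.1 hz) y).symm
  have hback : ∀ k : K, π k ∈ L.map π → k ∈ L := by
    rintro k ⟨l, hl, e⟩
    simpa using L.mul_mem hl (hZL ((QuotientGroup.eq (s := center K)).1 e))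
  have htopL : L.map π ≠ ⊤ := fun e => hyK (mem_sup_right (hK.cent (mem_centralizer_iff.2 fun k hk =>
    ((hmemL ⟨k, hk⟩).1 (hback _ (e ▸ mem_top _))).eq.symm)))
  have key : ∀ u ∈ (S : Subgroup K), u ∉ center K → u * u ∈ center K → ∀ k : K,
      k * u * k⁻¹ * u⁻¹ ∈ center K → k ∈ L := by
    intro u hu huc hu2 k hk
    obtain ⟨v, hv, hvz, huv⟩ := hA.companion hu huc hu2
    set D := centralizer ({(u : G)} : Set G) ⊓ K with hD
    have huG : (u : G) ∉ center G := fun e => huc (hK.mem_center.2 e)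
    set H := normalizer (D : Set G) with hH
    have hHtop : H ≠ ⊤ := fun e => by
      haveI := normalizer_eq_top_iff.1 e
      exact huG (h.comm_normal_le_center ((hK.cent_comm h htop u.2 huG).mono inf_le_left)
        (Subgroup.mem_inf.2 ⟨self_mem_cent _, u.2⟩))
    have hnorm : ∀ m : G, m * (u : G) * m⁻¹ * (u : G)⁻¹ ∈ center G → m ∈ H := by
      intro m hm
      have hiff : ∀ a : G, Commute (u : G) a ↔ Commute (u : G) (m * a * m⁻¹) := fun a => by
        rw [← commute_conj_iff (h := m) (a := (u : G)) (b := a)]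
        have e : m * (u : G) * m⁻¹ = m * u * m⁻¹ * (u : G)⁻¹ * u := by group
        constructor
        · intro hc
          have h1 := (mem_center_iff'.1 (inv_mem hm) (m * a * m⁻¹)).mul_left hc
          rwa [show (m * (u : G) * m⁻¹ * (u : G)⁻¹)⁻¹ * (m * (u : G) * m⁻¹) = (u : G) by group] at h1
        · intro hc
          rw [e]
          exact (mem_center_iff'.1 hm _).mul_left hc
      refine mem_normalizer_iff.2 fun a => ?_
      simp only [hD, Subgroup.mem_inf, mem_cent]
      refine and_congr (hiff a) ⟨fun ha => hKn.conj_mem a ha m, fun ha => ?_⟩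
      have h1 := hKn.conj_mem' _ ha m
      rwa [show m⁻¹ * (m * a * m⁻¹) * m = a by group] at h1
    have hyu : Commute y (u : G) := hys u hu
    have hyH : y ∈ H := hnorm y (by rw [hyu.eq, mul_inv_cancel_right, mul_inv_cancel]; exact one_mem _)
    have huH : (u : G) ∈ H := hnorm _ (by rw [mul_inv_cancel_right, mul_inv_cancel]; exact one_mem _)
    have hvH : (v : G) ∈ H := hnorm _ (by
      have h1 := inv_mem hvz
      rw [show (u * v * u⁻¹ * v⁻¹)⁻¹ = v * u * v⁻¹ * u⁻¹ by group] at h1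
      simpa using hK.mem_center.1 h1)
    have hkH : (k : G) ∈ H := hnorm _ (by simpa using hK.mem_center.1 hk)
    exact (hmemL k).2 (h.proper.central hHtop hyH huH hvH hyu (hys v hv)
      (fun hc => huv (hc.of_map K.subtype_injective)) _ hkH)
  have hclosed : ∀ w ∈ L.map π, orderOf w = 2 → centralizer ({w} : Set (K ⧸ center K)) ≤ L.map π := by
    intro w hw hw2
    set T₁ := (S.mapSurjective (QuotientGroup.mk'_surjective (center K))).subtype (N := L.map π)
      (map_mono hSL) with hT1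
    obtain ⟨P, hP⟩ := (isPGroup_zpowers (p := 2) (k := 1) (y := (⟨w, hw⟩ : L.map π))
      (by rw [pow_one]; exact Subtype.ext (sq_one_of hw2))).exists_le_sylow
    obtain ⟨c, rfl⟩ := MulAction.exists_smul_eq (L.map π) T₁ P
    have hw' := hP (mem_zpowers _)
    rw [Sylow.coe_subgroup_smul, Subgroup.mem_pointwise_smul_iff_inv_smul_mem] at hw'
    simp only [MulAut.smul_def, MulAut.inv_def, MulAut.conj_symm_apply] at hw'
    obtain ⟨u, hu, eu⟩ := (mem_subgroupOf.1 hw' :
      ((c : K ⧸ center K)⁻¹ * w * (c : K ⧸ center K)) ∈ (S : Subgroup K).map π)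
    obtain ⟨c', hc', ec⟩ := c.2
    replace eu : π u = (c : K ⧸ center K)⁻¹ * w * (c : K ⧸ center K) := eu
    have huc : u ∉ center K := fun e => by
      rw [show π u = 1 from (QuotientGroup.eq_one_iff u).2 e] at eu
      have : w = 1 := by
        calc w = (c : K ⧸ center K) * ((c : K ⧸ center K)⁻¹ * w * (c : K ⧸ center K)) *
            (c : K ⧸ center K)⁻¹ := by group
          _ = 1 := by rw [← eu]; group
      rw [this, orderOf_one] at hw2
      norm_num at hw2
    have hu2 : u * u ∈ center K := (QuotientGroup.eq_one_iff _).1 (by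
      show π (u * u) = 1
      rw [map_mul, eu]
      have hww : w * w = 1 := by rw [← sq, sq_one_of hw2]
      calc _ = (c : K ⧸ center K)⁻¹ * (w * w) * (c : K ⧸ center K) := by group
        _ = 1 := by rw [hww]; group)
    intro z hz
    obtain ⟨k, rfl⟩ := QuotientGroup.mk'_surjective (center K) z
    have h1 : c'⁻¹ * k * c' ∈ L := by
      refine key u hu huc hu2 _ ((QuotientGroup.eq_one_iff _).1 ?_)
      show π _ = 1
      rw [map_mul, map_mul, map_mul, map_mul, map_mul, map_inv, map_inv, map_inv, map_mul, map_mul,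
        map_inv, eu, ec]
      have hcz : w * π k = π k * w := (mem_cent.1 hz).eq
      calc _ = (c : K ⧸ center K)⁻¹ * (π k * w * (π k)⁻¹ * w⁻¹) * (c : K ⧸ center K) := by group
        _ = 1 := by rw [← hcz]; group
    have h2 := L.mul_mem (L.mul_mem hc' h1) (L.inv_mem hc')
    rw [show c' * (c'⁻¹ * k * c') * c'⁻¹ = k by group] at h2
    exact ⟨k, h2, rfl⟩
  obtain ⟨o, ho, hoA⟩ := hA.outside
  have ho2 : orderOf (π o) = 2 := orderOf_eq_prime
    (by rw [sq, ← map_mul]; exact (QuotientGroup.eq_one_iff _).2 (hA.outside_sq o ho hoA))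
    fun h1 => hA.outside_not_center ho hoA ((QuotientGroup.eq_one_iff o).1 h1)
  have hoL : π o ∈ L.map π := ⟨o, hSL ho, rfl⟩
  have h2 : Fintype.card F % 2 = 1 := Nat.odd_iff.1 hodd
  by_cases h7 : 7 ≤ Fintype.card F
  · -- large fields
    refine no_closed_subgroup h2 h7 ?_ (H := (L.map π).map e.toMonoidHom) ?_ (t := e (π o))
      ⟨_, hoL, rfl⟩ (by rw [MulEquiv.orderOf_eq]; exact ho2) ?_
    · obtain ⟨n, hn, ⟨d⟩⟩ := hSD (S.mapSurjective (QuotientGroup.mk'_surjective (center K)))
      exact Cfsg.Lib.GW.sylowDihedral_of_equiv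
        ((S.mapSurjective (QuotientGroup.mk'_surjective (center K))).mapSurjective
          (f := e.toMonoidHom) e.surjective) hn
        ⟨((equivMapOfInjective _ e.toMonoidHom e.injective).symm).trans d⟩
    · intro e'
      refine htopL (map_injective (f := e.toMonoidHom) e.injective ?_)
      rw [e', map_top_of_surjective _ e.surjective]
    · rintro _ ⟨w, hw, rfl⟩ hw2 z hz
      refine ⟨e.symm z, hclosed w hw ((MulEquiv.orderOf_eq e w).symm.trans hw2) ?_, e.apply_symm_apply z⟩
      refine mem_cent.2 ?_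
      simpa using (mem_cent.1 hz).map e.symm
  -- the field with five elements
  have h5 : Fintype.card F = 5 := by omega
  haveI : Fact (Nat.Prime 5) := ⟨by norm_num⟩
  haveI : CharP F 5 := by
    obtain ⟨p, hpp, hp, j, hj0, hj⟩ := Cfsg.Lib.Dickson.exists_char (F := F)
    have : p = 5 := (Nat.prime_dvd_prime_iff_eq hpp (by norm_num)).1 (by
      have := dvd_pow_self p hj0.ne'
      rwa [← hj, h5] at this)
    exact this ▸ hp
  have hcard : Nat.card (K ⧸ center K) = 60 := by
    have h0 := Cfsg.Lib.Linear.Two.card_PSL_two (F := F)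
    rw [h5] at h0
    rw [Nat.card_congr e.toEquiv]
    norm_num at h0
    omega
  set T := S.mapSurjective (QuotientGroup.mk'_surjective (center K)) with hT
  have hdih : ∀ P : Sylow 2 (K ⧸ center K), Nonempty ((P : Subgroup (K ⧸ center K)) ≃* DihedralGroup 2) := by
    intro P
    obtain ⟨n, hn, ⟨d⟩⟩ := hSD P
    have hc : Nat.card (P : Subgroup (K ⧸ center K)) = 2 * n := by
      rw [Nat.card_congr d.toEquiv, DihedralGroup.nat_card]
    have hd' : 2 * n ∣ 60 := hc ▸ hcard ▸ card_subgroup_dvd_card _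
    obtain ⟨k, hk⟩ := P.isPGroup'.exists_card_eq
    have hk2 : k = 2 := by
      have h8 : ¬ 2 ^ 3 ∣ 60 := by norm_num
      have : k < 3 := by
        by_contra hk3
        exact h8 ((pow_dvd_pow 2 (not_lt.1 hk3)).trans (hk ▸ hc ▸ hd'))
      have : 4 ≤ 2 ^ k := by
        rw [← hk, hc]; omega
      interval_cases k <;> first | omega | simp_all
    subst hk2
    have : n = 2 := by
      rw [hk] at hc
      norm_num at hc
      omega
    subst this
    exact ⟨d⟩
  have hsqP : ∀ P : Sylow 2 (K ⧸ center K), Comm (P : Subgroup (K ⧸ center K)) ∧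
      (∀ x ∈ (P : Subgroup (K ⧸ center K)), x ^ 2 = 1) ∧ Nat.card (P : Subgroup (K ⧸ center K)) = 4 := by
    intro P
    obtain ⟨d⟩ := hdih P
    refine ⟨fun a ha b hb => ?_, fun x hx => ?_, by rw [Nat.card_congr d.toEquiv, DihedralGroup.nat_card]⟩
    · refine congrArg Subtype.val (d.injective (?_ : d (⟨a, ha⟩ * ⟨b, hb⟩) = d (⟨b, hb⟩ * ⟨a, ha⟩)))
      rw [map_mul, map_mul]
      exact (by decide : ∀ a b : DihedralGroup 2, a * b = b * a) _ _
    · refine congrArg Subtype.val (d.injective (?_ : d (⟨x, hx⟩ ^ 2) = d 1))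
      rw [map_pow, map_one]
      exact (by decide : ∀ a : DihedralGroup 2, a ^ 2 = 1) _
  have hEA : Cfsg.Lib.Invol.EA.Hyp T := by
    refine ⟨fun hc => ?_, fun hn => ?_, fun t ht => ?_⟩
    · obtain ⟨x, hx⟩ := IsCyclic.exists_generator (α := (T : Subgroup (K ⧸ center K)))
      have h1 := orderOf_eq_card_of_forall_mem_zpowers hx
      rw [(hsqP T).2.2] at h1
      have h2' := orderOf_dvd_of_pow_eq_one
        (Subtype.ext ((hsqP T).2.1 _ x.2) : x ^ 2 = 1)
      rw [h1] at h2'
      norm_num at h2'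
    · rcases hn.eq_bot_or_eq_top with e1 | e1
      · have := (hsqP T).2.2
        rw [e1, card_bot] at this
        norm_num at this
      · have := (hsqP T).2.2
        rw [e1, card_top, hcard] at this
        norm_num at this
    · obtain ⟨P, hP⟩ := (isPGroup_zpowers (p := 2) (k := 1) (y := t)
        (by rw [pow_one]; exact sq_one_of ht)).exists_le_sylow
      obtain ⟨hPc, hP2, hP4⟩ := hsqP P
      set C := centralizer ({t} : Set (K ⧸ center K)) with hC
      have hPC : (P : Subgroup (K ⧸ center K)) ≤ C := fun a ha =>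
        mem_cent.2 (hPc t (hP (mem_zpowers t)) a ha)
      have ht5 : ¬ 5 ∣ orderOf (e t) := by rw [MulEquiv.orderOf_eq, ht]; norm_num
      obtain ⟨k, hk, hk'⟩ := Cfsg.Lib.Dickson.centralizer_cases 5 (x := e t)
        (fun e1 => by
          rw [← map_one e] at e1
          rw [e.injective e1, orderOf_one] at ht
          norm_num at ht) ht5
      have hCe : Nat.card (centralizer ({e t} : Set (Matrix.ProjectiveSpecialLinearGroup (Fin 2) F))) =
          Nat.card C := by
        refine (Nat.card_congr (Equiv.subtypeEquiv e.toEquiv fun a => ?_)).symm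
        show a ∈ C ↔ e a ∈ _
        rw [hC, mem_cent, mem_cent]
        exact ⟨fun h' => h'.map e, fun h' => h'.of_map e.injective⟩
      rw [h5] at hk
      rw [hCe] at hk'
      have hC4 : Nat.card C = 4 := by
        have hd : 4 ∣ Nat.card C := hP4 ▸ card_dvd_of_le hPC
        have hk32 : k ∣ 3 ∨ k ∣ 2 := by norm_num at hk; exact hk
        have hk3 : k ≤ 3 := by
          rcases hk32 with h' | h' <;> have := Nat.le_of_dvd (by norm_num) h' <;> omega
        have hpos : 0 < Nat.card C := Nat.card_pos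
        rcases hk' with h' | ⟨-, h'⟩ <;> rw [h'] at hd hpos ⊢
        · omega
        · rcases hk32 with h'' | h''
          · rcases (Nat.dvd_prime Nat.prime_three).1 h'' with rfl | rfl <;> omega
          · rcases (Nat.dvd_prime Nat.prime_two).1 h'' with rfl | rfl <;> omega
      have hCP : C = (P : Subgroup (K ⧸ center K)) :=
        (eq_of_le_of_card_ge hPC (by rw [hC4, hP4])).symm
      exact ⟨comm_iff.1 (hCP ▸ hPc), fun c hc => hP2 c (hCP.le hc)⟩
  obtain ⟨x, hx2, hx⟩ : ∃ x : K ⧸ center K, orderOf x = 2 ∧ x ∉ Cfsg.Lib.Invol.EA.HH T := by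
    by_contra hc
    simp only [not_exists, not_and, not_not] at hc
    refine hEA.notNormal ⟨fun a ha b => ?_⟩
    by_cases ha1 : a = 1
    · rw [ha1, mul_one, mul_inv_cancel]; exact one_mem _
    · have h' : orderOf (b * a * b⁻¹) = 2 := by
        rw [Cfsg.Lib.Invol.orderOf_conj_eq]
        exact orderOf_eq_prime ((hsqP T).2.1 a ha) ha1
      exact Cfsg.Lib.Invol.EA.mem_of_involution hEA h' (hc _ h')
  obtain ⟨x₀, rfl⟩ := QuotientGroup.mk'_surjective (center K) x
  set S' := (S : Subgroup K).map K.subtype with hS'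
  set N := normalizer (S' : Set G) ⊓ K with hN
  have hmemN : ∀ k : K, (k : G) ∈ N ↔ π k ∈ Cfsg.Lib.Invol.EA.HH T := by
    intro k
    constructor
    · intro hk
      refine mem_normalizer_fintype ?_
      rintro _ ⟨s, hs, rfl⟩
      obtain ⟨t, ht, et⟩ := (mem_normalizer_iff.1 (Subgroup.mem_inf.1 hk).1 _).1 ⟨s, hs, rfl⟩
      refine ⟨t, ht, ?_⟩
      have : t = k * s * k⁻¹ := Subtype.ext et
      rw [this, map_mul, map_mul, map_inv]
    · intro hk
      refine Subgroup.mem_inf.2 ⟨mem_normalizer_fintype ?_, k.2⟩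
      rintro _ ⟨s, hs, rfl⟩
      refine ⟨k * s * k⁻¹, ?_, by simp⟩
      obtain ⟨j, hj⟩ := sylow_two_pow S hs
      refine sylow_mem_of_mk (k := j) (by rw [conj_pow, hj, mul_one, mul_inv_cancel]) ?_
      rw [map_mul, map_mul, map_inv]
      exact (mem_normalizer_iff.1 hk _).1 ⟨s, hs, rfl⟩
  have hyS : ∀ s ∈ S', Commute y s := by
    rintro _ ⟨s, hs, rfl⟩
    exact hys s hs
  have hyN' : y ∈ normalizer (S' : Set G) := by
    refine mem_normalizer_fintype fun s hs => ?_
    show y * s * y⁻¹ ∈ S'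
    rw [(hyS s hs).eq, mul_inv_cancel_right]
    exact hs
  refine hyK (kernel_false hK.commutator_self hK.cent
    (fun D hD hne => haveI := hD; hq.normal_le_center hne) (N := N) (S := S') inf_le_right ?_ ?_ ?_ ?_
    x₀.2 (fun hm => hx ((hmemN x₀).1 hm)) ?_ ?_ hyS)
  · exact fun e1 => hx ((hmemN x₀).1 (e1.symm ▸ x₀.2))
  · intro z hz
    obtain ⟨hzK, hzc⟩ := Subgroup.mem_inf.1 hz
    refine Subgroup.mem_inf.2 ⟨?_, hzK⟩
    exact center_le_normalizer _ hzc
  · exact le_inf le_normalizer (map_subtype_le _)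
  · rintro _ ⟨s, hs, rfl⟩ _ ⟨t, ht, rfl⟩
    have h1 : s * t * s⁻¹ * t⁻¹ ∈ center K := (QuotientGroup.eq_one_iff _).1 (by
      show π _ = 1
      rw [map_mul, map_mul, map_mul, map_inv, map_inv,
        ((hsqP T).1 _ ⟨s, hs, rfl⟩ _ ⟨t, ht, rfl⟩).eq, mul_inv_cancel_right, mul_inv_cancel])
    simpa using hK.mem_center.1 h1
  · intro k hk hkN
    obtain ⟨_, ⟨s, hs, rfl⟩, ht⟩ := Cfsg.Lib.Invol.EA.exists_translate hEA hx2 hx
      (g := π ⟨k, hk⟩) (fun e1 => hkN ((hmemN ⟨k, hk⟩).2 e1))
    rw [← map_mul, ← map_inv, ← map_mul] at ht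
    exact ⟨_, ⟨s, hs, rfl⟩, by simpa using (hmemN _).2 ht⟩
  · refine mem_normalizer_fintype fun n hn => ?_
    obtain ⟨h1, h2'⟩ := Subgroup.mem_inf.1 hn
    exact Subgroup.mem_inf.2 ⟨mul_mem (mul_mem hyN' h1) (inv_mem hyN'), hKn.conj_mem n h2' y⟩

end Cfsg.Lib.MinNonCA
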