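import Cfsg.Agent.Lib.MinNonCA.Component
import Cfsg.Agent.Lib.MinNonCA.Kernel
import Cfsg.Agent.S0033

/-!
# Minimal non-CA groups with a proper component: witnesses
-/

set_option autoImplicit false
set_option linter.style.haveILetI false

namespace Cfsg.Lib.MinNonCA

open Subgroup

variable {G : Type*} [Group G] [Finite G] {K : Subgroup G}

theorem IsMainComp.commutator_self (hK : IsMainComp K) : ⁅K, K⁆ = K := by
  rw [← map_subtype_commutator, hK.perfect, ← MonoidHom.range_eq_map, range_subtype]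

theorem IsMainComp.qmin (hK : IsMainComp K) (h : Min G) (htop : K ≠ ⊤) : QMin K := by
  refine ⟨hK.quasi, fun H _ => (h.proper (H.map K.subtype) fun e => htop ?_).congr
    (H.equivMapOfInjective _ K.subtype_injective).symm⟩
  exact top_le_iff.1 (e ▸ map_subtype_le H)

theorem IsMainComp.ca (hK : IsMainComp K) (h : Min G) (htop : K ≠ ⊤) : CA K := h.proper K htop

theorem IsMainComp.commute_in (hK : IsMainComp K) (h : Min G) (htop : K ≠ ⊤) {x a b : G} (hx : x ∈ K)
    (hxc : x ∉ center G) (ha : a ∈ K) (hxa : Commute x a) (hb : b ∈ K) (hxb : Commute x b) :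
    Commute a b :=
  ((hK.ca h htop).commute (x := (⟨x, hx⟩ : K)) (a := ⟨a, ha⟩) (b := ⟨b, hb⟩) (Subtype.ext hxa)
    (Subtype.ext hxb) fun hc => hxc (hK.mem_center.1 hc)).map K.subtype

theorem IsMainComp.sup_center_ne_top (hK : IsMainComp K) (h : Min G) (htop : K ≠ ⊤) :
    K ⊔ center G ≠ ⊤ := by
  intro e
  refine h.notCA (ca_of_comm fun x hx a ha b hb => ?_)
  haveI := hK.normal
  have dec : ∀ y : G, ∃ k ∈ K, ∃ z ∈ center G, k * z = y := fun y =>
    mem_sup_of_normal_right.1 (e ▸ mem_top y : y ∈ K ⊔ center G)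
  obtain ⟨x', hx', z, hz, rfl⟩ := dec x
  obtain ⟨a', ha', za, hza, rfl⟩ := dec a
  obtain ⟨b', hb', zb, hzb, rfl⟩ := dec b
  have key : ∀ c z', z' ∈ center G → Commute (x' * z) (c * z') → Commute x' c := by
    intro c z' hz' hc
    have h1 := (mem_center_iff'.1 (inv_mem hz) (c * z')).mul_left hc
    rw [show z⁻¹ * (x' * z) = x' by rw [mem_center_iff.1 hz x', inv_mul_cancel_left]] at h1
    have h2 := h1.mul_right (mem_center_iff'.1 (inv_mem hz') x').symm
    rwa [mul_inv_cancel_right] at h2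
  have hxc : x' ∉ center G := fun hc => hx (mul_mem hc hz)
  exact ((hK.commute_in h htop hx' hxc ha' (key _ _ hza (mem_cent.1 ha)) hb'
    (key _ _ hzb (mem_cent.1 hb))).mul_right (mem_center_iff'.1 hzb a').symm).mul_left
    (mem_center_iff'.1 hza _)

/-- Non-central elements of a proper component have abelian centralisers. -/
theorem IsMainComp.cent_comm (hK : IsMainComp K) (h : Min G) (htop : K ≠ ⊤) {x : G} (hx : x ∈ K)
    (hxc : x ∉ center G) : Comm (centralizer ({x} : Set G)) := by
  by_contra hM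
  set M := centralizer ({x} : Set G) with hMdef
  haveI := hK.normal
  haveI : Nontrivial K := ⟨⟨x, hx⟩, 1, fun e => hxc (by
    rw [show x = 1 from congrArg Subtype.val e]; exact one_mem _)⟩
  have hAc : Comm (M ⊓ K) := fun a ha b hb => hK.commute_in h htop hx hxc (Subgroup.mem_inf.1 ha).2
    (mem_cent.1 (Subgroup.mem_inf.1 ha).1) (Subgroup.mem_inf.1 hb).2 (mem_cent.1 (Subgroup.mem_inf.1 hb).1)
  have hne : normalizer ((M ⊓ K : Subgroup G) : Set G) ≠ ⊤ := fun e => by
    haveI := normalizer_eq_top_iff.1 e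
    exact hxc (h.comm_normal_le_center hAc (Subgroup.mem_inf.2 ⟨self_mem_cent x, hx⟩))
  have hMle : M ≤ normalizer ((M ⊓ K : Subgroup G) : Set G) := fun m hm => mem_normalizer_iff.2 fun a => by
    simp only [Subgroup.mem_inf]
    refine ⟨fun ha => ⟨M.mul_mem (M.mul_mem hm ha.1) (M.inv_mem hm), hK.normal.conj_mem a ha.2 m⟩,
      fun ha => ⟨?_, ?_⟩⟩
    · have := M.mul_mem (M.mul_mem (M.inv_mem hm) ha.1) hm
      rwa [show m⁻¹ * (m * a * m⁻¹) * m = a by group] at this
    · have := hK.normal.conj_mem' _ ha.2 m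
      rwa [show m⁻¹ * (m * a * m⁻¹) * m = a by group] at this
  refine selfnorm_false (hK.ca h htop) hK.perfect (x := (⟨x, hx⟩ : K))
    (fun hc => hxc (hK.mem_center.1 hc)) fun n hn => ?_
  have e : (centralizer ({(⟨x, hx⟩ : K)} : Set K)).map K.subtype = M ⊓ K := by
    ext a
    rw [Subgroup.mem_inf, hMdef, mem_cent]
    refine ⟨fun ⟨c, hc, e⟩ => e ▸ ⟨(mem_cent.1 hc).map K.subtype, c.2⟩, fun ha => ?_⟩
    exact ⟨⟨a, ha.2⟩, mem_cent.2 (Subtype.ext ha.1), rfl⟩
  have h1 : (n : G) ∈ normalizer ((M ⊓ K : Subgroup G) : Set G) :=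
    e ▸ le_normalizer_map K.subtype ⟨n, hn, rfl⟩
  exact mem_cent.2 (Subtype.ext (mem_cent.1 (h.proper.le_cent hM hne hMle h1)))

/-- An element outside `K Z` with non-abelian centraliser. -/
structure IsWitness (K : Subgroup G) (g : G) : Prop where
  notMem : g ∉ K ⊔ center G
  notComm : ¬ Comm (centralizer ({g} : Set G))

theorem IsWitness.not_center {g : G} (hg : IsWitness K g) : g ∉ center G :=
  fun e => hg.notMem (mem_sup_right e)

theorem IsMainComp.witness_notMem (hK : IsMainComp K) (h : Min G) (htop : K ≠ ⊤) {g : G}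
    (hg : g ∉ center G) (hgc : ¬ Comm (centralizer ({g} : Set G))) : IsWitness K g := by
  refine ⟨fun hm => ?_, hgc⟩
  haveI := hK.normal
  obtain ⟨k, hk, z, hz, rfl⟩ := mem_sup_of_normal_right.1 hm
  refine hgc ((hK.cent_comm h htop hk fun e => hg (mul_mem e hz)).mono fun a ha => mem_cent.2 ?_)
  have h1 := (mem_center_iff'.1 (inv_mem hz) a).mul_left (mem_cent.1 ha)
  rwa [show z⁻¹ * (k * z) = k by rw [mem_center_iff.1 hz k, inv_mul_cancel_left]] at h1

/-- A witness of prime order modulo the centre. -/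
theorem IsMainComp.exists_witness (hK : IsMainComp K) (h : Min G) (htop : K ≠ ⊤) :
    ∃ (g : G) (r : ℕ), r.Prime ∧ g ^ r ∈ center G ∧ IsWitness K g := by
  obtain ⟨g, hg, hgc⟩ := h.exists_witness
  set q := QuotientGroup.mk' (center G) g with hq
  have hq1 : orderOf q ≠ 1 := fun e => hg ((QuotientGroup.eq_one_iff g).1 (orderOf_eq_one_iff.1 e))
  obtain ⟨r, hr, hrd⟩ := Nat.exists_prime_and_dvd hq1
  have hg' : g ^ (orderOf q / r) ∉ center G := fun e => by
    have h1 : q ^ (orderOf q / r) = 1 := by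
      rw [hq, ← map_pow]; exact (QuotientGroup.eq_one_iff _).2 e
    have hpos := orderOf_pos q
    have h2 := Nat.le_of_dvd (Nat.div_pos (Nat.le_of_dvd hpos hrd) hr.pos) (orderOf_dvd_of_pow_eq_one h1)
    exact absurd h2 (not_le.2 (Nat.div_lt_self hpos hr.one_lt))
  refine ⟨g ^ (orderOf q / r), r, hr, ?_, hK.witness_notMem h htop hg' fun hc => hgc (hc.mono ?_)⟩
  · rw [← pow_mul, Nat.div_mul_cancel hrd, ← QuotientGroup.eq_one_iff]
    show QuotientGroup.mk' (center G) _ = 1
    rw [map_pow, ← hq, pow_orderOf_eq_one]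
  · exact fun a ha => mem_cent.2 ((mem_cent.1 ha).pow_left _)

variable {g : G}

theorem IsWitness.closure (hg : IsWitness K g) (hK : IsMainComp K) (h : Min G) (htop : K ≠ ⊤) {l a : G}
    (hl : l ∈ K) (hlc : l ∉ center G) (hgl : Commute g l) (ha : a ∈ K) (hla : Commute l a) :
    Commute g a :=
  hK.cent_comm h htop hl hlc g (mem_cent.2 hgl.symm) a (mem_cent.2 hla)

/-- Fixed points modulo the centre are fixed points. -/
theorem IsWitness.commute_of_central (hg : IsWitness K g) (h : Min G) {k : G}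
    (hk : k * g * k⁻¹ * g⁻¹ ∈ center G) : Commute g k := by
  set D := zpowers g ⊔ center G with hD
  have hle : D ≤ centralizer ({g} : Set G) := sup_le (zpowers_le.2 (self_mem_cent g))
    fun z hz => mem_cent.2 (mem_center_iff'.1 hz g).symm
  have hDc : Comm D := fun a ha b hb => by
    obtain ⟨_, ⟨i, rfl⟩, z, hz, rfl⟩ := mem_sup_of_normal_right.1 ha
    exact ((mem_cent.1 (hle hb)).zpow_left i).mul_left (mem_center_iff'.1 hz b)
  have hne : normalizer (D : Set G) ≠ ⊤ := fun e => by
    haveI := normalizer_eq_top_iff.1 e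
    exact hg.not_center (h.comm_normal_le_center hDc (mem_sup_left (mem_zpowers g)))
  have hnorm : ∀ m : G, m * g * m⁻¹ * g⁻¹ ∈ center G → m ∈ normalizer (D : Set G) := by
    intro m hm
    refine Cfsg.Lib.Core.mem_normalizer_iff_map_conj.2 (Subgroup.eq_of_le_of_card_ge ?_
      (Subgroup.card_map_of_injective (MulAut.conj m).injective).ge)
    rw [hD, Subgroup.map_sup, MonoidHom.map_zpowers]
    refine sup_le (zpowers_le.2 ?_) ?_
    · show m * g * m⁻¹ ∈ D
      rw [show m * g * m⁻¹ = (m * g * m⁻¹ * g⁻¹) * g by group]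
      exact D.mul_mem (mem_sup_right hm) (mem_sup_left (mem_zpowers g))
    · rintro _ ⟨z, hz, rfl⟩
      exact mem_sup_right ((inferInstance : (center G).Normal).conj_mem z hz m)
  refine mem_cent.1 (h.proper.le_cent hg.notComm hne (fun m hm => hnorm m ?_) (hnorm k hk))
  rw [(mem_cent.1 hm).symm.eq, mul_inv_cancel_right, mul_inv_cancel]
  exact one_mem _

theorem IsWitness.sup_eq_top (hg : IsWitness K g) (hK : IsMainComp K) (h : Min G)
    (hL : ¬ Comm (centralizer ({g} : Set G) ⊓ K)) : (K ⊔ center G) ⊔ zpowers g = ⊤ := by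
  by_contra hne
  have hc := h.proper.central_of_not_comm hne (mem_sup_right (mem_zpowers g))
    (inf_le_right.trans (le_sup_left.trans le_sup_left)) hL
    fun l hl => mem_cent.1 (Subgroup.mem_inf.1 hl).1
  refine hg.not_center (hK.cent (mem_centralizer_iff.2 fun k hk => ?_))
  exact (hc k (mem_sup_left (mem_sup_left hk))).eq.symm

theorem IsWitness.not_comm_inter (hg : IsWitness K g) (hK : IsMainComp K) (h : Min G) (htop : K ≠ ⊤)
    {r : ℕ} (hr : r.Prime) (hgr : g ^ r ∈ center G) : ¬ Comm (centralizer ({g} : Set G) ⊓ K) := by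
  haveI := hK.normal
  haveI := Cfsg.Lib.Core.quasisimple_nontrivial hK.quasi
  intro hLc
  by_cases hLz : centralizer ({g} : Set G) ⊓ K ≤ center G
  · -- fixed point free action of order `r`
    set e : MulAut K := MulAut.conjNormal g with he
    have hmap : (center K).map (e : K →* K) = center K := by
      ext x
      rw [show x ∈ (center K).map (e : K →* K) ↔ e.symm x ∈ center K from Subgroup.mem_map_equiv,
        mem_center_iff, mem_center_iff]
      refine ⟨fun hh y => e.symm.injective (by simpa using hh (e.symm y)), fun hh y => e.injective ?_⟩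
      simpa using hh (e y)
    set φ : (K ⧸ center K) ≃* (K ⧸ center K) := QuotientGroup.congr _ _ e hmap with hφ
    have hφ' : ∀ k : K, φ (QuotientGroup.mk k) = QuotientGroup.mk (e k) := fun k => rfl
    have hcoe : ∀ k : K, ((e k : K) : G) = g * k * g⁻¹ := fun k => MulAut.conjNormal_apply g k
    have hfp : MonoidHom.FixedPointFree (φ : (K ⧸ center K) →* (K ⧸ center K)) := by
      intro q hq
      obtain ⟨k, rfl⟩ := QuotientGroup.mk_surjective q
      have h1 : (e k)⁻¹ * k ∈ center K := QuotientGroup.eq.1 (((hφ' k).symm).trans hq)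
      have h2 := hK.mem_center.1 h1
      rw [Subgroup.coe_mul, Subgroup.coe_inv, hcoe] at h2
      have h3 : (k : G) * g * (k : G)⁻¹ * g⁻¹ ∈ center G := by
        have := (inferInstance : (center G).Normal).conj_mem _ h2 ((g : G) * k * g⁻¹)
        rwa [show g * k * g⁻¹ * ((g * (k : G) * g⁻¹)⁻¹ * k) * (g * k * g⁻¹)⁻¹ =
          (k : G) * g * (k : G)⁻¹ * g⁻¹ by group] at this
      have hcm := hg.commute_of_central h h3
      exact (QuotientGroup.eq_one_iff k).2
        (hK.mem_center.2 (hLz (Subgroup.mem_inf.2 ⟨mem_cent.2 hcm, k.2⟩)))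
    have hpow : ∀ (n : ℕ) (k : K), (φ ^ n) (QuotientGroup.mk k) = QuotientGroup.mk ((e ^ n) k) := by
      intro n
      induction n with
      | zero => intro k; rfl
      | succ n ih => intro k; rw [pow_succ, pow_succ, MulAut.mul_apply, MulAut.mul_apply, hφ', ih]
    have hord : orderOf φ = r := by
      haveI := Fact.mk hr
      refine orderOf_eq_prime (MulEquiv.ext fun q => ?_) fun e1 => ?_
      · obtain ⟨k, rfl⟩ := QuotientGroup.mk_surjective q
        rw [hpow, MulAut.one_apply]
        refine congrArg _ (Subtype.ext ?_)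
        rw [he, ← map_pow, MulAut.conjNormal_apply, ← mem_center_iff.1 hgr (k : G), mul_inv_cancel_right]
      · have hall : ∀ q : K ⧸ center K, q = 1 := fun q => hfp q (by
          show φ q = q
          rw [e1]; rfl)
        exact Cfsg.Lib.Core.quasisimple_center_ne_top hK.quasi
          (top_le_iff.1 fun k _ => (QuotientGroup.eq_one_iff k).1 (hall _))
    haveI := Cfsg.Agent.S0033.result φ hfp r hr hord
    refine Cfsg.Lib.Core.quasisimple_not_solvable hK.quasi
      ((Group.isSolvable_iff_subgroup_quotient (center K)).2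
        ⟨Comm.isSolvable fun a _ b hb => mem_center_iff.1 hb a, IsNilpotent.to_isSolvable⟩)
  -- an abelian non-central intersection
  obtain ⟨x, hx, hxc⟩ := SetLike.not_le_iff_exists.1 hLz
  obtain ⟨hxg, hxK⟩ := Subgroup.mem_inf.1 hx
  set L := centralizer ({g} : Set G) ⊓ K with hL
  have hne : normalizer (L : Set G) ≠ ⊤ := fun e => by
    haveI := normalizer_eq_top_iff.1 e
    exact hxc (h.comm_normal_le_center hLc hx)
  have hMle : centralizer ({g} : Set G) ≤ normalizer (L : Set G) := fun m hm =>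
    mem_normalizer_iff.2 fun a => by
      simp only [hL, Subgroup.mem_inf]
      refine ⟨fun ha => ⟨mul_mem (mul_mem hm ha.1) (inv_mem hm), hK.normal.conj_mem a ha.2 m⟩,
        fun ha => ⟨?_, ?_⟩⟩
      · have := mul_mem (mul_mem (inv_mem hm) ha.1) hm
        rwa [show m⁻¹ * (m * a * m⁻¹) * m = a by group] at this
      · have := hK.normal.conj_mem' _ ha.2 m
        rwa [show m⁻¹ * (m * a * m⁻¹) * m = a by group] at this
  refine selfnorm_false (hK.ca h htop) hK.perfect (x := (⟨x, hxK⟩ : K))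
    (fun hc => hxc (hK.mem_center.1 hc)) fun n hn => ?_
  have e : (centralizer ({(⟨x, hxK⟩ : K)} : Set K)).map K.subtype = L := by
    ext a
    rw [hL, Subgroup.mem_inf, mem_cent]
    refine ⟨fun ⟨c, hc, e⟩ => e ▸ ⟨hg.closure hK h htop hxK hxc (mem_cent.1 hxg) c.2
      ((mem_cent.1 hc).map K.subtype), c.2⟩, fun ha => ⟨⟨a, ha.2⟩, mem_cent.2 (Subtype.ext ?_), rfl⟩⟩
    exact hLc x hx a (Subgroup.mem_inf.2 ⟨mem_cent.2 ha.1, ha.2⟩)
  have h1 : (n : G) ∈ normalizer (L : Set G) := e ▸ le_normalizer_map K.subtype ⟨n, hn, rfl⟩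
  refine mem_cent.2 (Subtype.ext ?_)
  exact hLc x hx n (Subgroup.mem_inf.2 ⟨h.proper.le_cent hg.notComm hne hMle h1, n.2⟩)

end Cfsg.Lib.MinNonCA
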