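import Cfsg.Agent.Lib.MinNonCA.Two

/-!
# Uses of the structure of a non-abelian Sylow 2-subgroup
-/

set_option autoImplicit false
set_option linter.style.haveILetI false

namespace Cfsg.Lib.MinNonCA

open Subgroup

variable {X : Type*} [Group X] {S : Sylow 2 X} {A : Subgroup X}

/-- The cyclic part has only one involution modulo the centre. -/
theorem TwoData.unique_involution (hA : TwoData S A) {a b : X} (ha : a ∈ A) (hb : b ∈ A)
    (ha2 : a * a ∈ center X) (hb2 : b * b ∈ center X) (hac : a ∉ center X) (hbc : b ∉ center X) :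
    a⁻¹ * b ∈ center X := by
  set f := QuotientGroup.mk' (center X) with hf
  haveI := hA.cyclic
  obtain ⟨⟨r, hr⟩, hgen⟩ := IsCyclic.exists_generator (α := A.map f)
  obtain ⟨r', hr', rfl⟩ := hr
  have key : ∀ c ∈ A, c * c ∈ center X → c ∉ center X → ∃ n m : ℕ, n = 2 * m ∧ n = orderOf (f r') ∧
      f c = f r' ^ m := by
    intro c hc hc2 hcc
    obtain ⟨i, hi⟩ := hgen ⟨f c, c, hc, rfl⟩
    have hi' : f r' ^ i = f c := congrArg Subtype.val hi
    set n := orderOf (f r') with hn
    have h1 : (n : ℤ) ∣ 2 * i := by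
      rw [hn, orderOf_dvd_iff_zpow_eq_one, mul_comm, _root_.zpow_mul, hi', zpow_two, ← map_mul]
      exact (QuotientGroup.eq_one_iff _).2 hc2
    have h2 : ¬ (n : ℤ) ∣ i := fun h => hcc ((QuotientGroup.eq_one_iff c).1 (by
      show f c = 1
      rw [← hi']
      exact orderOf_dvd_iff_zpow_eq_one.1 h))
    obtain ⟨k, hk⟩ := h1
    have hkodd : Odd k := by
      rcases Int.even_or_odd k with ⟨j, rfl⟩ | hodd
      · exact absurd ⟨j, by linarith⟩ h2
      · exact hodd
    have hneven : Even n := by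
      rcases Nat.even_or_odd n with he | ho
      · exact he
      · have : Odd ((n : ℤ) * k) := Int.odd_mul.2 ⟨by exact_mod_cast ho, hkodd⟩
        rw [← hk] at this
        exact absurd this (by simp)
    obtain ⟨m, hm⟩ := hneven
    refine ⟨n, m, by omega, rfl, ?_⟩
    have hik : i = (m : ℤ) * k := by
      have : (n : ℤ) = 2 * m := by omega
      rw [this] at hk
      linarith
    obtain ⟨j, hj⟩ := hkodd
    rw [← hi', hik, hj, show (m : ℤ) * (2 * j + 1) = (n : ℤ) * j + m by rw [hm]; push_cast; ring, zpow_add,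
      _root_.zpow_mul, zpow_natCast, pow_orderOf_eq_one, one_zpow, one_mul, zpow_natCast]
  obtain ⟨n, m, h1, h2, h3⟩ := key a ha ha2 hac
  obtain ⟨n', m', h1', h2', h3'⟩ := key b hb hb2 hbc
  have hm : m = m' := by omega
  exact (QuotientGroup.eq (s := center X)).1 (show f a = f b by rw [h3, h3', hm])

/-- Lifts of two distinct involutions modulo the centre do not commute. -/
theorem TwoData.not_commute_four (hA : TwoData S A) {u v : X} (hu : u ∈ (S : Subgroup X))
    (hv : v ∈ (S : Subgroup X)) (hu2 : u * u ∈ center X) (hv2 : v * v ∈ center X) (huc : u ∉ center X)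
    (hvc : v ∉ center X) (huv : u⁻¹ * v ∉ center X) : ¬ Commute u v := by
  intro hc
  by_cases huA : u ∈ A <;> by_cases hvA : v ∈ A
  · exact huv (hA.unique_involution huA hvA hu2 hv2 huc hvc)
  · exact hA.not_commute v hv hvA u huA huc hc.symm
  · exact hA.not_commute u hu huA v hvA hvc hc
  · exact hA.not_commute u hu huA _
      (hA.mul_mem_two _ (inv_mem hu) (fun e => huA (by simpa using A.inv_mem e)) v hv hvA) huv
      (((Commute.refl u).inv_right).mul_right hc)

variable [Finite X]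

/-- In `A₇` modulo the centre a three-element has non-abelian centraliser and is inverted. -/
theorem QMin.alt_seven_data (h : QMin X) {S₀ : Sylow 2 X} (hS : ¬ Comm (S₀ : Subgroup X))
    (e : X ⧸ center X ≃* alternatingGroup (Fin 7)) :
    ∃ d : X, d ∉ center X ∧ d * d ∉ center X ∧ ¬ Comm (centralizer ({d} : Set X)) ∧
      ∃ w : X, w * d * w⁻¹ * d ∈ center X := by
  haveI : Fact (Nat.Prime 2) := ⟨Nat.prime_two⟩
  set f := QuotientGroup.mk' (center X) with hf
  let D : alternatingGroup (Fin 7) := ⟨Equiv.swap 4 5 * Equiv.swap 5 6, Equiv.Perm.mem_alternatingGroup.mpr (by decide)⟩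
  let V₁ : alternatingGroup (Fin 7) := ⟨Equiv.swap 0 1 * Equiv.swap 2 3, Equiv.Perm.mem_alternatingGroup.mpr (by decide)⟩
  let V₂ : alternatingGroup (Fin 7) := ⟨Equiv.swap 0 2 * Equiv.swap 1 3, Equiv.Perm.mem_alternatingGroup.mpr (by decide)⟩
  let W : alternatingGroup (Fin 7) := ⟨Equiv.swap 0 1 * Equiv.swap 4 5, Equiv.Perm.mem_alternatingGroup.mpr (by decide)⟩
  have hDD : D * D ≠ 1 := by decide
  have hD3 : D * D * D = 1 := by decide
  have hV : V₁ * V₁ = 1 ∧ V₂ * V₂ = 1 ∧ V₁ * V₂ = V₂ * V₁ ∧ V₁ ≠ 1 ∧ V₂ ≠ 1 ∧ V₁ ≠ V₂ := by decide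
  have hDV : D * V₁ = V₁ * D ∧ D * V₂ = V₂ * D := by decide
  have hWD : W * D * W⁻¹ * D = 1 := by decide
  set v₁ := e.symm V₁ with hv1
  set v₂ := e.symm V₂ with hv2
  have h12 : Commute v₁ v₂ := (show Commute V₁ V₂ from hV.2.2.1).map e.symm
  set E := zpowers v₁ ⊔ zpowers v₂ with hE
  have hE2 : IsPGroup 2 E := by
    refine (isPGroup_zpowers (p := 2) (k := 1) (y := v₁)
      (by rw [pow_one, sq, ← map_mul, hV.1, map_one])).to_sup_of_normal_right'
      (isPGroup_zpowers (p := 2) (k := 1) (y := v₂) (by rw [pow_one, sq, ← map_mul, hV.2.1, map_one])) ?_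
    refine le_trans (zpowers_le.2 (mem_centralizer_iff.2 ?_)) (centralizer_le_normalizer _)
    rintro _ ⟨j, rfl⟩
    exact (h12.symm.zpow_left j).eq
  obtain ⟨P, hP⟩ := hE2.exists_le_sylow
  obtain ⟨q, rfl⟩ := MulAction.exists_smul_eq (X ⧸ center X)
    (S₀.mapSurjective (QuotientGroup.mk'_surjective (center X))) P
  obtain ⟨g, rfl⟩ := QuotientGroup.mk'_surjective (center X) q
  set S := g • S₀ with hSg
  have hcoe : ∀ v ∈ E, ∃ a ∈ (S : Subgroup X), f a = v := by
    intro v hv
    have hm := hP hv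
    rw [Sylow.coe_subgroup_smul, Subgroup.mem_pointwise_smul_iff_inv_smul_mem] at hm
    simp only [MulAut.smul_def, MulAut.inv_def, MulAut.conj_symm_apply] at hm
    obtain ⟨a, ha, ea⟩ := (hm : _ ∈ (S₀ : Subgroup X).map f)
    refine ⟨g * a * g⁻¹, ?_, by rw [map_mul, map_mul, map_inv, ea, hf]; group⟩
    rw [hSg, Sylow.coe_subgroup_smul]
    exact ⟨a, ha, by simp⟩
  obtain ⟨a, ha, ea⟩ := hcoe v₁ (mem_sup_left (mem_zpowers _))
  obtain ⟨b, hb, eb⟩ := hcoe v₂ (mem_sup_right (mem_zpowers _))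
  obtain ⟨A, hA⟩ := h.exists_twoData S (not_comm_sylow_conj S₀ S hS)
  have hz : ∀ x : X, x ∈ center X ↔ e (f x) = 1 := fun x => by
    rw [MulEquiv.map_eq_one_iff]; exact (QuotientGroup.eq_one_iff x).symm
  have ea' : e (f a) = V₁ := by rw [ea, hv1, MulEquiv.apply_symm_apply]
  have eb' : e (f b) = V₂ := by rw [eb, hv2, MulEquiv.apply_symm_apply]
  have hab : ¬ Commute a b := hA.not_commute_four ha hb
    ((hz _).2 (by rw [map_mul, map_mul, ea', hV.1]))
    ((hz _).2 (by rw [map_mul, map_mul, eb', hV.2.1]))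
    (fun hc => hV.2.2.2.1 (by rw [← ea']; exact (hz a).1 hc))
    (fun hc => hV.2.2.2.2.1 (by rw [← eb']; exact (hz b).1 hc))
    (fun hc => hV.2.2.2.2.2 (by
      have h1 := (hz _).1 hc
      rw [map_mul, map_mul, map_inv, map_inv, ea', eb', inv_mul_eq_one] at h1
      exact h1))
  obtain ⟨d, hd⟩ := QuotientGroup.mk'_surjective (center X) (e.symm D)
  have ed : e (f d) = D := by rw [hd, MulEquiv.apply_symm_apply]
  have hfix : ∀ x : X, e (f x) * e (f x) = 1 → D * e (f x) = e (f x) * D → Commute d x := by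
    intro x hx2 hxD
    set z := x⁻¹ * (d * x * d⁻¹) with hzdef
    have hz1 : z ∈ center X := (hz z).2 (by
      simp only [hzdef, map_mul, map_inv, ed]
      rw [hxD, mul_inv_cancel_right, inv_mul_cancel])
    have hx2' : x * x ∈ center X := (hz _).2 (by rw [map_mul, map_mul, hx2])
    have e1 : d * x * d⁻¹ = x * z := by rw [hzdef]; group
    have hd3 : d ^ 3 ∈ center X := (hz _).2 (by rw [map_pow, map_pow, ed, pow_succ, sq, hD3])
    refine commute_of_conj_mul e1 (mem_center_iff.1 hz1 d) (n := 3) (m := 2)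
      (mem_center_iff'.1 hd3 x) ?_ (by norm_num)
    have h1 : d * (x * x) * d⁻¹ = (x * x) * (z * z) := by
      calc d * (x * x) * d⁻¹ = (x * z) * (x * z) := by rw [← e1]; group
        _ = _ := by rw [(mem_center_iff'.1 hz1 x).mul_mul_mul_comm]
    rw [mem_center_iff.1 hx2' d, mul_inv_cancel_right, left_eq_mul] at h1
    rw [sq, h1]
  have hda := hfix a (by rw [ea', hV.1]) (by rw [ea']; exact hDV.1)
  have hdb := hfix b (by rw [eb', hV.2.1]) (by rw [eb']; exact hDV.2)
  refine ⟨d, fun hc => hDD ?_, fun hc => hDD ?_, fun hc => hab (hc a (mem_cent.2 hda) b (mem_cent.2 hdb)), ?_⟩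
  · rw [← ed, (hz d).1 hc, one_mul]
  · rw [← ed, ← map_mul, ← map_mul, (hz _).1 hc]
  · obtain ⟨w, hw⟩ := QuotientGroup.mk'_surjective (center X) (e.symm W)
    refine ⟨w, (hz _).2 ?_⟩
    have ew : e (f w) = W := by rw [hw, MulEquiv.apply_symm_apply]
    simp only [map_mul, map_inv, ed, ew, hWD]

end Cfsg.Lib.MinNonCA
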