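import Cfsg.Agent.Lib.MinNonCA.OuterBase
import Cfsg.Agent.Lib.MinNonCA.TwoUse
import Cfsg.Agent.S0074

/-!
# Minimal non-CA groups with a proper component: an outer element centralising a Sylow 2-subgroup
-/

set_option autoImplicit false
set_option linter.style.haveILetI false

namespace Cfsg.Lib.MinNonCA

open Subgroup
open scoped commutatorElement

/-- In a perfect group with abelian Sylow subgroup the normaliser of the latter fixes no element of it. -/
theorem exists_normalizer_moving {Y : Type*} [Group Y] [Finite Y] (hperf : commutator Y = ⊤) {p : ℕ}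
    [Fact p.Prime] (P : Sylow p Y) (hP : Comm (P : Subgroup Y)) {x : Y} (hx : x ∈ (P : Subgroup Y))
    (hx1 : x ≠ 1) : ∃ n ∈ normalizer ((P : Subgroup Y) : Set Y), n * x * n⁻¹ ≠ x := by
  by_contra hc
  simp only [not_exists, not_and, not_not] at hc
  set N := normalizer ((P : Subgroup Y) : Set Y) with hN
  set P₁ := P.subtype (N := N) le_normalizer with hP1
  haveI : IsMulCommutative (P : Subgroup Y) := comm_iff.1 hP
  haveI : IsMulCommutative (P₁ : Subgroup N) := comm_iff.1 fun a ha b hb =>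
    Subtype.ext (hP _ (mem_subgroupOf.1 ha) _ (mem_subgroupOf.1 hb))
  have h0 := Cfsg.Agent.S0074.result P inferInstance
  rw [hperf, top_inf_eq] at h0
  have h1 : x ∈ ⁅N, N⁆ := (h0.le hx).1
  rw [← map_subtype_commutator] at h1
  obtain ⟨c, hc', e⟩ := h1
  have h2 := Cfsg.Lib.Fusion.inf_commutator_inf_center_eq_bot_sylow P₁
  have h3 : c ∈ (P₁ : Subgroup N) ⊓ commutator N ⊓ center N := by
    refine ⟨⟨mem_subgroupOf.2 ?_, hc'⟩, mem_center_iff.2 fun m => Subtype.ext ?_⟩
    · rw [show (c : Y) = x from e]; exact hx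
    · show (m : Y) * c = c * m
      rw [show (c : Y) = x from e]
      exact mul_inv_eq_iff_eq_mul.1 (hc m m.2)
  rw [h2, Subgroup.mem_bot] at h3
  exact hx1 (by rw [← e, h3]; rfl)

variable {G : Type*} [Group G] [Finite G] {K : Subgroup G}

/-- An element fixing the cyclic part modulo the centre and normalising the Sylow 2-subgroup
centralises it. -/
theorem commute_sylow_of_fix (hK : IsMainComp K) {S : Sylow 2 K} {A : Subgroup K} (hA : TwoData S A)
    {y : G} {n : ℕ} (hn : Odd n) (hyn : y ^ n = 1)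
    (hy : ∀ s ∈ (S : Subgroup K), ∃ t ∈ (S : Subgroup K), (t : G) = y * s * y⁻¹)
    (hfix : ∀ a ∈ A, Commute (QuotientGroup.mk' (center G) y) (QuotientGroup.mk' (center G) (a : G))) :
    ∀ s ∈ (S : Subgroup K), Commute y (s : G) := by
  set f := QuotientGroup.mk' (center G) with hf
  have hcenter : ∀ k : K, f (k : G) = 1 ↔ k ∈ center K := fun k => by
    rw [hK.mem_center]; exact QuotientGroup.eq_one_iff _
  have hmem : ∀ a ∈ A, ∀ b ∈ (S : Subgroup K), f (b : G) = f (a : G) → b ∈ A := by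
    intro a ha b hb e
    have hz : a⁻¹ * b ∈ center K := (hcenter _).1 (by rw [Subgroup.coe_mul, Subgroup.coe_inv, map_mul, map_inv, e, inv_mul_cancel])
    simpa using A.mul_mem ha (hA.center_mem _ (mul_mem (inv_mem (hA.le ha)) hb) hz)
  have two_pow : ∀ s ∈ (S : Subgroup K), ∃ j : ℕ, (s : G) ^ 2 ^ j = 1 := fun s hs =>
    (sylow_two_pow S hs).imp fun j hj => congrArg Subtype.val hj
  have hmod : ∀ s ∈ (S : Subgroup K), Commute (f y) (f (s : G)) := by
    intro s hs
    by_cases hsA : s ∈ A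
    · exact hfix s hsA
    obtain ⟨t, ht, et⟩ := hy s hs
    have htA : t ∉ A := fun htA => hsA (by
      refine hmem t htA s hs ?_
      have h1 := (hfix t htA).eq
      rw [et, map_mul, map_mul, map_inv] at h1 ⊢
      calc f (s : G) = (f y)⁻¹ * (f y * f (s : G) * (f y)⁻¹) * f y := by group
        _ = _ := by rw [mul_assoc, ← h1, inv_mul_cancel_left])
    have hd : s⁻¹ * t ∈ A :=
      hA.mul_mem_two _ (inv_mem hs) (fun e => hsA (by simpa using A.inv_mem e)) t ht htA
    obtain ⟨j, hj⟩ := two_pow _ (hA.le hd)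
    refine commute_of_pow_eq_one (z := f ((s⁻¹ * t : K) : G)) ?_ (hfix _ hd) (n := n)
      (by rw [← map_pow, hyn, map_one]) (m := 2 ^ j) (by rw [← map_pow, hj, map_one])
      (Nat.Coprime.pow_right _ hn.coprime_two_right)
    rw [Subgroup.coe_mul, Subgroup.coe_inv, et, map_mul, map_mul, map_mul, map_inv, map_inv]
    group
  intro s hs
  obtain ⟨t, ht, et⟩ := hy s hs
  have hz : (s : G)⁻¹ * (y * s * y⁻¹) ∈ center G := by
    refine (QuotientGroup.eq_one_iff _).1 ?_
    show f _ = 1
    rw [map_mul, map_mul, map_mul, map_inv, map_inv, (hmod s hs).eq, mul_inv_cancel_right, inv_mul_cancel]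
  obtain ⟨j, hj⟩ := two_pow _ (mul_mem (inv_mem hs) ht)
  rw [Subgroup.coe_mul, Subgroup.coe_inv, et] at hj
  exact commute_of_pow_eq_one (z := (s : G)⁻¹ * (y * s * y⁻¹)) (by group) (mem_center_iff.1 hz y)
    hyn hj (Nat.Coprime.pow_right _ hn.coprime_two_right)

omit [Finite G] in
theorem exists_pow_rpart {H : Subgroup G} {r : ℕ} (hr : r.Prime) {y : G} (hy : y ∉ H) (hyr : y ^ r ∈ H)
    (ho : orderOf y ≠ 0) : ∃ m a : ℕ, y ^ m ∉ H ∧ (y ^ m) ^ r ^ a = 1 := by
  obtain ⟨a, m, hm, he⟩ := Nat.exists_eq_pow_mul_and_not_dvd ho r hr.ne_one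
  refine ⟨m, a, fun hc => hy ?_, ?_⟩
  · have hco : Nat.Coprime r m := hr.coprime_iff_not_dvd.2 hm
    have h3 := mul_mem (zpow_mem hyr (Nat.gcdA r m)) (zpow_mem hc (Nat.gcdB r m))
    rw [← zpow_natCast y r, ← zpow_natCast y m, ← _root_.zpow_mul, ← _root_.zpow_mul, ← zpow_add,
      ← Nat.gcd_eq_gcd_ab, hco.gcd_eq_one] at h3
    simpa using h3
  · rw [← pow_mul, mul_comm, ← he, pow_orderOf_eq_one]

/-- If `G / K Z` has odd prime exponent, an element outside centralises the Sylow 2-subgroup. -/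
theorem IsMainComp.exists_outer_centralizing (hK : IsMainComp K) (h : Min G) (htop : K ≠ ⊤)
    {S : Sylow 2 K} (hS : ¬ Comm (S : Subgroup K)) {r : ℕ} (hr : r.Prime) (hr2 : r ≠ 2)
    (hexp : ∀ y : G, y ^ r ∈ K ⊔ center G) :
    ∃ y : G, y ∉ K ⊔ center G ∧ ∀ s ∈ (S : Subgroup K), Commute y (s : G) := by
  haveI : Fact (Nat.Prime 2) := ⟨Nat.prime_two⟩
  haveI := hK.normal
  obtain ⟨A, hA⟩ := (hK.qmin h htop).exists_twoData S hS
  set f := QuotientGroup.mk' (center G) with hf
  set S' := (S : Subgroup K).map K.subtype with hS'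
  have hfr : normalizer (S' : Set G) ⊔ K = ⊤ := Sylow.normalizer_sup_eq_top S
  obtain ⟨y₀, hy₀, hy₀K⟩ : ∃ y ∈ normalizer (S' : Set G), y ∉ K ⊔ center G := by
    by_contra hc
    simp only [not_exists, not_and, not_not] at hc
    exact hK.sup_center_ne_top h htop (top_le_iff.1 (hfr ▸ sup_le hc le_sup_left))
  have hconj : ∀ y ∈ normalizer (S' : Set G), ∀ s ∈ (S : Subgroup K),
      ∃ t ∈ (S : Subgroup K), (t : G) = y * s * y⁻¹ := fun y hy s hs => by
    obtain ⟨t, ht, e⟩ := (mem_normalizer_iff.1 hy _).1 ⟨s, hs, rfl⟩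
    exact ⟨t, ht, e⟩
  have hcenter : ∀ k : K, f (k : G) = 1 ↔ k ∈ center K := fun k => by
    rw [hK.mem_center]; exact QuotientGroup.eq_one_iff _
  by_cases hsq : ∀ a ∈ A, a * a ∈ center K
  · -- four group modulo the centre
    obtain ⟨a, haA, hac⟩ := SetLike.not_le_iff_exists.1 hA.not_le_center
    obtain ⟨g, hg, hgA⟩ := hA.outside
    have hSsq : ∀ s ∈ (S : Subgroup K), s * s ∈ center K := fun s hs => by
      by_cases hsA : s ∈ A
      · exact hsq s hsA
      · exact hA.outside_sq s hs hsA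
    set π := QuotientGroup.mk' (center K) with hπ
    set P := S.mapSurjective (QuotientGroup.mk'_surjective (center K)) with hP
    have hcoe : (P : Subgroup (K ⧸ center K)) = (S : Subgroup K).map π := rfl
    have hperf : commutator (K ⧸ center K) = ⊤ := by
      rw [_root_.commutator_def, ← map_top_of_surjective π (QuotientGroup.mk'_surjective _), ← map_commutator,
        ← _root_.commutator_def, hK.perfect]
    have hPc : Comm (P : Subgroup (K ⧸ center K)) := by
      rw [hcoe]
      rintro _ ⟨s, hs, rfl⟩ _ ⟨t, ht, rfl⟩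
      show π s * π t = π t * π s
      have h1 : π (s * t * s⁻¹ * t⁻¹) = 1 :=
        (QuotientGroup.eq_one_iff _).2 (commutator_mem_of_squares hSsq hs ht)
      rw [map_mul, map_mul, map_mul, map_inv, map_inv, mul_inv_eq_one, mul_inv_eq_iff_eq_mul] at h1
      exact h1
    have hAone : ∀ b ∈ A, π b = 1 ∨ π b = π a := by
      intro b hb
      by_cases hbc : b ∈ center K
      · exact Or.inl ((QuotientGroup.eq_one_iff b).2 hbc)
      · exact Or.inr ((QuotientGroup.eq (s := center K)).2
          (hA.unique_involution haA hb (hsq a haA) (hsq b hb) hac hbc)).symm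
    have hgc := hA.outside_not_center hg hgA
    have hga : π g ≠ π a := fun e => hgA (by
      have hz : a⁻¹ * g ∈ center K := (QuotientGroup.eq (s := center K)).1 e.symm
      simpa using A.mul_mem haA (hA.center_mem _ (mul_mem (inv_mem (hA.le haA)) hg) hz))
    have hthree : ∀ x ∈ (P : Subgroup (K ⧸ center K)), x ≠ 1 → x = π a ∨ x = π g ∨ x = π g * π a := by
      intro x hx hx1
      obtain ⟨s, hs, rfl⟩ := hcoe.le hx
      by_cases hsA : s ∈ A
      · exact Or.inl ((hAone s hsA).resolve_left hx1)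
      · have hd : g⁻¹ * s ∈ A :=
          hA.mul_mem_two _ (inv_mem hg) (fun e => hgA (by simpa using A.inv_mem e)) s hs hsA
        have e : π s = π g * π (g⁻¹ * s) := by rw [← map_mul, mul_inv_cancel_left]
        rcases hAone _ hd with e' | e'
        · exact Or.inr (Or.inl (by rw [e, e', mul_one]))
        · exact Or.inr (Or.inr (by rw [e, e']))
    set N := normalizer ((P : Subgroup (K ⧸ center K)) : Set (K ⧸ center K)) with hN
    have hPa : π a ∈ (P : Subgroup (K ⧸ center K)) := hcoe.ge ⟨a, hA.le haA, rfl⟩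
    have hPg : π g ∈ (P : Subgroup (K ⧸ center K)) := hcoe.ge ⟨g, hg, rfl⟩
    have hpa1 : π a ≠ 1 := fun e => hac ((QuotientGroup.eq_one_iff a).1 e)
    have move : ∀ x ∈ (P : Subgroup (K ⧸ center K)), x ≠ 1 → ∃ n ∈ N, n * x * n⁻¹ ∈ (P : Subgroup (K ⧸ center K)) ∧
        n * x * n⁻¹ ≠ 1 ∧ n * x * n⁻¹ ≠ x := by
      intro x hx hx1
      obtain ⟨n, hn, hne⟩ := exists_normalizer_moving hperf P hPc hx hx1
      exact ⟨n, hn, (mem_normalizer_iff.1 hn x).1 hx, fun e => hx1 (conj_eq_one_iff.1 e), hne⟩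
    have reach : ∀ p ∈ (P : Subgroup (K ⧸ center K)), p ≠ 1 → ∃ n ∈ N, n * p * n⁻¹ = π a := by
      intro p hp hp1
      by_cases hpa : p = π a
      · exact ⟨1, one_mem _, by rw [hpa]; group⟩
      obtain ⟨n₁, hn₁, h1P, h11, h1ne⟩ := move p hp hp1
      obtain ⟨n₂, hn₂, h2P, h21, h2ne⟩ := move (π a) hPa hpa1
      by_cases e1 : n₁ * p * n₁⁻¹ = π a
      · exact ⟨n₁, hn₁, e1⟩
      by_cases e2 : n₂ * π a * n₂⁻¹ = p
      · exact ⟨n₂⁻¹, inv_mem hn₂, by rw [← e2]; group⟩
      refine ⟨n₂⁻¹ * n₁, mul_mem (inv_mem hn₂) hn₁, ?_⟩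
      have e : n₁ * p * n₁⁻¹ = n₂ * π a * n₂⁻¹ := by
        rcases hthree p hp hp1 with h0 | h0 | h0
        · exact absurd h0 hpa
        all_goals
          rcases hthree _ h1P h11 with h1' | h1' | h1' <;>
          rcases hthree _ h2P h21 with h2' | h2' | h2' <;>
          first
            | exact absurd h1' e1
            | exact absurd (h1'.trans h0.symm) h1ne
            | exact absurd h2' h2ne
            | exact absurd (h2'.trans h0.symm) e2
            | exact h1'.trans h2'.symm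
      calc n₂⁻¹ * n₁ * p * (n₂⁻¹ * n₁)⁻¹ = n₂⁻¹ * (n₁ * p * n₁⁻¹) * n₂ := by group
        _ = π a := by rw [e]; group
    obtain ⟨t, ht, et⟩ := hconj y₀ hy₀ a (hA.le haA)
    have htc : π t ≠ 1 := fun e => hac (hK.mem_center.2 (by
      have h1 := hK.mem_center.1 ((QuotientGroup.eq_one_iff t).1 e)
      rw [et] at h1
      have := (inferInstance : (center G).Normal).conj_mem' _ h1 y₀
      rwa [show y₀⁻¹ * (y₀ * (a : G) * y₀⁻¹) * y₀ = (a : G) by group] at this))
    obtain ⟨q, hq, eq'⟩ := reach (π t) (hcoe.ge ⟨t, ht, rfl⟩) htc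
    obtain ⟨n, rfl⟩ := QuotientGroup.mk'_surjective _ q
    have hnS : ∀ s ∈ (S : Subgroup K), n * s * n⁻¹ ∈ (S : Subgroup K) := fun s hs => by
      obtain ⟨j, hj⟩ := sylow_two_pow S hs
      refine sylow_mem_of_mk (k := j) (by rw [conj_pow, hj, mul_one, mul_inv_cancel]) ?_
      rw [map_mul, map_mul, map_inv, ← hcoe]
      exact (mem_normalizer_iff.1 hq _).1 (hcoe.ge ⟨s, hs, rfl⟩)
    have hn' : (n : G) ∈ normalizer (S' : Set G) := by
      refine Cfsg.Lib.Core.mem_normalizer_iff_map_conj.2 (Subgroup.eq_of_le_of_card_ge ?_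
        (Subgroup.card_map_of_injective (MulAut.conj (n : G)).injective).ge)
      rintro _ ⟨_, ⟨s, hs, rfl⟩, rfl⟩
      exact ⟨_, hnS s hs, by simp⟩
    have hy₁K : (n : G) * y₀ ∉ K ⊔ center G := fun e => hy₀K (by
      have := mul_mem (mem_sup_left (inv_mem n.2) : (n : G)⁻¹ ∈ K ⊔ center G) e
      rwa [inv_mul_cancel_left] at this)
    obtain ⟨m, j, hmK, hmr⟩ := exists_pow_rpart hr hy₁K (hexp _) (orderOf_pos _).ne'
    have hy₂N : ((n : G) * y₀) ^ m ∈ normalizer (S' : Set G) := pow_mem (mul_mem hn' hy₀) _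
    refine ⟨_, hmK, commute_sylow_of_fix hK hA (n := r ^ j) ((hr.odd_of_ne_two hr2).pow) hmr
      (hconj _ hy₂N) ?_⟩
    have hfa : Commute (f ((n : G) * y₀)) (f (a : G)) := by
      have h1 : (n * t * n⁻¹)⁻¹ * a ∈ center K := (QuotientGroup.eq (s := center K)).1 (by
        show π (n * t * n⁻¹) = π a
        rw [map_mul, map_mul, map_inv]; exact eq')
      have h2 := (hcenter _).2 h1
      simp only [Subgroup.coe_mul, Subgroup.coe_inv, et, map_mul, map_inv, inv_mul_eq_one] at h2
      show f ((n : G) * y₀) * f (a : G) = f (a : G) * f ((n : G) * y₀)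
      rw [map_mul]
      calc f (n : G) * f y₀ * f (a : G)
          = (f (n : G) * (f y₀ * f (a : G) * (f y₀)⁻¹) * (f (n : G))⁻¹) * (f (n : G) * f y₀) := by group
        _ = _ := by rw [h2]
    intro b hb
    rw [map_pow]
    refine Commute.pow_left ?_ m
    rcases hAone b hb with e | e
    · rw [(hcenter b).2 ((QuotientGroup.eq_one_iff b).1 e)]
      exact Commute.one_right _
    · have h1 := (hcenter _).2 ((QuotientGroup.eq (s := center K)).1 e.symm)
      rw [Subgroup.coe_mul, Subgroup.coe_inv, map_mul, map_inv, inv_mul_eq_one] at h1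
      rw [← h1]; exact hfa
  · -- the cyclic part has order at least four
    simp only [not_forall] at hsq
    obtain ⟨a₀, ha₀, ha₀sq⟩ := hsq
    obtain ⟨m, j, hmK, hmr⟩ := exists_pow_rpart hr hy₀K (hexp _) (orderOf_pos _).ne'
    set y := y₀ ^ m with hy
    have hyN : y ∈ normalizer (S' : Set G) := pow_mem hy₀ _
    refine ⟨y, hmK, commute_sylow_of_fix hK hA (n := r ^ j) ((hr.odd_of_ne_two hr2).pow) hmr
      (hconj _ hyN) ?_⟩
    have hAconj : ∀ a ∈ A, ∃ b ∈ A, (b : G) = y * a * y⁻¹ := by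
      have big : ∀ a ∈ A, a * a ∉ center K → ∃ b ∈ A, (b : G) = y * a * y⁻¹ := by
        intro a ha hasq
        obtain ⟨b, hb, eb⟩ := hconj y hyN a (hA.le ha)
        refine ⟨b, ?_, eb⟩
        by_contra hbA
        refine hasq (hK.mem_center.2 ?_)
        have h1 := hK.mem_center.1 (hA.outside_sq b hb hbA)
        rw [Subgroup.coe_mul, eb, show y * a * y⁻¹ * (y * a * y⁻¹) = y * ((a : G) * a) * y⁻¹ by group] at h1
        have := (inferInstance : (center G).Normal).conj_mem' _ h1 y
        rw [show y⁻¹ * (y * ((a : G) * a) * y⁻¹) * y = (a : G) * a by group] at this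
        exact this
      intro a ha
      by_cases hasq : a * a ∈ center K
      · obtain ⟨b, hb, eb⟩ := big _ (A.mul_mem ha ha₀) (fun e => ha₀sq (by
          rw [(hA.comm a₀ ha₀ a ha).mul_mul_mul_comm] at e
          have h := mul_mem (inv_mem hasq) e
          rwa [inv_mul_cancel_left] at h))
        obtain ⟨c, hc, ec⟩ := big a₀ ha₀ ha₀sq
        refine ⟨b * c⁻¹, A.mul_mem hb (A.inv_mem hc), ?_⟩
        rw [Subgroup.coe_mul, Subgroup.coe_inv, eb, ec, Subgroup.coe_mul]
        group
      · exact big a ha hasq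
    suffices H : ∀ i : ℕ, ∀ a ∈ A, a ^ 2 ^ i ∈ center K → Commute (f y) (f (a : G)) by
      intro a ha
      obtain ⟨i, hi⟩ := sylow_two_pow S (hA.le ha)
      exact H i a ha (by rw [hi]; exact one_mem _)
    intro i
    induction i with
    | zero =>
      intro a _ ha
      rw [pow_zero, pow_one] at ha
      rw [(hcenter a).2 ha]
      exact Commute.one_right _
    | succ i ih =>
      intro a ha ha'
      obtain ⟨b, hb, eb⟩ := hAconj a ha
      set d := a⁻¹ * b with hd
      have hdA : d ∈ A := A.mul_mem (A.inv_mem ha) hb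
      have hpow : d ^ 2 ^ i ∈ center K := by
        rw [hd, ((hA.comm a ha b hb).inv_left).mul_pow, inv_pow]
        have eb' : ((b ^ 2 ^ i : K) : G) = y * ((a ^ 2 ^ i : K) : G) * y⁻¹ := by
          rw [SubmonoidClass.coe_pow, SubmonoidClass.coe_pow, eb, conj_pow]
        have hzz : ∀ c : K, c ∈ center K ↔ (c : G) ∈ center G := fun c => hK.mem_center
        by_cases hc : a ^ 2 ^ i ∈ center K
        · refine mul_mem (inv_mem hc) ?_
          rw [hzz, eb']
          exact (inferInstance : (center G).Normal).conj_mem _ ((hzz _).1 hc) y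
        · refine hA.unique_involution (pow_mem ha _) (pow_mem hb _) ?_ ?_ hc ?_
          · rw [← pow_two, ← pow_mul, ← pow_succ]; exact ha'
          · rw [hzz, Subgroup.coe_mul, eb',
              show y * ((a ^ 2 ^ i : K) : G) * y⁻¹ * (y * ((a ^ 2 ^ i : K) : G) * y⁻¹) =
                y * (((a ^ 2 ^ i : K) : G) * ((a ^ 2 ^ i : K) : G)) * y⁻¹ by group, ← Subgroup.coe_mul]
            refine (inferInstance : (center G).Normal).conj_mem _ ((hzz _).1 ?_) y
            rw [← pow_two, ← pow_mul, ← pow_succ]; exact ha'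
          · intro e
            refine hc ((hzz _).2 ?_)
            have h1 := (hzz _).1 e
            rw [eb'] at h1
            have := (inferInstance : (center G).Normal).conj_mem' _ h1 y
            rwa [show y⁻¹ * (y * ((a ^ 2 ^ i : K) : G) * y⁻¹) * y = ((a ^ 2 ^ i : K) : G) by group] at this
      obtain ⟨l, hl⟩ := sylow_two_pow S (hA.le hdA)
      refine commute_of_pow_eq_one (z := f (d : G)) ?_ (ih d hdA hpow) (n := r ^ j)
        (by rw [← map_pow, hmr, map_one])
        (m := 2 ^ l) (by rw [← map_pow, show (d : G) ^ 2 ^ l = 1 from congrArg Subtype.val hl, map_one])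
        (Nat.Coprime.pow_right _ ((hr.odd_of_ne_two hr2).pow).coprime_two_right)
      rw [hd, Subgroup.coe_mul, Subgroup.coe_inv, eb, map_mul, map_mul, map_mul, map_inv, map_inv]
      group

end Cfsg.Lib.MinNonCA
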