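import Cfsg.Agent.Lib.MinNonCA.PSL
import Cfsg.Agent.Lib.Dickson.SubfieldMax
import Cfsg.Agent.Lib.Dickson.PSLTwo

/-!
# Which `PSL₂(q)` are CA-groups
-/

set_option autoImplicit false
set_option linter.style.haveILetI false

namespace Cfsg.Lib.MinNonCA

open Subgroup Matrix
open scoped MatrixGroups

/-- A centraliser with at most seven elements is abelian. -/
theorem comm_cent_of_card_le {X : Type*} [Group X] [Finite X] {x : X} (hx : x ≠ 1)
    (h : Nat.card (centralizer ({x} : Set X)) ≤ 7) : Comm (centralizer ({x} : Set X)) := by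
  set C := centralizer ({x} : Set X) with hC
  have hxz : (⟨x, self_mem_cent x⟩ : C) ∈ center C :=
    mem_center_iff'.2 fun y => Subtype.ext (mem_cent.1 y.2)
  have hz2 : 2 ≤ Nat.card (center C) := by
    by_contra hlt
    haveI : Subsingleton (center C) := Finite.card_le_one_iff_subsingleton.1 (by omega)
    exact hx (congrArg (fun z : center C => ((z : C) : X))
      (Subsingleton.elim (⟨_, hxz⟩ : center C) 1))
  have hidx : (center C).index ≤ 3 := by
    have h1 := card_mul_index (center C)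
    by_contra hgt
    nlinarith
  haveI : IsCyclic (C ⧸ center C) := by
    have hpos : 0 < (center C).index := Nat.pos_of_ne_zero index_ne_zero_of_finite
    rcases Nat.lt_or_ge (center C).index 2 with h1 | h1
    · haveI : Subsingleton (C ⧸ center C) := Finite.card_le_one_iff_subsingleton.1 (by
        rw [← index_eq_card]; omega)
      infer_instance
    · rcases (by omega : (center C).index = 2 ∨ (center C).index = 3) with e | e
      · exact isCyclic_of_prime_card (p := 2) (by rw [← index_eq_card, e])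
      · haveI : Fact (Nat.Prime 3) := ⟨Nat.prime_three⟩
        exact isCyclic_of_prime_card (p := 3) (by rw [← index_eq_card, e])
  intro a ha b hb
  exact congrArg Subtype.val (commutative_of_cyclic_center_quotient (QuotientGroup.mk' (center C))
    (QuotientGroup.ker_mk' _).le ⟨a, ha⟩ ⟨b, hb⟩)

/-- Squares of odd numbers modulo sixteen. -/
theorem sq_mod_sixteen {m : ℕ} (hm : m % 2 = 1) : m ^ 2 % 16 = 1 ∨ m ^ 2 % 16 = 9 := by
  rw [Nat.pow_mod]
  have : m % 16 < 16 := Nat.mod_lt _ (by norm_num)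
  have : m % 16 % 2 = 1 := by omega
  interval_cases m % 16 <;> simp_all

theorem sixteen_dvd_iff {m : ℕ} (hm : m % 2 = 1) : 16 ∣ m ^ 2 - 1 ↔ m ^ 2 % 16 = 1 := by
  have : 1 ≤ m ^ 2 := Nat.one_le_pow _ _ (by omega)
  omega

/-- `16 ∣ q² - 1` for a power `q` of an odd prime is read off from the prime and the parity of the
exponent. -/
theorem sixteen_dvd_pow_iff {p f : ℕ} (hp : p % 2 = 1) :
    16 ∣ (p ^ f) ^ 2 - 1 ↔ Even f ∨ 16 ∣ p ^ 2 - 1 := by
  have hpf : p ^ f % 2 = 1 := by rw [Nat.pow_mod, hp]; simp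
  have e : (p ^ f) ^ 2 % 16 = (p ^ 2 % 16) ^ f % 16 := by
    rw [← pow_mul, mul_comm, pow_mul, Nat.pow_mod]
  rw [sixteen_dvd_iff hpf, sixteen_dvd_iff hp, e]
  rcases sq_mod_sixteen hp with h | h <;> rw [h]
  · simp
  · have h81 : ∀ k : ℕ, (81 : ℕ) ^ k % 16 = 1 := fun k => by rw [Nat.pow_mod]; simp
    rcases Nat.even_or_odd f with ⟨k, rfl⟩ | ⟨k, rfl⟩
    · simp [← two_mul, pow_mul, h81]
    · have : 9 ^ (2 * k + 1) % 16 = 9 := by rw [pow_succ, pow_mul, Nat.mul_mod, show (9 : ℕ) ^ 2 = 81 by norm_num, h81]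
      simp [this, Nat.even_add_one]

variable {F : Type*} [Field F] [Fintype F]

local notation "PSL2" => Matrix.ProjectiveSpecialLinearGroup (Fin 2) F

/-- `PSL₂(q)`, `q ≥ 11` odd, is not a CA-group. -/
theorem psl_not_ca (h2 : Fintype.card F % 2 = 1) (h11 : 11 ≤ Fintype.card F) : ¬ CA PSL2 := by
  intro hCA
  haveI : Fact (Nat.Prime 2) := ⟨Nat.prime_two⟩
  haveI := psl_isSimple (F := F) (by omega)
  obtain ⟨t, ht⟩ : ∃ t : PSL2, orderOf t = 2 := by
    refine exists_prime_orderOf_dvd_card' 2 ?_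
    by_contra hodd
    refine psl_not_solvable (F := F) (by omega) (Cfsg.Agent.S0205.result ?_)
    exact Nat.odd_iff.2 (by omega)
  obtain ⟨hco, u, hu, -, a, ha, hua⟩ := cent_invol_coatom h2 h11 ht
  exact hua (hCA.comm (fun hc => hco.1 (cent_eq_top_iff.2 hc)) u hu a ha)

/-- The centraliser of an involution of `PSL₂(q)`, `q ≤ 5` odd, has at most seven elements. -/
theorem card_cent_invol_le (h2 : Fintype.card F % 2 = 1) (h5 : Fintype.card F ≤ 5) {t : PSL2}
    (ht : t * t = 1) (ht1 : t ≠ 1) : Nat.card (centralizer ({t} : Set PSL2)) ≤ 7 := by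
  obtain ⟨p, hpp, hp, j, hj0, hj⟩ := Cfsg.Lib.Dickson.exists_char (F := F)
  haveI := Fact.mk hpp
  have hp2 : p ≠ 2 := fun e => by
    subst e
    rw [hj, Nat.pow_mod, Nat.mod_self, Nat.zero_pow hj0] at h2
    simp at h2
  have hord : ¬ p ∣ orderOf t := fun hd => hp2
    ((Nat.prime_dvd_prime_iff_eq hpp Nat.prime_two).1 (hd.trans (orderOf_dvd_of_pow_eq_one (by rw [sq, ht]))))
  obtain ⟨k, hk, hk'⟩ := Cfsg.Lib.Dickson.centralizer_cases p ht1 hord
  have hg : Nat.gcd 2 (Fintype.card F - 1) = 2 := Nat.gcd_eq_left (by omega)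
  rw [hg] at hk
  have hq1 : 1 < Fintype.card F := Fintype.one_lt_card
  have hk3 : k ≤ 3 := by
    rcases hk with h | h <;> have := Nat.le_of_dvd (by omega) h <;> omega
  omega

/-- `PSL₂(5)` is a CA-group. -/
theorem psl_five_ca (h2 : Fintype.card F % 2 = 1) (h5 : Fintype.card F ≤ 5) : CA PSL2 := by
  refine ca_of_comm fun x hx => ?_
  by_cases hxx : x * x = 1
  · have hx1 : x ≠ 1 := fun e => hx (e ▸ one_mem _)
    exact comm_cent_of_card_le hx1 (card_cent_invol_le h2 h5 hxx hx1)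
  · exact comm_cent_of_sq_ne hxx

/-- If `PSL₂(pᶠ)` is minimal non-CA then only the allowed fields occur. -/
theorem field_cases (hpr : ProperCA PSL2) (hnca : ¬ CA PSL2) (h2 : Fintype.card F % 2 = 1)
    (h3 : 3 < Fintype.card F) (h16 : ¬ 16 ∣ Fintype.card F ^ 2 - 1) :
    ((Fintype.card F).Prime ∧ 5 < Fintype.card F ∧ ¬ 16 ∣ Fintype.card F ^ 2 - 1) ∨
      (∃ p : ℕ, p.Prime ∧ p ≠ 2 ∧ (Fintype.card F = 3 ^ p ∨ Fintype.card F = 5 ^ p)) := by
  have h5 : 5 < Fintype.card F := by
    by_contra hle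
    exact hnca (psl_five_ca h2 (by omega))
  obtain ⟨p, hpp, hp, f, hf0, hf⟩ := Cfsg.Lib.Dickson.exists_char (F := F)
  haveI := Fact.mk hpp
  have hp2 : p % 2 = 1 := by
    rcases hpp.eq_two_or_odd with e | e
    · rw [hf, e, Nat.pow_mod, Nat.mod_self, Nat.zero_pow hf0] at h2
      simp at h2
    · exact e
  rw [hf, sixteen_dvd_pow_iff hp2, not_or] at h16
  rcases Nat.lt_or_ge f 2 with hf1 | hf1
  · left
    obtain rfl : f = 1 := by omega
    rw [pow_one] at hf
    exact ⟨hf ▸ hpp, h5, hf ▸ h16.2⟩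
  right
  obtain ⟨r, hr, hrf⟩ := Nat.exists_prime_and_dvd (show f ≠ 1 by omega)
  obtain ⟨e, rfl⟩ := hrf
  have hodd := Nat.not_even_iff_odd.1 h16.1
  have hro : r ≠ 2 := fun h => by
    rw [h] at hodd
    exact (Nat.not_even_iff_odd.2 hodd) (even_two_mul e)
  have heo : ¬ Even e := Nat.not_even_iff_odd.2 (Nat.odd_mul.1 hodd).2
  have he0 : e ≠ 0 := fun h => heo (h ▸ ⟨0, rfl⟩)
  have hm : p ^ e < 7 := by
    by_contra h7
    have h16' : ¬ 16 ∣ (p ^ e) ^ 2 - 1 := by
      rw [sixteen_dvd_pow_iff hp2, not_or]; exact ⟨heo, h16.2⟩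
    have hmo : p ^ e % 2 = 1 := by rw [Nat.pow_mod, hp2]; simp
    have h11 : 11 ≤ p ^ e := by
      by_contra hlt
      interval_cases hm : p ^ e <;> simp_all
    let K := GaloisField p e
    haveI : Fintype K := Fintype.ofFinite K
    have hK : Fintype.card K = p ^ e := by
      rw [← Nat.card_eq_fintype_card]; exact GaloisField.card p e he0
    obtain ⟨H, hH, ⟨i⟩⟩ := Cfsg.Lib.Dickson.exists_maximal_subfield_psl hK
      (show Fintype.card F = (p ^ e) ^ r by rw [hf, ← pow_mul, mul_comm r e]) hr (by omega)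
      (fun _ => hro)
    exact psl_not_ca (F := K) (by rw [hK]; exact hmo) (by rw [hK]; exact h11) ((hpr H hH.1).congr i)
  have he1 : e = 1 := by
    by_contra hne
    have := Nat.pow_le_pow_right hpp.pos (show 2 ≤ e by omega)
    have : 3 ^ 2 ≤ p ^ 2 := Nat.pow_le_pow_left (by have := hpp.two_le; omega) 2
    omega
  subst he1
  rw [mul_one] at hf
  refine ⟨r, hr, hro, ?_⟩
  have := hpp.two_le
  rw [pow_one] at hm
  interval_cases p <;> simp_all

end Cfsg.Lib.MinNonCA
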