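import Cfsg.Agent.Lib.MinNonCA.TwoBase
import Cfsg.Agent.Lib.Coprime.Generation
import Cfsg.Agent.Lib.Linear.DicksonTwo
import Cfsg.Agent.Lib.Fusion.Abelian
import Cfsg.Agent.Lib.MinNonCA.OuterTwo
import Cfsg.Agent.S2202
import Cfsg.Agent.S1896
import Cfsg.Agent.S0949

/-!
# Quasisimple groups with abelian Sylow 2-subgroups which are minimal non-CA
-/

set_option autoImplicit false
set_option linter.style.haveILetI false

namespace Cfsg.Lib.MinNonCA

open Subgroup

variable {X : Type*} [Group X] [Finite X]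

theorem klein_exp : ∀ a : Multiplicative (ZMod 2) × Multiplicative (ZMod 2), a ^ 2 = 1 := by decide

/-- An abelian Sylow 2-subgroup meets the centre trivially. -/
theorem QMin.eq_one_of_mem_center (h : QMin X) (S : Sylow 2 X) (hS : Comm (S : Subgroup X)) {s : X}
    (hs : s ∈ (S : Subgroup X)) (hsc : s ∈ center X) : s = 1 := by
  haveI : Fact (Nat.Prime 2) := ⟨Nat.prime_two⟩
  haveI : IsMulCommutative (S : Subgroup X) := comm_iff.1 hS
  have h1 := Cfsg.Lib.Fusion.inf_commutator_inf_center_eq_bot_sylow S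
  rw [h.commutator_eq_top, inf_top_eq] at h1
  have h3 : s ∈ (S : Subgroup X) ⊓ center X := ⟨hs, hsc⟩
  rwa [h1, Subgroup.mem_bot] at h3

theorem QMin.not_cyclic_sylow (h : QMin X) (S : Sylow 2 X) : ¬ IsCyclic (S : Subgroup X) :=
  fun hc => h.not_solvable (isSolvable_of_cyclic_sylow S hc)

theorem QMin.sylow_not_normal (h : QMin X) (S : Sylow 2 X) (hS : Comm (S : Subgroup X)) :
    ¬ (S : Subgroup X).Normal := fun hn => by
  rcases Cfsg.Lib.Core.quasisimple_normal h.quasi (N := (S : Subgroup X)) with hle | he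
  · refine h.not_cyclic_sylow S ?_
    haveI : Subsingleton (S : Subgroup X) := ⟨fun a b => Subtype.ext (by
      rw [h.eq_one_of_mem_center S hS a.2 (hle a.2), h.eq_one_of_mem_center S hS b.2 (hle b.2)])⟩
    infer_instance
  · exact h.ne_top_of_comm hS he

/-- If all centralisers of involutions are abelian the group is CA. -/
theorem QMin.ca_of_involutions (h : QMin X) (S : Sylow 2 X) (hS : Comm (S : Subgroup X))
    (hall : ∀ t : X, orderOf t = 2 → Comm (centralizer ({t} : Set X))) : CA X := by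
  haveI : Fact (Nat.Prime 2) := ⟨Nat.prime_two⟩
  have heven : Even (Nat.card X) := even_iff_two_dvd.2 (by
    by_contra hodd
    exact h.not_solvable (Cfsg.Agent.S0205.result (Nat.odd_iff.2 (by omega))))
  rcases Cfsg.Agent.S2202.result heven fun u hu => comm_iff.1 (hall u hu) with
    hc | hn | ⟨F, iF, jF, A, iA, fA, hF2, -, ⟨e⟩⟩
  · exact absurd (hc S) (h.not_cyclic_sylow S)
  · exact absurd (hn S) (h.sylow_not_normal S hS)
  have htriv : ∀ y : X, (e y).2 = 1 := fun y => by
    set f := (MonoidHom.snd (Matrix.SpecialLinearGroup (Fin 2) F) A).comp e.toMonoidHom with hf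
    have hle : commutator X ≤ f.ker := Subgroup.commutator_le.2 fun a _ b _ => by
      rw [MonoidHom.mem_ker, map_commutatorElement]
      exact commutatorElement_eq_one_iff_mul_comm.2 (mul_comm (f a) (f b))
    exact hle (h.commutator_eq_top ▸ mem_top y)
  let f := (MonoidHom.fst (Matrix.SpecialLinearGroup (Fin 2) F) A).comp e.toMonoidHom
  have hf : Function.Bijective f := by
    refine ⟨fun a b hab => e.injective (Prod.ext hab ((htriv a).trans (htriv b).symm)), fun y => ?_⟩
    exact ⟨e.symm (y, 1), by simp [f]⟩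
  refine CA.congr (ca_of_comm fun x hx a ha b hb => ?_) (MulEquiv.ofBijective f hf).symm
  exact Cfsg.Lib.Linear.Dickson.commute_of_commute hx (mem_cent.1 ha).symm (mem_cent.1 hb).symm

set_option maxHeartbeats 2000000 in
/-- With a non-abelian centraliser of an involution the Sylow 2-subgroups are four groups. -/
theorem QMin.sylow_four (h : QMin X) (S : Sylow 2 X) (hS : Comm (S : Subgroup X)) {t : X}
    (htS : t ∈ (S : Subgroup X)) (ht1 : t ≠ 1) (hM : ¬ Comm (centralizer ({t} : Set X))) :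
    Nonempty ((S : Subgroup X) ≃* DihedralGroup 2) := by
  haveI : Fact (Nat.Prime 2) := ⟨Nat.prime_two⟩
  haveI : IsMulCommutative (S : Subgroup X) := comm_iff.1 hS
  haveI hsimple : IsSimpleGroup (X ⧸ center X) := h.quasi.2
  have hnz : ∀ s ∈ (S : Subgroup X), s ≠ 1 → s ∉ center X := fun s hs hs1 hc =>
    hs1 (h.eq_one_of_mem_center S hS hs hc)
  have htc := hnz t htS ht1
  set M := centralizer ({t} : Set X) with hMdef
  have hSM : (S : Subgroup X) ≤ M := fun s hs => mem_cent.2 (hS t htS s hs)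
  have hmax := fun (H : Subgroup X) (hH : H ≠ ⊤) (hle : M ≤ H) => h.proper.le_cent hM hH hle
  set N := normalizer ((S : Subgroup X) : Set X) with hN
  have hNne : N ≠ ⊤ := fun e => h.sylow_not_normal S hS (normalizer_eq_top_iff.1 e)
  obtain ⟨n, hn, hnt⟩ := exists_normalizer_moving h.commutator_eq_top S hS htS ht1
  have hCN : Comm (N ⊓ M) := fun a ha b hb => by
    refine ((h.proper N hNne).commute (x := (⟨t, le_normalizer htS⟩ : N))
      (a := ⟨a, (Subgroup.mem_inf.1 ha).1⟩) (b := ⟨b, (Subgroup.mem_inf.1 hb).1⟩)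
      (Subtype.ext (mem_cent.1 (Subgroup.mem_inf.1 ha).2))
      (Subtype.ext (mem_cent.1 (Subgroup.mem_inf.1 hb).2)) fun hc => hnt ?_).map N.subtype
    have h1 : t * n = n * t := congrArg Subtype.val (mem_center_iff'.1 hc ⟨n, hn⟩)
    rw [← h1, mul_inv_cancel_right]
  -- a normal complement in the centraliser
  set SM := S.subtype (N := M) hSM with hSMdef
  have hle : normalizer ((SM : Subgroup M) : Set M) ≤ centralizer ((SM : Subgroup M) : Set M) := by
    intro a ha
    refine mem_centralizer_iff.2 fun b hb => Subtype.ext ?_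
    refine hCN b (Subgroup.mem_inf.2 ⟨le_normalizer (mem_subgroupOf.1 hb), b.2⟩) a
      (Subgroup.mem_inf.2 ⟨?_, a.2⟩)
    refine mem_normalizer_fintype fun s hs => ?_
    exact mem_subgroupOf.1 ((mem_normalizer_iff.1 ha ⟨s, hSM hs⟩).1 (mem_subgroupOf.2 hs))
  haveI : IsMulCommutative (SM : Subgroup M) := comm_iff.1 fun a ha b hb =>
    Subtype.ext (hS _ (mem_subgroupOf.1 ha) _ (mem_subgroupOf.1 hb))
  obtain ⟨O', hO'n, hcompl⟩ : ∃ O' : Subgroup M, O'.Normal ∧ IsComplement' O' (SM : Subgroup M) :=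
    ⟨_, MonoidHom.normal_ker _, MonoidHom.ker_transferSylow_isComplement' SM hle⟩
  set O := O'.map M.subtype with hO
  have hdec : ∀ m ∈ M, ∃ o ∈ O, ∃ s ∈ (S : Subgroup X), o * s = m := by
    intro m hm
    obtain ⟨⟨⟨o, ho⟩, s, hs⟩, e⟩ := hcompl.2 (⟨m, hm⟩ : M)
    exact ⟨_, ⟨o, ho, rfl⟩, _, mem_subgroupOf.1 hs, congrArg Subtype.val e⟩
  set T := (S : Subgroup X) ⊓ centralizer (M : Set X) with hT
  have hTmem : ∀ s ∈ (S : Subgroup X), (∀ o ∈ O, Commute s o) → s ∈ T := by
    intro s hs hall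
    refine Subgroup.mem_inf.2 ⟨hs, mem_centralizer_iff.2 fun m hm => ?_⟩
    obtain ⟨o, ho, s', hs', rfl⟩ := hdec m hm
    exact ((hall o ho).mul_right (hS s hs s' hs')).eq.symm
  have htT : t ∈ T := Subgroup.mem_inf.2
    ⟨htS, mem_centralizer_iff.2 fun m hm => (mem_cent.1 hm).eq.symm⟩
  have hTS : T ≤ (S : Subgroup X) := inf_le_left
  obtain ⟨c, hc, hcyc⟩ : ∃ c ∈ (S : Subgroup X), (S : Subgroup X) ≤ T ⊔ zpowers c := by
    by_contra hno
    simp only [not_exists, not_and] at hno
    have hON : (S : Subgroup X) ≤ normalizer (O : Set X) := fun s hs => by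
      refine mem_normalizer_fintype ?_
      rintro _ ⟨o, ho, rfl⟩
      exact Subgroup.mem_map.2
        ⟨(⟨s, hSM hs⟩ : M) * o * (⟨s, hSM hs⟩ : M)⁻¹, hO'n.conj_mem o ho _, rfl⟩
    have hcop : (Nat.card (S : Subgroup X)).Coprime (Nat.card O) := by
      have e1 : Nat.card O = (SM : Subgroup M).index := by
        rw [Nat.card_congr (equivMapOfInjective O' M.subtype M.subtype_injective).symm.toEquiv,
          hcompl.index_eq_card]
      rw [e1, ← Nat.card_congr (subgroupOfEquivOfLe hSM).toEquiv]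
      exact SM.card_coprime_index
    have hgen := Cfsg.Lib.Coprime.le_iSup_centralizer_cocyclic (A := (S : Subgroup X)) O hON hcop
    refine hno 1 (one_mem _) fun s hs => mem_sup_left (hTmem s hs fun o ho => ?_)
    have hCs : O ≤ centralizer ({s} : Set X) := by
      refine hgen.trans (iSup₂_le ?_)
      rintro B ⟨hBS, a, ha, hBa⟩ o' ho'
      obtain ⟨ho'O, ho'B⟩ := Subgroup.mem_inf.1 ho'
      have hBT : ¬ B ≤ T := fun hBT => hno a ha fun b hb => by
        have h1 : b ∈ B ⊔ zpowers a := hBa.ge hb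
        exact sup_le_sup_right hBT _ h1
      obtain ⟨b, hb, hbT⟩ := SetLike.not_le_iff_exists.1 hBT
      have hbc : (⟨b, hSM (hBS hb)⟩ : M) ∉ center M := by
        intro hbc
        apply hbT
        refine Subgroup.mem_inf.2 ⟨hBS hb, mem_centralizer_iff.2 fun m hm => ?_⟩
        exact (congrArg Subtype.val (mem_center_iff'.1 hbc ⟨m, hm⟩)).symm
      have hbs : Commute (⟨b, hSM (hBS hb)⟩ : M) ⟨s, hSM hs⟩ := Subtype.ext (hS b (hBS hb) s hs).eq
      have hbo : Commute (⟨b, hSM (hBS hb)⟩ : M) ⟨o', map_subtype_le O' ho'O⟩ :=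
        Subtype.ext (mem_centralizer_iff.1 ho'B b hb)
      exact mem_cent.2 (((h.proper M (cent_ne_top htc)).commute hbs hbo hbc).map M.subtype)
    exact mem_cent.1 (hCs ho)
  -- the conjugate of `T` by `n` meets it trivially
  have hdisj : ∀ u ∈ T, n * u * n⁻¹ ∈ T → u = 1 := by
    intro u hu hnu
    by_contra hu1
    have eqM : ∀ v ∈ T, v ≠ 1 → centralizer ({v} : Set X) = M := fun v hv hv1 => by
      refine h.proper.cent_eq hM (cent_ne_top (hnz v (hTS hv) hv1)) fun m hm => mem_cent.2 ?_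
      exact (mem_centralizer_iff.1 (Subgroup.mem_inf.1 hv).2 m hm).symm
    have e1 := eqM u hu hu1
    have e2 := eqM _ hnu fun e => hu1 (conj_eq_one_iff.1 e)
    have hnM : n ∈ normalizer (M : Set X) := mem_normalizer_iff.2 fun a => by
      nth_rw 1 [← e1]
      rw [← e2, mem_cent, mem_cent, commute_conj_iff]
    have := mem_cent.1 (h.normalizer_cent htc hM hnM)
    exact hnt (by rw [← this.eq, mul_inv_cancel_right])
  -- both `T` and `S / T` are cyclic
  set Ts := T.subgroupOf (S : Subgroup X) with hTs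
  haveI hTsn : Ts.Normal := Subgroup.normal_of_comm _
  haveI hQc : IsCyclic ((S : Subgroup X) ⧸ Ts) := by
    refine ⟨⟨QuotientGroup.mk' Ts ⟨c, hc⟩, fun q => ?_⟩⟩
    obtain ⟨⟨s, hs⟩, rfl⟩ := QuotientGroup.mk'_surjective Ts q
    have hTc : zpowers c ≤ normalizer (T : Set X) := le_trans (fun a ha => mem_centralizer_iff.2 fun u hu =>
      (hS u (hTS hu) a (zpowers_le.2 hc ha)).eq) (centralizer_le_normalizer _)
    have hs' : s ∈ ((zpowers c ⊔ T : Subgroup X) : Set X) := sup_comm T (zpowers c) ▸ hcyc hs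
    rw [coe_mul_of_left_le_normalizer_right _ _ hTc] at hs'
    obtain ⟨_, ⟨i, rfl⟩, u, hu, e⟩ := hs'
    refine ⟨i, ?_⟩
    show QuotientGroup.mk' Ts ⟨c, hc⟩ ^ i = _
    rw [← map_zpow]
    refine (QuotientGroup.eq (s := Ts)).2 (mem_subgroupOf.2 ?_)
    show (c ^ i)⁻¹ * s ∈ T
    have e' : c ^ i * u = s := e
    rw [← e', inv_mul_cancel_left]
    exact hu
  have hnS : ∀ s ∈ (S : Subgroup X), n * s * n⁻¹ ∈ (S : Subgroup X) := fun s hs =>
    (mem_normalizer_iff.1 hn s).1 hs
  haveI : IsCyclic T := by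
    let φ : T →* (S : Subgroup X) ⧸ Ts := (QuotientGroup.mk' Ts).comp
      (((MulAut.conj n).toMonoidHom.comp T.subtype).codRestrict (S : Subgroup X)
        fun u => hnS _ (hTS u.2))
    refine isCyclic_of_injective φ ((injective_iff_map_eq_one φ).2 fun u hu => Subtype.ext ?_)
    exact hdisj u u.2 (mem_subgroupOf.1 ((QuotientGroup.eq_one_iff _).1 hu))
  have hmeta : Cfsg.IsMetacyclic (S : Subgroup X) := ⟨Ts, hTsn,
    isCyclic_of_surjective (subgroupOfEquivOfLe hTS).symm (subgroupOfEquivOfLe hTS).symm.surjective,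
    hQc⟩
  have haut : ¬ IsPGroup 2 (MulAut (S : Subgroup X)) := by
    intro hp
    obtain ⟨k, hk⟩ := hp ((S : Subgroup X).normalizerMonoidHom ⟨n, hn⟩)
    rw [← map_pow] at hk
    have h1 : n ^ 2 ^ k ∈ M := by
      have h2 := congrArg Subtype.val (DFunLike.congr_fun hk ⟨t, htS⟩)
      refine mem_cent.2 ?_
      have h3 : n ^ 2 ^ k * t * (n ^ 2 ^ k)⁻¹ = t := h2
      exact (mul_inv_eq_iff_eq_mul.1 h3).symm
    set S₁ := S.subtype (N := N) le_normalizer with hS1
    haveI : (S₁ : Subgroup N).Normal := normal_in_normalizer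
    have h4 : n ^ (S₁ : Subgroup N).index ∈ M := by
      refine hSM ?_
      have h5 := pow_card_eq_one' (x := QuotientGroup.mk' (S₁ : Subgroup N) ⟨n, hn⟩)
      rw [← map_pow, ← index_eq_card] at h5
      exact mem_subgroupOf.1 ((QuotientGroup.eq_one_iff _).1 h5)
    have hco : Nat.Coprime (2 ^ k) (S₁ : Subgroup N).index :=
      Nat.Coprime.pow_left _ (Nat.prime_two.coprime_iff_not_dvd.2 S₁.not_dvd_index)
    have h6 := M.mul_mem (M.zpow_mem h1 (Nat.gcdA (2 ^ k) (S₁ : Subgroup N).index))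
      (M.zpow_mem h4 (Nat.gcdB (2 ^ k) (S₁ : Subgroup N).index))
    rw [← zpow_natCast n (2 ^ k), ← zpow_natCast n (S₁ : Subgroup N).index, ← zpow_mul, ← zpow_mul,
      ← zpow_add, ← Nat.gcd_eq_gcd_ab, hco.gcd_eq_one, Nat.cast_one, zpow_one] at h6
    exact hnt (by rw [← (mem_cent.1 h6).eq, mul_inv_cancel_right])
  rcases Cfsg.Agent.S1896.result S.isPGroup' hmeta haut with ⟨⟨d⟩⟩ | ⟨k, ⟨d⟩⟩
  · exfalso
    have h1 : d.symm (QuaternionGroup.a 1) * d.symm (QuaternionGroup.xa 0) =
        d.symm (QuaternionGroup.xa 0) * d.symm (QuaternionGroup.a 1) :=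
      Subtype.ext (hS _ (SetLike.coe_mem _) _ (SetLike.coe_mem _))
    rw [← map_mul, ← map_mul] at h1
    exact absurd (d.symm.injective h1) (by decide)
  haveI : NeZero (2 ^ k) := ⟨by positivity⟩
  have hcardS : Nat.card (S : Subgroup X) = 2 ^ k * 2 ^ k := by
    rw [Nat.card_congr d.toEquiv, Nat.card_prod, Nat.card_congr Multiplicative.toAdd, Nat.card_zmod]
  rcases (by omega : k = 0 ∨ k = 1 ∨ 2 ≤ k) with rfl | rfl | hk
  · haveI : Subsingleton (S : Subgroup X) := Finite.card_le_one_iff_subsingleton.1 (by rw [hcardS]; norm_num)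
    exact absurd isCyclic_of_subsingleton (h.not_cyclic_sylow S)
  · haveI : IsKleinFour (S : Subgroup X) := by
      refine ⟨by rw [hcardS]; norm_num, ?_⟩
      haveI : Nontrivial (S : Subgroup X) :=
        Finite.one_lt_card_iff_nontrivial.1 (by rw [hcardS]; norm_num)
      rw [Monoid.exponent_eq_prime_iff Nat.prime_two]
      intro g hg
      refine orderOf_eq_prime (d.injective ?_) hg
      rw [map_pow, map_one]
      exact klein_exp _
    exact IsKleinFour.nonempty_mulEquiv
  · exfalso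
    set π := QuotientGroup.mk' (center X) with hπ
    set P := S.mapSurjective (QuotientGroup.mk'_surjective (center X)) with hP
    have hinj : Function.Injective (π.comp (S : Subgroup X).subtype) :=
      (injective_iff_map_eq_one _).2 fun a ha =>
        Subtype.ext (h.eq_one_of_mem_center S hS a.2 ((QuotientGroup.eq_one_iff _).1 ha))
    have hrange : (π.comp (S : Subgroup X).subtype).range = (P : Subgroup (X ⧸ center X)) := by
      rw [MonoidHom.range_comp, range_subtype]
      rfl
    let eP : (P : Subgroup (X ⧸ center X)) ≃* Multiplicative (ZMod (2 ^ k) × ZMod (2 ^ k)) :=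
      (((MonoidHom.ofInjective hinj).trans (MulEquiv.subgroupCongr hrange)).symm.trans d).trans
        (MulEquiv.prodMultiplicative _ _).symm
    have hpgp : ∀ H : Subgroup (X ⧸ center X), H = ⊤ → IsPGroup 2 H → False := fun H e hH => by
      haveI := hH.isNilpotent
      haveI : Group.IsSolvable (X ⧸ center X) := isSolvable_of_eq_top inferInstance e
      haveI : Group.IsSolvable (center X) := Comm.isSolvable fun a _ b hb => mem_center_iff.1 hb a
      exact h.not_solvable ((Group.isSolvable_iff_subgroup_quotient (center X)).2 ⟨inferInstance, inferInstance⟩)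
    have hO : ∀ H : Subgroup (X ⧸ center X), H.Normal → Odd (Nat.card H) → H = ⊥ := by
      intro H hH hodd
      refine hH.eq_bot_or_eq_top.resolve_right fun e => ?_
      haveI : Group.IsSolvable (X ⧸ center X) := Cfsg.Agent.S0205.result (by rwa [e, card_top] at hodd)
      haveI : Group.IsSolvable (center X) := Comm.isSolvable fun a _ b hb => mem_center_iff.1 hb a
      exact h.not_solvable ((Group.isSolvable_iff_subgroup_quotient (center X)).2 ⟨inferInstance, inferInstance⟩)
    obtain ⟨hPn, -, -⟩ := Cfsg.Agent.S0949.result P k hk eP hO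
    rcases hPn.eq_bot_or_eq_top with e | e
    · have h1 := Nat.card_congr eP.toEquiv
      rw [e, card_bot, Nat.card_congr Multiplicative.toAdd, Nat.card_prod, Nat.card_zmod] at h1
      have := Nat.one_lt_two_pow (show k ≠ 0 by omega)
      nlinarith
    · exact hpgp _ e P.isPGroup'

end Cfsg.Lib.MinNonCA
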