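import Cfsg.Agent.Lib.MinNonCA.QuasiNonAb
import Cfsg.Agent.Lib.MinNonCA.QuasiAb
import Cfsg.Agent.Lib.MinNonCA.PSLCA
import Cfsg.Agent.Lib.CpClosed.AbelianTwo.LTwo

/-!
# The quasisimple minimal non-CA groups
-/

set_option autoImplicit false
set_option linter.style.haveILetI false

namespace Cfsg.Lib.MinNonCA

open Subgroup Matrix
open scoped MatrixGroups

variable {X : Type*} [Group X] [Finite X]

/-- A quasisimple minimal non-CA group is one of the listed `PSL₂(q)`. -/
theorem QMin.exists_psl (h : QMin X) (hnca : ¬ CA X) :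
    ∃ (F : Type) (_ : Field F) (_ : Fintype F),
      Nonempty (X ≃* Matrix.ProjectiveSpecialLinearGroup (Fin 2) F) ∧
        (((Fintype.card F).Prime ∧ 5 < Fintype.card F ∧ ¬ 16 ∣ Fintype.card F ^ 2 - 1) ∨
         (∃ p : ℕ, p.Prime ∧ p ≠ 2 ∧ (Fintype.card F = 3 ^ p ∨ Fintype.card F = 5 ^ p))) := by
  haveI : Fact (Nat.Prime 2) := ⟨Nat.prime_two⟩
  haveI hsimple : IsSimpleGroup (X ⧸ center X) := h.quasi.2
  obtain ⟨S₀⟩ : Nonempty (Sylow 2 X) := inferInstance
  obtain ⟨t, ht, hM⟩ : ∃ t : X, orderOf t = 2 ∧ ¬ Comm (centralizer ({t} : Set X)) := by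
    by_contra hc
    simp only [not_exists, not_and, not_not] at hc
    exact hnca (h.ca_of_involutions S₀ (h.sylow_comm hnca S₀) hc)
  obtain ⟨S, hS'⟩ := (isPGroup_zpowers (p := 2) (k := 1) (y := t)
    (by rw [pow_one]; exact sq_one_of ht)).exists_le_sylow
  have hS := h.sylow_comm hnca S
  obtain ⟨d⟩ := h.sylow_four S hS (hS' (mem_zpowers t))
    (fun e => by rw [e, orderOf_one] at ht; norm_num at ht) hM
  set π := QuotientGroup.mk' (center X) with hπ
  set P := S.mapSurjective (QuotientGroup.mk'_surjective (center X)) with hP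
  have hinj : Function.Injective (π.comp (S : Subgroup X).subtype) :=
    (injective_iff_map_eq_one _).2 fun a ha =>
      Subtype.ext (h.eq_one_of_mem_center S hS a.2 ((QuotientGroup.eq_one_iff _).1 ha))
  have hrange : (π.comp (S : Subgroup X).subtype).range = (P : Subgroup (X ⧸ center X)) := by
    rw [MonoidHom.range_comp, range_subtype]
    rfl
  let dP : (P : Subgroup (X ⧸ center X)) ≃* DihedralGroup 2 :=
    ((MonoidHom.ofInjective hinj).trans (MulEquiv.subgroupCongr hrange)).symm.trans d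
  have hP4 : Nat.card (P : Subgroup (X ⧸ center X)) = 4 := by
    rw [Nat.card_congr dP.toEquiv, DihedralGroup.nat_card]
  have h8 : ¬ 8 ∣ Nat.card (X ⧸ center X) := by
    intro hd
    rw [← card_mul_index (P : Subgroup (X ⧸ center X)), hP4] at hd
    exact P.not_dvd_index (Nat.dvd_of_mul_dvd_mul_left (by norm_num) (show 4 * 2 ∣ 4 * _ from hd))
  have hSD := Cfsg.Lib.GW.sylowDihedral_of_equiv P le_rfl ⟨dP⟩
  rcases Cfsg.Lib.GW.simpleGW (X ⧸ center X) (fun hc => h.quotient_not_comm fun a b => hc.is_comm.comm a b)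
    hSD with ⟨F, iF, jF, hodd, hq3, ⟨e⟩⟩ | he
  swap
  · obtain ⟨e⟩ := he
    refine absurd ?_ h8
    rw [Nat.card_congr e.toEquiv, nat_card_alternatingGroup, Nat.card_eq_fintype_card, Fintype.card_fin]
    norm_num [Nat.factorial]
  have h2 : Fintype.card F % 2 = 1 := Nat.odd_iff.1 hodd
  have h16 : ¬ 16 ∣ Fintype.card F ^ 2 - 1 := fun hd => h8 (by
    have h0 := Cfsg.Lib.Linear.Two.card_PSL_two (F := F)
    rw [Nat.gcd_eq_left (show 2 ∣ Fintype.card F - 1 by omega)] at h0
    have h1 : 16 ∣ Fintype.card F * (Fintype.card F ^ 2 - 1) := hd.mul_left _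
    rw [← h0] at h1
    rw [Nat.card_congr e.toEquiv]
    omega)
  have h4 : Fintype.card F ≠ 4 := by omega
  have h9 : Fintype.card F ≠ 9 := fun e9 => h16 (by rw [e9]; norm_num)
  have hZ : center X = ⊥ := by
    by_contra hne
    obtain ⟨i⟩ := Cfsg.Lib.CpClosed.AbelianTwo.iso_sl_two (F := F) h.quasi (by omega) h4 h9 hne e
    have hne2 : (2 : F) ≠ 0 := fun e2 => by
      haveI : CharP F 2 := CharP.ringChar_of_prime_eq_zero Nat.prime_two e2 ▸ ringChar.charP F
      obtain ⟨n, -, hn⟩ := FiniteField.card F 2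
      rw [hn, Nat.pow_mod, Nat.mod_self, Nat.zero_pow n.pos] at h2
      simp at h2
    set u : SL(2, F) := ⟨-1, by simp [Matrix.det_neg]⟩ with hu
    have huu : u * u = 1 := Subtype.ext (by rw [Matrix.SpecialLinearGroup.coe_mul, hu]; simp)
    have hu1 : u ≠ 1 := fun e1 => hne2 (by
      have := congrArg (fun m : SL(2, F) => m 0 0) e1
      simp [hu] at this
      linear_combination -this)
    have huc := Cfsg.Lib.Linear.Dickson.mem_center_of_sq_eq_one hne2 huu
    set z := i.symm u with hz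
    have hzc : z ∈ center X := mem_center_iff.2 fun y => i.injective (by
      rw [map_mul, map_mul, hz, MulEquiv.apply_symm_apply]
      exact mem_center_iff.1 huc (i y))
    have hzz : z ^ 2 ^ 1 = 1 := by rw [pow_one, sq, hz, ← map_mul, huu, map_one]
    refine hu1 (i.symm.injective ?_)
    rw [map_one]
    exact h.eq_one_of_mem_center S hS (mem_sylow_of_commute S hzz fun s _ => mem_center_iff'.1 hzc s) hzc
  let f : X ≃* Matrix.ProjectiveSpecialLinearGroup (Fin 2) F :=
    ((QuotientGroup.quotientBot (G := X)).symm.trans (QuotientGroup.quotientMulEquivOfEq hZ.symm)).trans e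
  exact ⟨F, iF, jF, ⟨f⟩, field_cases (h.proper.congr f) (fun hc => hnca (hc.congr f.symm)) h2 hq3 h16⟩

end Cfsg.Lib.MinNonCA
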