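import Cfsg.Agent.Lib.MinNonCA.TwoUse
import Cfsg.Agent.Lib.MinNonCA.PSL
import Cfsg.Agent.Lib.GW.Main

/-!
# Quasisimple minimal non-CA groups have abelian Sylow 2-subgroups
-/

set_option autoImplicit false
set_option linter.style.haveILetI false

namespace Cfsg.Lib.MinNonCA

open Subgroup
open scoped Pointwise

variable {X : Type*} [Group X] [Finite X]

omit [Finite X] in
/-- An element inverting `g` modulo the centre normalises the centraliser of `g`. -/
theorem mem_normalizer_cent_of_inverts {g h : X} (hc : h * g * h⁻¹ * g ∈ center X) :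
    h ∈ normalizer ((centralizer ({g} : Set X) : Subgroup X) : Set X) := by
  have e : h * g * h⁻¹ = (h * g * h⁻¹ * g) * g⁻¹ := by group
  rw [mem_normalizer_iff]
  intro a
  rw [mem_cent, mem_cent, ← commute_conj_iff (h := h) (a := g) (b := a), e]
  have hz : Commute (h * g * h⁻¹ * g) (h * a * h⁻¹) := mem_center_iff'.1 hc _
  refine ⟨fun hh => ?_, fun hh => hz.mul_left hh.inv_left⟩
  have h2 := hz.inv_left.mul_left hh
  rw [inv_mul_cancel_left] at h2
  exact Commute.inv_left_iff.1 h2

/-- A quasisimple minimal non-CA group has abelian Sylow 2-subgroups. -/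
theorem QMin.sylow_comm (h : QMin X) (hnca : ¬ CA X) (S : Sylow 2 X) : Comm (S : Subgroup X) := by
  haveI : Fact (Nat.Prime 2) := ⟨Nat.prime_two⟩
  by_contra hS
  haveI hsimple : IsSimpleGroup (X ⧸ center X) := h.quasi.2
  obtain ⟨A, hA⟩ := h.exists_twoData S hS
  have hSD := hA.sylowDihedral hS
  rcases Cfsg.Lib.GW.simpleGW (X ⧸ center X) (fun hc => h.quotient_not_comm fun a b => hc.is_comm.comm a b)
    hSD with ⟨F, iF, jF, hodd, hq3, ⟨e⟩⟩ | he
  swap
  · obtain ⟨e⟩ := he
    obtain ⟨d, hd, hdd, hdc, w, hw⟩ := h.alt_seven_data hS e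
    have hwd := mem_cent.1 (h.normalizer_cent hd hdc (mem_normalizer_cent_of_inverts hw))
    rw [← hwd.eq, mul_inv_cancel_right] at hw
    exact hdd hw
  obtain ⟨g₀, hg₀, hg₀c⟩ : ∃ g : X, g ∉ center X ∧ ¬ Comm (centralizer ({g} : Set X)) := by
    by_contra hc
    simp only [not_exists, not_and, not_not] at hc
    exact hnca (ca_of_comm hc)
  obtain ⟨n, p, k, hp, hk, hg⟩ := exists_pow_primePow hg₀
  set g := g₀ ^ n with hgdef
  have hM : ¬ Comm (centralizer ({g} : Set X)) := fun hc =>
    hg₀c (hc.mono fun a ha => mem_cent.2 ((mem_cent.1 ha).pow_left n))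
  have hNM := h.normalizer_cent hg hM
  set π := QuotientGroup.mk' (center X) with hπ
  set x := e (π g) with hx
  have hx1 : x ≠ 1 := fun e1 => hg ((QuotientGroup.eq_one_iff g).1 ((MulEquiv.map_eq_one_iff e).1 e1))
  have hback : ∀ a : X, Commute x (e (π a)) → a ∈ centralizer ({g} : Set X) := fun a ha => by
    refine hNM (mem_normalizer_cent ((QuotientGroup.eq_one_iff _).1 (e.injective ?_)))
    show e (π (a * g * a⁻¹ * g⁻¹)) = e 1
    simp only [map_mul, map_inv, map_one, ← hx]
    rw [ha.symm.eq, mul_inv_cancel_right, mul_inv_cancel]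
  have h2 : Fintype.card F % 2 = 1 := Nat.odd_iff.1 hodd
  by_cases hxx : x * x = 1
  · -- involutions centralise a Sylow 2-subgroup
    have hgg : g * g ∈ center X := (QuotientGroup.eq_one_iff _).1 (e.injective (by
      show e (π (g * g)) = e 1
      rw [map_mul, map_mul, map_one]
      exact hxx))
    have hp2 : p = 2 := by
      by_contra hne
      refine hg ?_
      obtain ⟨j, hj⟩ := (hp.odd_of_ne_two hne).pow (n := k)
      have h1 : g = (g * g) ^ (j + 1) := by
        rw [← sq, ← pow_mul, show 2 * (j + 1) = orderOf g + 1 by omega, pow_succ, pow_orderOf_eq_one,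
          one_mul]
      rw [h1]
      exact pow_mem hgg _
    subst hp2
    set T := S.mapSurjective (QuotientGroup.mk'_surjective (center X)) with hT
    obtain ⟨m, hm, ⟨d⟩⟩ := hSD T
    haveI : Nontrivial (T : Subgroup (X ⧸ center X)) := by
      rw [← Finite.one_lt_card_iff_nontrivial, Nat.card_congr d.toEquiv, DihedralGroup.nat_card]
      omega
    haveI := T.isPGroup'.center_nontrivial
    obtain ⟨i, hi0, hi⟩ := (T.isPGroup'.to_subgroup (center (T : Subgroup (X ⧸ center X)))).nontrivial_iff_card.mp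
      inferInstance
    obtain ⟨z, hz⟩ := exists_prime_orderOf_dvd_card' (G := center (T : Subgroup (X ⧸ center X))) 2
      (by rw [hi]; exact dvd_pow_self 2 hi0.ne')
    set z' : X ⧸ center X := ((z : (T : Subgroup (X ⧸ center X))) : X ⧸ center X) with hz'
    have hz2 : orderOf (e z') = 2 := by
      rw [MulEquiv.orderOf_eq, hz', orderOf_coe, orderOf_coe, hz]
    obtain ⟨c, hc⟩ := Cfsg.Lib.Dickson.exists_conj_involution h2 (x := e z') (y := x) (sq_one_of hz2)
      (fun e1 => by rw [e1, orderOf_one] at hz2; norm_num at hz2) (by rw [sq, hxx]) hx1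
    obtain ⟨b, hb⟩ := QuotientGroup.mk'_surjective (center X) (e.symm c)
    have heb : e (π b) = c := by rw [hπ, hb, MulEquiv.apply_symm_apply]
    set P := b⁻¹ • S with hP
    have hPM : ∀ s ∈ (P : Subgroup X), Commute g s := by
      intro s hs
      rw [hP, Sylow.coe_subgroup_smul, Subgroup.mem_pointwise_smul_iff_inv_smul_mem] at hs
      simp only [MulAut.smul_def, map_inv, inv_inv, MulAut.conj_apply] at hs
      refine mem_cent.1 (hback s ?_)
      have h1 : Commute z' (π (b * s * b⁻¹)) :=
        congrArg Subtype.val (mem_center_iff'.1 z.2 ⟨π (b * s * b⁻¹), ⟨_, hs, rfl⟩⟩)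
      have h3 := (commute_conj_iff (h := c⁻¹)).2 (h1.map e)
      rw [inv_inv, hc, map_mul, map_mul, map_inv, map_mul, map_mul, map_inv, heb] at h3
      rwa [show c⁻¹ * (c * e (π s) * c⁻¹) * c = e (π s) by group] at h3
    have hgk : g ^ 2 ^ k = 1 := by rw [← hk, pow_orderOf_eq_one]
    exact hg (h.center_sylow_le P (not_comm_sylow_conj S P hS) (mem_sylow_of_commute P hgk hPM) hPM)
  obtain ⟨r, hrp, hr, f, hf0, hf⟩ := Cfsg.Lib.Dickson.exists_char (F := F)
  haveI := Fact.mk hrp
  by_cases hxr : x ^ r = 1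
  · -- unipotent elements
    obtain ⟨P, hP⟩ := exists_sylow_eq_cent r hxr hx1
    obtain ⟨w, hw, hwP⟩ := SetLike.not_le_iff_exists.1 (normalizer_sylow_ne hq3 r P)
    obtain ⟨a, ha⟩ := QuotientGroup.mk'_surjective (center X) (e.symm w)
    have hea : e (π a) = w := by rw [hπ, ha, MulEquiv.apply_symm_apply]
    have hiff : ∀ b : X, b ∈ centralizer ({g} : Set X) ↔ e (π b) ∈ (P : Subgroup _) := fun b => by
      rw [← hP, mem_cent]
      exact ⟨fun hb => mem_cent.2 ((hb.map π).map e), fun hb => mem_cent.1 (hback b (mem_cent.1 hb))⟩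
    refine hwP (hea ▸ (hiff a).1 (hNM (mem_normalizer_iff.2 fun b => ?_)))
    rw [hiff, hiff, map_mul, map_mul, map_inv, map_mul, map_mul, map_inv, hea]
    exact mem_normalizer_iff.1 hw _
  · -- elements inverted by an element of the group
    obtain ⟨w, hw⟩ := exists_inverting' r hxr
    obtain ⟨a, ha⟩ := QuotientGroup.mk'_surjective (center X) (e.symm w)
    have hea : e (π a) = w := by rw [hπ, ha, MulEquiv.apply_symm_apply]
    have hz : a * g * a⁻¹ * g ∈ center X := (QuotientGroup.eq_one_iff _).1 (e.injective (by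
      show e (π (a * g * a⁻¹ * g)) = e 1
      simp only [map_mul, map_inv, map_one, ← hx, hea]
      rw [hw, inv_mul_cancel]))
    have hag := ((mem_cent.1 (hNM (mem_normalizer_cent_of_inverts hz))).map π).map e
    rw [hea, ← hx] at hag
    rw [hag.symm.eq, mul_inv_cancel_right] at hw
    exact hxx (eq_inv_iff_mul_eq_one.1 hw)

end Cfsg.Lib.MinNonCA
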