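import Cfsg.Agent.Lib.MinNonCA.Defs
import Cfsg.Agent.Lib.Core.Layer
import Cfsg.Agent.Lib.PGroup.Basic
import Cfsg.Agent.S0016

/-!
# Minimal non-CA groups: solvable normal subgroups are central
-/

set_option autoImplicit false
set_option linter.style.haveILetI false

namespace Cfsg.Lib.MinNonCA

open Subgroup
open scoped commutatorElement

variable {G : Type*} [Group G]

/-- A non-solvable minimal non-CA group. -/
structure Min (G : Type*) [Group G] : Prop where
  notSolvable : ¬ Group.IsSolvable G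
  notCA : ¬ CA G
  proper : ProperCA G

theorem Min.ne_top_of_solvable (h : Min G) {H : Subgroup G} (hH : Group.IsSolvable H) : H ≠ ⊤ :=
  fun e => h.notSolvable (isSolvable_of_eq_top hH e)

theorem Min.exists_witness (h : Min G) :
    ∃ g : G, g ∉ center G ∧ ¬ Comm (centralizer ({g} : Set G)) := by
  by_contra hc
  simp only [not_exists, not_and, not_not] at hc
  exact h.notCA (ca_of_comm hc)

/-- A perfect non-trivial group has a non-normal Sylow subgroup with non-abelian normaliser. -/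
theorem exists_sylow_normalizer (X : Type*) [Group X] [Finite X] [Nontrivial X]
    (hp : commutator X = ⊤) :
    ∃ (s : ℕ) (_ : Fact s.Prime) (P : Sylow s X),
      ¬ (P : Subgroup X).Normal ∧ ¬ Comm (normalizer ((P : Subgroup X) : Set X)) := by
  have hnil : ¬ Group.IsNilpotent X := fun h => by
    haveI := h
    exact (Group.IsSolvable.commutator_lt_top_of_nontrivial X).ne hp
  rw [(Group.isNilpotent_of_finite_tfae (G := X)).out 0 3 rfl rfl] at hnil
  simp only [not_forall] at hnil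
  obtain ⟨s, hs, P, hP⟩ := hnil
  refine ⟨s, hs, P, hP, fun hc => ?_⟩
  have hle : normalizer ((P : Subgroup X) : Set X) ≤ centralizer ((P : Subgroup X) : Set X) :=
    fun a ha => mem_centralizer_iff.2 fun b hb => (hc b (le_normalizer hb) a ha).eq
  haveI : IsMulCommutative P := comm_iff.1 (hc.mono le_normalizer)
  set f := MonoidHom.transferSylow P hle with hf
  have hker : f.ker = ⊤ := by
    refine top_le_iff.1 (hp.ge.trans ?_)
    refine Subgroup.commutator_le.2 fun a _ b _ => ?_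
    rw [MonoidHom.mem_ker, map_commutatorElement]
    exact commutatorElement_eq_one_iff_mul_comm.2 (mul_comm' (f a) (f b))
  have hbot : (P : Subgroup X) = ⊥ := by
    have h1 := MonoidHom.ker_transferSylow_isComplement' P hle
    rwa [← hf, hker, isComplement'_top_left] at h1
  exact hP (hbot ▸ (inferInstance : (⊥ : Subgroup X).Normal))

variable [Finite G]

/-- The centraliser of a perfect normal subgroup is central. -/
theorem Min.centralizer_perfect_le (h : Min G) {K : Subgroup G} [K.Normal] (hK : K ≠ ⊥)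
    (hp : ⁅K, K⁆ = K) : centralizer (K : Set G) ≤ center G := by
  haveI : Nontrivial K := (nontrivial_iff_ne_bot K).2 hK
  have hp' : commutator K = ⊤ := by
    refine map_injective K.subtype_injective ?_
    rw [map_subtype_commutator, hp, ← MonoidHom.range_eq_map, range_subtype]
  obtain ⟨s, hs, P, hPn, hPc⟩ := exists_sylow_normalizer K hp'
  obtain ⟨a, ha, b, hb, hab⟩ := not_comm_iff.1 hPc
  set H := normalizer (((P : Subgroup K).map K.subtype : Subgroup G) : Set G) with hH
  have hfr : H ⊔ K = ⊤ := Sylow.normalizer_sup_eq_top P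
  have hin : ∀ c : K, c ∈ normalizer ((P : Subgroup K) : Set K) → (c : G) ∈ H := fun c hc =>
    le_normalizer_map K.subtype ⟨c, hc, rfl⟩
  have htop : H ≠ ⊤ := by
    intro e
    refine hPn (normalizer_eq_top_iff.1 (eq_top_iff.2 fun c _ => ?_))
    have h1 : (c : G) ∈ H := e ▸ mem_top _
    rw [hH, mem_normalizer_iff] at h1
    rw [mem_normalizer_iff]
    intro d
    have h2 := h1 (d : G)
    rw [show (c : G) * d * (c : G)⁻¹ = K.subtype (c * d * c⁻¹) by simp,
      show (d : G) = K.subtype d from rfl, mem_map_iff_mem K.subtype_injective,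
      mem_map_iff_mem K.subtype_injective] at h2
    exact h2
  intro v hv
  have hvK : ∀ k ∈ K, Commute v k := fun k hk => ((mem_centralizer_iff.1 hv) k hk).symm
  have hvH : v ∈ H := centralizer_le_normalizer _ (mem_centralizer_iff.2 (by
    rintro _ ⟨c, -, rfl⟩
    exact (hvK _ c.2).eq.symm))
  have hc := h.proper.central htop hvH (hin a ha) (hin b hb) (hvK _ a.2) (hvK _ b.2)
    fun e => hab (Subtype.ext e)
  refine mem_center_iff'.2 fun y => ?_
  have hy : y ∈ H ⊔ K := hfr ▸ mem_top y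
  obtain ⟨c, hcH, k, hk, rfl⟩ := mem_sup_of_normal_right.1 hy
  exact (hc c hcH).mul_right (hvK k hk)

omit [Finite G] in
theorem isSolvable_of_commutator_le {B C : Subgroup G} (hle : ⁅B, B⁆ ≤ C)
    (hC : Group.IsSolvable C) : Group.IsSolvable B := by
  have h1 : Group.IsSolvable ((commutator B).map B.subtype) := by
    rw [map_subtype_commutator]
    exact isSolvable_of_le hle hC
  haveI := h1
  haveI : Group.IsSolvable (commutator B) :=
    Group.isSolvable_of_isSolvable_injective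
      ((commutator B).equivMapOfInjective _ B.subtype_injective).injective
      (f := ((commutator B).equivMapOfInjective _ B.subtype_injective).toMonoidHom)
  exact (Group.isSolvable_iff_subgroup_quotient (commutator B)).mpr
    ⟨inferInstance, inferInstanceAs (Group.IsSolvable (Abelianization B))⟩

/-- A non-solvable normal subgroup contains a perfect one. -/
theorem exists_perfect_normal {C : Subgroup G} [C.Normal] (hC : ¬ Group.IsSolvable C) :
    ∃ K : Subgroup G, K.Normal ∧ K ≤ C ∧ ⁅K, K⁆ = K ∧ ¬ Group.IsSolvable K := by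
  obtain ⟨K, ⟨hKn, hKC, hKs⟩, hmin⟩ := (wellFounded_lt (α := Subgroup G)).has_min
    {K | K.Normal ∧ K ≤ C ∧ ¬ Group.IsSolvable K} ⟨C, ‹_›, le_rfl, hC⟩
  haveI := hKn
  refine ⟨K, hKn, hKC, ?_, hKs⟩
  have hle : ⁅K, K⁆ ≤ K := commutator_le_self K
  refine hle.eq_of_not_lt fun hlt => hmin ⁅K, K⁆ ⟨inferInstance, hle.trans hKC, fun hs => ?_⟩ hlt
  exact hKs (isSolvable_of_commutator_le le_rfl hs)

variable {N : Subgroup G} [hNn : N.Normal]

/-- The centraliser of a non-central solvable normal subgroup is abelian. -/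
theorem Min.comm_centralizer (h : Min G) (hs : Group.IsSolvable N) (hN : ¬ N ≤ center G) :
    Comm (centralizer (N : Set G)) := by
  have hCs : Group.IsSolvable (centralizer (N : Set G)) := by
    by_contra hns
    obtain ⟨K, hKn, hKC, hKp, hKs⟩ := exists_perfect_normal hns
    haveI := hKn
    refine hN (le_trans ?_ (h.centralizer_perfect_le (fun e => hKs (by subst e; infer_instance)) hKp))
    exact fun n hn => mem_centralizer_iff.2 fun k hk => ((mem_centralizer_iff.1 (hKC hk)) n hn).symm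
  by_contra hc
  refine hN fun v hv => mem_center_iff'.2 fun g => ?_
  have hsol : Group.IsSolvable (N ⊔ centralizer (N : Set G) ⊔ zpowers g : Subgroup G) :=
    isSolvable_sup (isSolvable_sup hs hCs) (Comm.isSolvable (by
      rintro a ⟨i, rfl⟩ b ⟨j, rfl⟩
      exact Commute.zpow_zpow_self g i j))
  exact h.proper.central_of_not_comm (h.ne_top_of_solvable hsol)
    (mem_sup_left (mem_sup_left hv)) (le_sup_right.trans le_sup_left) hc
    (fun l hl => (mem_centralizer_iff.1 hl) v hv) g (mem_sup_right (mem_zpowers g))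

/-- Elements fixing `N` modulo the centre. -/
def stab (N : Subgroup G) : Subgroup G where
  carrier := {y | ∀ v ∈ N, ∃ z ∈ center G, y * v * y⁻¹ = v * z}
  one_mem' v _ := ⟨1, one_mem _, by group⟩
  mul_mem' := by
    rintro a b ha hb v hv
    obtain ⟨z, hz, e⟩ := hb v hv
    obtain ⟨w, hw, e'⟩ := ha v hv
    refine ⟨w * z, mul_mem hw hz, ?_⟩
    calc a * b * v * (a * b)⁻¹ = a * (b * v * b⁻¹) * a⁻¹ := by group
      _ = (a * v * a⁻¹) * (a * z * a⁻¹) := by rw [e]; group
      _ = v * (w * z) := by rw [e', (mem_center_iff.1 hz a), mul_inv_cancel_right, mul_assoc]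
  inv_mem' := by
    rintro a ha v hv
    obtain ⟨z, hz, e⟩ := ha v hv
    refine ⟨z⁻¹, inv_mem hz, ?_⟩
    calc a⁻¹ * v * a⁻¹⁻¹ = a⁻¹ * (v * z * z⁻¹) * a := by group
      _ = a⁻¹ * (a * v * a⁻¹ * z⁻¹) * a := by rw [e]
      _ = v * a⁻¹ * (z⁻¹ * a) := by group
      _ = v * z⁻¹ := by rw [← mem_center_iff.1 (inv_mem hz) a]; group

omit [Finite G] in
theorem stab_normal : (stab N).Normal := by
  refine ⟨fun y hy g v hv => ?_⟩
  obtain ⟨z, hz, e⟩ := hy _ (hNn.conj_mem' v hv g)
  refine ⟨z, hz, ?_⟩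
  calc g * y * g⁻¹ * v * (g * y * g⁻¹)⁻¹ = g * (y * (g⁻¹ * v * g) * y⁻¹) * g⁻¹ := by group
    _ = v * (g * z * g⁻¹) := by rw [e]; group
    _ = v * z := by rw [mem_center_iff.1 hz g, mul_inv_cancel_right]

omit [Finite G] hNn in
theorem commutator_stab_le : ⁅stab N, stab N⁆ ≤ centralizer (N : Set G) := by
  refine Subgroup.commutator_le.2 fun a ha b hb => mem_centralizer_iff.2 fun v hv => ?_
  obtain ⟨z, hz, e⟩ := ha v hv
  obtain ⟨w, hw, e'⟩ := hb v hv
  have h1 : a * b * v * (a * b)⁻¹ = v * (z * w) := by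
    calc a * b * v * (a * b)⁻¹ = a * (b * v * b⁻¹) * a⁻¹ := by group
      _ = (a * v * a⁻¹) * (a * w * a⁻¹) := by rw [e']; group
      _ = _ := by rw [e, mem_center_iff.1 hw a, mul_inv_cancel_right, mul_assoc]
  have h2 : b * a * v * (b * a)⁻¹ = v * (z * w) := by
    calc b * a * v * (b * a)⁻¹ = b * (a * v * a⁻¹) * b⁻¹ := by group
      _ = (b * v * b⁻¹) * (b * z * b⁻¹) := by rw [e]; group
      _ = _ := by
        rw [e', mem_center_iff.1 hz b, mul_inv_cancel_right, mul_assoc, mem_center_iff.1 hz w]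
  have h3 : ⁅a, b⁆ * v * ⁅a, b⁆⁻¹ = v := by
    calc ⁅a, b⁆ * v * ⁅a, b⁆⁻¹
        = a * b * ((b * a)⁻¹ * v * (b * a)) * (a * b)⁻¹ := by rw [commutatorElement_def]; group
      _ = a * b * ((b * a)⁻¹ * (b * a * v * (b * a)⁻¹ * (z * w)⁻¹) * (b * a)) * (a * b)⁻¹ := by
          rw [h2, mul_inv_cancel_right]
      _ = a * b * v * (a * b)⁻¹ * (a * b * ((b * a)⁻¹ * (z * w)⁻¹ * (b * a)) * (a * b)⁻¹) := by group
      _ = v := by
          have hc := mem_center_iff.1 (inv_mem (mul_mem hz hw) : (z * w)⁻¹ ∈ center G)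
          rw [mul_assoc (b * a)⁻¹, ← hc (b * a), inv_mul_cancel_left, hc (a * b), mul_inv_cancel_right,
            h1, mul_inv_cancel_right]
  rw [mul_inv_eq_iff_eq_mul] at h3
  exact h3.symm

theorem Min.stab_false (h : Min G) (hs : Group.IsSolvable N) (hN : ¬ N ≤ center G)
    (hy : ∀ y : G, ∀ k : ℕ, y ^ 2 ^ k = 1 → y ∈ stab N) : False := by
  haveI := stab_normal (N := N)
  exact h.notSolvable (isSolvable_of_two_elements
    (isSolvable_of_commutator_le commutator_stab_le (h.comm_centralizer hs hN).isSolvable) hy)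

/-- A `p`-element fixes a non-central element of a non-central normal `p`-subgroup modulo the centre. -/
theorem exists_fixed {p : ℕ} [Fact p.Prime] (hNp : IsPGroup p N) (hN : ¬ N ≤ center G) {y : G} {k : ℕ}
    (hy : y ^ p ^ k = 1) : ∃ x ∈ N, x ∉ center G ∧ ∃ z ∈ center G, y * x * y⁻¹ = x * z := by
  set f := QuotientGroup.mk' (center G)
  set M := N.map f with hM
  haveI : M.Normal := hNn.map f (QuotientGroup.mk'_surjective _)
  have hMne : M ≠ ⊥ := by
    rw [hM, Ne, Subgroup.map_eq_bot_iff, QuotientGroup.ker_mk']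
    exact hN
  set P := M ⊔ zpowers (f y) with hP
  have hPp : IsPGroup p P := by
    refine (hNp.map f).to_sup_of_normal_left ?_
    rintro ⟨_, i, rfl⟩
    refine ⟨k, Subtype.ext ?_⟩
    rw [SubmonoidClass.coe_pow, ← zpow_natCast, ← zpow_mul, mul_comm, zpow_mul, zpow_natCast,
      ← map_pow, hy, map_one, one_zpow, OneMemClass.coe_one]
  have hne : M.subgroupOf P ≠ ⊥ := by
    rw [Ne, subgroupOf_eq_bot, disjoint_iff, inf_eq_left.2 le_sup_left]
    exact hMne
  obtain ⟨⟨m, hmP⟩, hm, hm1⟩ := exists_ne_one_of_ne_bot_aux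
    (Cfsg.Lib.PGroup.inf_center_ne_bot hPp (N := M.subgroupOf P) hne)
  obtain ⟨hmM, hmc⟩ := Subgroup.mem_inf.1 hm
  obtain ⟨x, hx, rfl⟩ := (mem_subgroupOf.1 hmM : m ∈ M)
  refine ⟨x, hx, fun hc => hm1 (Subtype.ext ((QuotientGroup.eq_one_iff x).2 hc)),
    x⁻¹ * (y * x * y⁻¹), ?_, by group⟩
  have hc : Commute (⟨f y, mem_sup_right (mem_zpowers _)⟩ : P) ⟨f x, hmP⟩ := mem_center_iff.1 hmc _
  have hc' : Commute (f y) (f x) := congrArg Subtype.val hc
  refine (QuotientGroup.eq_one_iff _).1 ?_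
  show f (x⁻¹ * (y * x * y⁻¹)) = 1
  rw [map_mul, map_inv, map_mul, map_mul, map_inv, hc'.eq, mul_inv_cancel_right, inv_mul_cancel]
where
  exists_ne_one_of_ne_bot_aux {X : Type _} [Group X] {H : Subgroup X} (h : H ≠ ⊥) :
      ∃ x, x ∈ H ∧ x ≠ 1 := by
    obtain ⟨x, hx⟩ := (Subgroup.ne_bot_iff_exists_ne_one).1 h
    exact ⟨x, x.2, fun e => hx (Subtype.ext e)⟩

omit [Finite G] in
/-- A `p`-element outside `C` has a power outside `C` with `p`-th power in `C`. -/
theorem exists_pow_mem {C : Subgroup G} {p : ℕ} {y : G} {k : ℕ} (hy : y ^ p ^ k ∈ C) (hyC : y ∉ C) :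
    ∃ j : ℕ, y ^ p ^ j ∉ C ∧ (y ^ p ^ j) ^ p ∈ C := by
  induction k with
  | zero => simp at hy; exact absurd hy hyC
  | succ k ih =>
    by_cases h : y ^ p ^ k ∈ C
    · exact ih h
    · exact ⟨k, h, by rwa [← pow_mul, ← pow_succ]⟩

/-- Minimality among the non-central abelian normal subgroups. -/
def MinAbelian (V : Subgroup G) : Prop :=
  Comm V ∧ ¬ V ≤ center G ∧ ∀ U : Subgroup G, U.Normal → U ≤ V → ¬ U ≤ center G → U = V

/-- A 2-element outside the centraliser of a minimal abelian normal subgroup fixes only central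
elements of it. -/
theorem Min.fixed_central (h : Min G) (hV : MinAbelian N) {y : G} {k : ℕ} (hy : y ^ 2 ^ k = 1)
    (hyC : y ∉ centralizer (N : Set G)) {x : G} (hx : x ∈ N) (hxy : Commute y x) : x ∈ center G := by
  set C := centralizer (N : Set G) with hCdef
  have hNC : N ≤ C := fun a ha => mem_centralizer_iff.2 fun b hb => (hV.1 b hb a ha).eq
  have hCs : Group.IsSolvable C := (h.comm_centralizer hV.1.isSolvable hV.2.1).isSolvable
  have key : ∀ t u : G, t ∉ C → t ^ 2 ∈ C → u ^ 2 ∈ C → ∀ v ∈ N, Commute t v → Commute u v := by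
    intro t u htC ht2 hu2 v hv htv
    set T := C ⊔ zpowers (t * u) with hT
    have hTs : Group.IsSolvable T := isSolvable_sup hCs (Comm.isSolvable (by
      rintro a ⟨i, rfl⟩ b ⟨j, rfl⟩
      exact Commute.zpow_zpow_self _ i j))
    have htT : t ∈ normalizer (T : Set G) := by
      refine Cfsg.Lib.Core.mem_normalizer_iff_map_conj.2 (eq_of_le_of_card_ge ?_
        (Subgroup.card_map_of_injective (MulAut.conj t).injective).ge)
      rw [hT, Subgroup.map_sup, MonoidHom.map_zpowers]
      refine sup_le ((le_trans (by rintro _ ⟨c, hc, rfl⟩; exact (inferInstance : C.Normal).conj_mem c hc t) le_sup_left)) (zpowers_le.2 ?_)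
      show t * (t * u) * t⁻¹ ∈ C ⊔ zpowers (t * u)
      have e : t * (t * u) * t⁻¹ = t ^ 2 * u ^ 2 * (t * u)⁻¹ := by simp only [sq]; group
      rw [e]
      exact mul_mem (mem_sup_left (mul_mem ht2 hu2)) (inv_mem (mem_sup_right (mem_zpowers _)))
    have hHs : Group.IsSolvable (T ⊔ zpowers t : Subgroup G) :=
      isSolvable_sup_of_le_normalizer hTs (Comm.isSolvable (by
        rintro a ⟨i, rfl⟩ b ⟨j, rfl⟩
        exact Commute.zpow_zpow_self _ i j)) (zpowers_le.2 htT)
    obtain ⟨w, hw, htw⟩ : ∃ w ∈ N, ¬ Commute t w := by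
      by_contra hc
      simp only [not_exists, not_and, not_not] at hc
      exact htC (mem_centralizer_iff.2 fun w hw => (hc w hw).eq.symm)
    have hCH : C ≤ T ⊔ zpowers t := le_sup_left.trans le_sup_left
    have hu : u ∈ T ⊔ zpowers t := by
      have := mul_mem (inv_mem (mem_sup_right (mem_zpowers t) : t ∈ T ⊔ zpowers t))
        (mem_sup_left (mem_sup_right (mem_zpowers (t * u))) : t * u ∈ T ⊔ zpowers t)
      rwa [inv_mul_cancel_left] at this
    exact (h.proper.central (h.ne_top_of_solvable hHs) (hCH (hNC hv))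
      (mem_sup_right (mem_zpowers t)) (hCH (hNC hw)) htv.symm (hV.1 v hv w hw) htw u hu).symm
  obtain ⟨j, htC, ht2⟩ := exists_pow_mem (p := 2) (k := k) (by rw [hy]; exact one_mem C) hyC
  set t := y ^ 2 ^ j
  set F := N ⊓ centralizer ({t} : Set G)
  have hFn : F.Normal := by
    refine ⟨fun v hv g => ⟨hNn.conj_mem v hv.1 g, mem_cent.2 ?_⟩⟩
    refine key (g * t * g⁻¹) t (fun hc => htC ?_) ?_ ht2 _ (hNn.conj_mem v hv.1 g)
      (commute_conj_iff.2 (mem_cent.1 hv.2))
    · have := (inferInstance : C.Normal).conj_mem' _ hc g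
      rwa [show g⁻¹ * (g * t * g⁻¹) * g = t by group] at this
    · rw [conj_pow]
      exact (inferInstance : C.Normal).conj_mem _ ht2 g
  have hFc : F ≤ center G := by
    by_contra hc
    have e := hV.2.2 F hFn inf_le_left hc
    exact htC (mem_centralizer_iff.2 fun v hv => ((mem_cent.1 (e.ge hv).2).symm).eq)
  exact hFc ⟨hx, mem_cent.2 (hxy.pow_left _)⟩

/-- No non-central abelian normal 2-subgroup. -/
theorem Min.two_case (h : Min G) (hV : MinAbelian N) (hN2 : IsPGroup 2 N) : False := by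
  haveI : Fact (Nat.Prime 2) := ⟨Nat.prime_two⟩
  set C := centralizer (N : Set G)
  -- all squares of `N` are central
  let U : Subgroup G :=
    { carrier := {v | v ∈ N ∧ v ^ 2 ∈ center G}
      one_mem' := ⟨one_mem _, by simp⟩
      mul_mem' := fun {a b} ha hb => ⟨mul_mem ha.1 hb.1, by
        rw [(hV.1 a ha.1 b hb.1).mul_pow]; exact mul_mem ha.2 hb.2⟩
      inv_mem' := fun {a} ha => ⟨inv_mem ha.1, by rw [inv_pow]; exact inv_mem ha.2⟩ }
  have hUn : U.Normal := ⟨fun v hv g => ⟨hNn.conj_mem v hv.1 g, by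
    rw [conj_pow]; exact (inferInstance : (center G).Normal).conj_mem _ hv.2 g⟩⟩
  have hU : U = N := by
    refine hV.2.2 U hUn (fun v hv => hv.1) fun hle => ?_
    obtain ⟨v, hv, hvc⟩ := SetLike.not_le_iff_exists.1 hV.2.1
    obtain ⟨k, hk⟩ := hN2 ⟨v, hv⟩
    have hk' : v ^ 2 ^ k = 1 := congrArg Subtype.val hk
    obtain ⟨j, hj1, hj2⟩ := exists_pow_mem (p := 2) (k := k) (by rw [hk']; exact one_mem _) hvc
    exact hj1 (hle ⟨pow_mem hv _, hj2⟩)
  have hsq : ∀ v ∈ N, v ^ 2 ∈ center G := fun v hv => (hU.ge hv).2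
  refine h.stab_false hV.1.isSolvable hV.2.1 fun y k hy => ?_
  by_cases hyC : y ∈ C
  · exact fun v hv => ⟨1, one_mem _, by
      rw [mul_one, mul_inv_eq_iff_eq_mul]; exact (mem_centralizer_iff.1 hyC v hv).symm⟩
  have hy2 : y ^ 2 ∈ C := by
    by_contra hy2
    obtain ⟨v, hv, hvc, z, hz, e⟩ := exists_fixed hN2 hV.2.1 hy
    have hz2 : z ^ 2 = 1 := by
      have e2 : (y * v * y⁻¹) ^ 2 = v ^ 2 := by
        rw [conj_pow, mem_center_iff.1 (hsq v hv) y, mul_inv_cancel_right]
      rw [e, (show Commute v z from mem_center_iff.1 hz v).mul_pow] at e2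
      exact mul_left_cancel (e2.trans (mul_one _).symm)
    have hfix : Commute (y ^ 2) v := by
      have e2 := conj_pow_eq e (mem_center_iff.1 hz y) 2
      rw [hz2, mul_one, mul_inv_eq_iff_eq_mul] at e2
      exact e2
    exact hvc (h.fixed_central hV (k := k) (by rw [← pow_mul, mul_comm, pow_mul, hy, one_pow]) hy2 hv hfix)
  intro v hv
  refine ⟨v⁻¹ * (y * v * y⁻¹), ?_, by group⟩
  set u := v⁻¹ * (y * v * y⁻¹) with hu
  have hvy : y * v * y⁻¹ ∈ N := hNn.conj_mem v hv y
  have huN : u ∈ N := mul_mem (inv_mem hv) hvy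
  have hu2 : u ^ 2 = 1 := by
    rw [hu, (hV.1 _ (inv_mem hv) _ hvy).mul_pow, conj_pow, mem_center_iff.1 (hsq v hv) y,
      mul_inv_cancel_right, inv_pow, inv_mul_cancel]
  have huu : y * u * y⁻¹ = u := by
    have h1 : y * u * y⁻¹ = (y * v * y⁻¹)⁻¹ * (y ^ 2 * v * (y ^ 2)⁻¹) := by rw [hu, sq]; group
    rw [← (mem_centralizer_iff.1 hy2 v hv), mul_inv_cancel_right] at h1
    calc y * u * y⁻¹ = (y * v * y⁻¹)⁻¹ * v := h1
      _ = u⁻¹ := by rw [hu]; group
      _ = u := by rw [inv_eq_iff_mul_eq_one, ← sq, hu2]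
  exact h.fixed_central hV hy hyC huN (mul_inv_eq_iff_eq_mul.1 huu)

/-- A group with a cyclic Sylow 2-subgroup is solvable. -/
theorem isSolvable_of_cyclic_sylow {X : Type*} [Group X] [Finite X] (S : Sylow 2 X)
    (hc : IsCyclic (S : Subgroup X)) : Group.IsSolvable X := by
  haveI : Fact (Nat.Prime 2) := ⟨Nat.prime_two⟩
  by_cases hev : Even (Nat.card X)
  swap
  · exact Cfsg.Agent.S0205.result (Nat.not_even_iff_odd.1 hev)
  haveI : Nontrivial X := by
    rw [← Finite.one_lt_card_iff_nontrivial]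
    have := (Nat.card_pos : 0 < Nat.card X)
    rw [even_iff_two_dvd] at hev
    omega
  have hmin : (Nat.card X).minFac = 2 := (Nat.minFac_eq_two_iff _).2 (even_iff_two_dvd.1 hev)
  have hcompl := IsCyclic.isComplement' (P := S) hmin hc
  set f := MonoidHom.transferSylow S (hc.normalizer_le_centralizer hmin) with hf
  haveI : Group.IsSolvable f.ker := Cfsg.Agent.S0205.result (by
    rw [← hcompl.index_eq_card, ← Nat.not_even_iff_odd, even_iff_two_dvd]
    exact S.not_dvd_index)
  haveI : IsMulCommutative (S : Subgroup X) := inferInstance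
  haveI : Group.IsSolvable (S : Subgroup X) := Group.isSolvable_of_comm mul_comm'
  exact Group.isSolvable_of_ker_le_range f.ker.subtype f (by simp)

/-- The endgame for an odd prime. -/
theorem Min.odd_finish (h : Min G) {p : ℕ} [Fact p.Prime] (hp2 : p ≠ 2) (hNp : IsPGroup p N)
    (hN : ¬ N ≤ center G) (hs : Group.IsSolvable N)
    (hcl : ∀ a ∈ N, ∀ b ∈ N, a⁻¹ * b⁻¹ * a * b ∈ center G)
    (hC2 : ∀ c ∈ centralizer (N : Set G), ∀ k : ℕ, c ^ 2 ^ k = 1 → c ∈ center G)
    (hfix : ∀ y : G, ∀ k : ℕ, y ^ 2 ^ k = 1 → y ∉ centralizer (N : Set G) →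
      ∀ x ∈ N, Commute y x → x ∈ center G) : False := by
  haveI : Fact (Nat.Prime 2) := ⟨Nat.prime_two⟩
  set C := centralizer (N : Set G) with hC
  have hP : ∀ y : G, ∀ k : ℕ, y ^ 2 ^ k = 1 → y ∉ C → ∀ x ∈ N, x⁻¹ * (y * x * y⁻¹) ∈ center G →
      x ∈ center G := by
    intro y k hy hyC x hx hz
    obtain ⟨m, hm⟩ := hNp ⟨_, mul_mem (inv_mem hx) (hNn.conj_mem x hx y)⟩
    refine hfix y k hy hyC x hx (commute_of_pow_eq_one (z := x⁻¹ * (y * x * y⁻¹)) (by group)
      (mem_center_iff.1 hz y) hy (congrArg Subtype.val hm) ?_)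
    exact Nat.Coprime.pow _ _ ((Nat.coprime_primes Nat.prime_two ‹Fact p.Prime›.out).2 (Ne.symm hp2))
  obtain ⟨S⟩ : Nonempty (Sylow 2 G) := inferInstance
  have hS2 : ∀ a ∈ (S : Subgroup G), ∃ k : ℕ, a ^ 2 ^ k = 1 := fun a ha =>
    (S.2 ⟨a, ha⟩).imp fun k hk => congrArg Subtype.val hk
  have hinv : ∀ s ∈ (S : Subgroup G), s ∉ C → s ^ 2 ∈ C → ∀ x ∈ N,
      x * (s * x * s⁻¹) ∈ center G := by
    intro s hsS hsC hs2 x hx
    obtain ⟨k, hk⟩ := hS2 s hsS
    have hsx := hNn.conj_mem x hx s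
    refine hP s k hk hsC _ (mul_mem hx hsx) ?_
    have e : s * (x * (s * x * s⁻¹)) * s⁻¹ = (s * x * s⁻¹) * x := by
      calc s * (x * (s * x * s⁻¹)) * s⁻¹ = (s * x * s⁻¹) * (s ^ 2 * x * (s ^ 2)⁻¹) := by rw [sq]; group
        _ = _ := by rw [← (mem_centralizer_iff.1 hs2 x hx), mul_inv_cancel_right]
    rw [e, show (x * (s * x * s⁻¹))⁻¹ * (s * x * s⁻¹ * x) =
      (s * x * s⁻¹)⁻¹ * x⁻¹ * (s * x * s⁻¹) * x by group]
    exact hcl _ hsx x hx
  have hSC : ¬ (S : Subgroup G) ≤ C := by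
    intro hle
    refine h.notSolvable (isSolvable_of_two_elements (B := C) (h.comm_centralizer hs hN).isSolvable
      fun y k hy => ?_)
    obtain ⟨P, hP'⟩ := (show IsPGroup 2 (zpowers y) by
      rintro ⟨_, i, rfl⟩
      exact ⟨k, Subtype.ext (by
        rw [SubmonoidClass.coe_pow, ← zpow_natCast, ← zpow_mul, mul_comm, zpow_mul, zpow_natCast, hy,
          one_zpow, OneMemClass.coe_one])⟩).exists_le_sylow
    obtain ⟨g, rfl⟩ := MulAction.exists_smul_eq G S P
    have := hP' (mem_zpowers y)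
    rw [Sylow.coe_subgroup_smul, Subgroup.mem_pointwise_smul_iff_inv_smul_mem] at this
    have h' := (inferInstance : C.Normal).conj_mem _ (hle this) g
    simpa [mul_assoc] using h'
  obtain ⟨a, haS, haC⟩ := SetLike.not_le_iff_exists.1 hSC
  obtain ⟨k, hk⟩ := hS2 a haS
  obtain ⟨j, hsC, hs2⟩ := exists_pow_mem (p := 2) (k := k) (by rw [hk]; exact one_mem C) haC
  set s := a ^ 2 ^ j
  have hsS : s ∈ (S : Subgroup G) := pow_mem haS _
  have huniq : ∀ u ∈ (S : Subgroup G), u ∉ C → u ^ 2 ∈ C → s * u ∈ center G := by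
    intro u huS huC hu2
    obtain ⟨k, hk⟩ := hS2 _ (mul_mem hsS huS)
    refine hC2 _ ?_ k hk
    by_contra hsu
    refine hN fun x hx => hP _ k hk hsu x hx ?_
    have hy : u * x * u⁻¹ ∈ N := hNn.conj_mem x hx u
    have h1 := inv_mem (hinv s hsS hsC hs2 _ hy)
    have h2 := hinv u huS huC hu2 x hx
    rw [show x⁻¹ * (s * u * x * (s * u)⁻¹) =
      (x⁻¹ * (u * x * u⁻¹)⁻¹) * ((u * x * u⁻¹) * (s * (u * x * u⁻¹) * s⁻¹)) by group]
    refine mul_mem ?_ (hinv s hsS hsC hs2 _ hy)
    rw [show x⁻¹ * (u * x * u⁻¹)⁻¹ = ((u * x * u⁻¹) * x)⁻¹ by group]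
    refine inv_mem ?_
    rwa [show u * x * u⁻¹ * x = x⁻¹ * (x * (u * x * u⁻¹)) * x by group,
      mem_center_iff.1 h2 x⁻¹, inv_mul_cancel_right]
  have hscomm : ∀ b ∈ (S : Subgroup G), Commute s b := by
    intro b hb
    obtain ⟨k, hk⟩ := hS2 b hb
    by_cases hbC : b ∈ C
    · exact (mem_center_iff.1 (hC2 b hbC k hk) s)
    obtain ⟨i, h1, h2⟩ := exists_pow_mem (p := 2) (k := k) (by rw [hk]; exact one_mem C) hbC
    have hc := huniq _ (pow_mem hb _) h1 h2
    have : Commute (s * b ^ 2 ^ i * (b ^ 2 ^ i)⁻¹) b :=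
      Commute.mul_left ((mem_center_iff.1 hc b).symm) (((Commute.refl b).pow_left _).inv_left)
    rwa [mul_inv_cancel_right] at this
  by_cases hSa : Comm (S : Subgroup G)
  · set S' := S.mapSurjective (QuotientGroup.mk'_surjective C) with hS'
    have hcoe : (S' : Subgroup (G ⧸ C)) = (S : Subgroup G).map (QuotientGroup.mk' C) := rfl
    have hcomm' : Comm (S' : Subgroup (G ⧸ C)) := by
      rw [hcoe]
      rintro _ ⟨x, hx, rfl⟩ _ ⟨y, hy, rfl⟩
      exact (hSa x hx y hy).map _
    have huq : ∀ x : (S' : Subgroup (G ⧸ C)), x ^ 2 = 1 → x ≠ 1 →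
        (x : G ⧸ C) = (QuotientGroup.mk' C s)⁻¹ := by
      rintro ⟨x, hx⟩ hx2 hx1
      obtain ⟨u, hu, rfl⟩ := (hcoe ▸ hx : x ∈ (S : Subgroup G).map (QuotientGroup.mk' C))
      have huC : u ∉ C := fun hc => hx1 (Subtype.ext ((QuotientGroup.eq_one_iff u).2 hc))
      have hu2 : u ^ 2 ∈ C := by
        rw [← QuotientGroup.eq_one_iff]
        have := congrArg Subtype.val hx2
        rwa [SubmonoidClass.coe_pow, OneMemClass.coe_one, ← map_pow] at this
      refine eq_inv_of_mul_eq_one_right ?_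
      rw [← map_mul]
      exact (QuotientGroup.eq_one_iff _).2
        (center_le_centralizer (N : Set G) (huniq u hu huC hu2))
    have hcyc : IsCyclic (S' : Subgroup (G ⧸ C)) := by
      have hu : ∀ H K : Subgroup (S' : Subgroup (G ⧸ C)), Nat.card H = 2 → Nat.card K = 2 → H = K := by
        intro H K hH hK
        have key : ∀ H : Subgroup (S' : Subgroup (G ⧸ C)), Nat.card H = 2 → ∀ K : Subgroup (S' : Subgroup (G ⧸ C)),
            Nat.card K = 2 → H ≤ K := by
          intro H hH K hK x hx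
          rcases eq_or_ne x 1 with rfl | hx1
          · exact one_mem K
          obtain ⟨y, hy⟩ := exists_prime_orderOf_dvd_card' (G := K) 2 (dvd_of_eq hK.symm)
          have hx2 : x ^ 2 = 1 := by
            have := pow_card_eq_one' (x := (⟨x, hx⟩ : H))
            rw [hH] at this
            exact congrArg Subtype.val this
          have hy2 : (y : (S' : Subgroup (G ⧸ C))) ^ 2 = 1 := by
            have h0 := pow_orderOf_eq_one y
            rw [hy] at h0
            exact congrArg Subtype.val h0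
          have hy1 : (y : (S' : Subgroup (G ⧸ C))) ≠ 1 := fun e => by
            rw [OneMemClass.coe_eq_one] at e
            rw [e, orderOf_one] at hy
            norm_num at hy
          rw [show x = y from Subtype.ext ((huq x hx2 hx1).trans (huq _ hy2 hy1).symm)]
          exact y.2
        exact le_antisymm (key H hH K hK) (key K hK H hH)
      rcases Cfsg.Agent.S0016.result 2 S'.2 hu with hc | ⟨-, n, ⟨e⟩⟩
      · exact hc
      · exfalso
        have h1 : ∀ a b : QuaternionGroup (2 ^ n), a * b = b * a := fun a b => by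
          obtain ⟨a, rfl⟩ := e.surjective a
          obtain ⟨b, rfl⟩ := e.surjective b
          rw [← map_mul, ← map_mul, show a * b = b * a from Subtype.ext (hcomm' a a.2 b b.2)]
        rcases Nat.eq_zero_or_pos n with rfl | hn
        · haveI : IsCyclic (QuaternionGroup (2 ^ 0)) := QuaternionGroup.quaternionGroup_one_isCyclic
          exact h.notSolvable (solvable_of_quot (isCyclic_of_surjective e.symm e.symm.surjective)
            (h.comm_centralizer hs hN).isSolvable)
        · have h2 := h1 (QuaternionGroup.a 1) (QuaternionGroup.xa 0)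
          simp only [QuaternionGroup.a_mul_xa, QuaternionGroup.xa_mul_a, QuaternionGroup.xa.injEq,
            zero_sub, zero_add] at h2
          have h3 : ((2 : ℕ) : ZMod (2 * 2 ^ n)) = 0 := by
            push_cast
            linear_combination -h2
          rw [ZMod.natCast_eq_zero_iff] at h3
          have := Nat.le_of_dvd (by norm_num) h3
          have : 2 ≤ 2 ^ n := Nat.le_self_pow hn.ne' 2
          omega
    exact h.notSolvable (solvable_of_quot hcyc (h.comm_centralizer hs hN).isSolvable)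
  · have hH : Group.IsSolvable (N ⊔ (S : Subgroup G) : Subgroup G) := by
      haveI := S.2.isNilpotent
      exact isSolvable_sup hs inferInstance
    have hc := h.proper.central_of_not_comm (h.ne_top_of_solvable hH) (mem_sup_right hsS)
      le_sup_right hSa hscomm
    exact hsC (mem_centralizer_iff.2 fun v hv => (hc v (mem_sup_left hv)).eq.symm)
where
  solvable_of_quot {C : Subgroup G} [C.Normal] {S : Sylow 2 (G ⧸ C)}
      (hc : IsCyclic (S : Subgroup (G ⧸ C))) (hC : Group.IsSolvable C) : Group.IsSolvable G := by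
    haveI := hC
    exact (Group.isSolvable_iff_subgroup_quotient C).mpr ⟨inferInstance, isSolvable_of_cyclic_sylow S hc⟩

/-- A non-central normal nilpotent subgroup contains a non-central normal `p`-subgroup. -/
theorem exists_pGroup_le (hN : ¬ N ≤ center G) (hnil : Group.IsNilpotent N) :
    ∃ p : ℕ, p.Prime ∧ ∃ U : Subgroup G, U.Normal ∧ U ≤ N ∧ IsPGroup p U ∧ ¬ U ≤ center G := by
  obtain ⟨x, hx, hxc⟩ := SetLike.not_le_iff_exists.1 hN
  obtain ⟨n, p, k, hp, hk, hc⟩ := exists_pow_primePow hxc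
  haveI := Fact.mk hp
  haveI := hnil
  obtain ⟨P, hP⟩ := (IsPGroup.of_card (n := k)
    (by rw [Nat.card_zpowers, Subgroup.orderOf_mk, hk]) :
    IsPGroup p (zpowers (⟨x ^ n, pow_mem hx n⟩ : N))).exists_le_sylow
  haveI := Sylow.characteristic_of_normal P inferInstance
  exact ⟨p, hp, (P : Subgroup N).map N.subtype, Cfsg.Lib.Core.normal_map_char_of_normal _,
    map_subtype_le _, P.2.map _, fun hle => hc (hle ⟨_, hP (mem_zpowers _), rfl⟩)⟩

/-- No non-central abelian normal subgroup. -/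
theorem Min.comm_normal_le_center (h : Min G) {V : Subgroup G} [hVn : V.Normal] (hV : Comm V) :
    V ≤ center G := by
  by_contra hVc
  have hsel : ∀ P : Subgroup G → Prop, (∀ A B, B ≤ A → P A → P B) →
      (∃ U : Subgroup G, U.Normal ∧ Comm U ∧ ¬ U ≤ center G ∧ P U) →
      ∃ U : Subgroup G, U.Normal ∧ MinAbelian U ∧ P U := by
    intro P hmono ⟨U, h1, h2, h3, h4⟩
    obtain ⟨W, ⟨hWn, hWc, hWz, hWP⟩, hmin⟩ := (wellFounded_lt (α := Subgroup G)).has_min
      {U | U.Normal ∧ Comm U ∧ ¬ U ≤ center G ∧ P U} ⟨U, h1, h2, h3, h4⟩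
    refine ⟨W, hWn, ⟨hWc, hWz, fun A hA hAW hAz => ?_⟩, hWP⟩
    exact hAW.eq_of_not_lt (hmin A ⟨hA, hWc.mono hAW, hAz, hmono W A hAW hWP⟩)
  by_cases h2 : ∃ U : Subgroup G, U.Normal ∧ Comm U ∧ ¬ U ≤ center G ∧ IsPGroup 2 U
  · obtain ⟨U, hUn, hU, hU2⟩ := hsel (fun U => IsPGroup 2 U) (fun A B hle hA => hA.to_le hle) h2
    haveI := hUn
    exact h.two_case hU hU2
  obtain ⟨U, hUn, hU, -⟩ := hsel (fun _ => True) (fun _ _ _ _ => trivial) ⟨V, hVn, hV, hVc, trivial⟩
  haveI := hUn
  haveI : IsMulCommutative U := comm_iff.1 hU.1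
  obtain ⟨p, hp, W, hWn, hWU, hWp, hWz⟩ := exists_pGroup_le hU.2.1
    (Cfsg.Lib.Core.isNilpotent_of_isMulCommutative U)
  obtain rfl := hU.2.2 W hWn hWU hWz
  haveI := Fact.mk hp
  have hp2 : p ≠ 2 := fun e => h2 ⟨W, hWn, hU.1, hWz, e ▸ hWp⟩
  refine h.odd_finish (N := W) hp2 hWp hWz hU.1.isSolvable (fun a ha b hb => ?_) ?_
    fun y k hy hyC x hx hc => h.fixed_central hU hy hyC hx hc
  · rw [mul_assoc (a⁻¹ * b⁻¹), (hU.1 a ha b hb).eq, show a⁻¹ * b⁻¹ * (b * a) = 1 by group]
    exact one_mem _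
  · intro c hc k hck
    have hCc := h.comm_centralizer hU.1.isSolvable hU.2.1
    set C := centralizer (W : Set G)
    let T : Subgroup G :=
      { carrier := {c | c ∈ C ∧ ∃ k : ℕ, c ^ 2 ^ k = 1}
        one_mem' := ⟨one_mem _, 0, by simp⟩
        mul_mem' := fun {a b} ⟨ha, ⟨i, hi⟩⟩ ⟨hb, ⟨j, hj⟩⟩ => ⟨mul_mem ha hb, i + j, by
          rw [(hCc a ha b hb).mul_pow, pow_add, pow_mul, hi, one_pow, one_mul, mul_comm (2 ^ i) (2 ^ j),
            pow_mul, hj, one_pow]⟩
        inv_mem' := fun {a} ⟨ha, i, hi⟩ => ⟨inv_mem ha, i, by rw [inv_pow, hi, inv_one]⟩ }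
    by_contra hcz
    refine h2 ⟨T, ⟨fun t ⟨ht, i, hi⟩ g => ⟨(inferInstance : C.Normal).conj_mem t ht g, i, by
      rw [conj_pow, hi, mul_one, mul_inv_cancel]⟩⟩, hCc.mono fun t ht => ht.1,
      fun hle => hcz (hle ⟨hc, k, hck⟩), fun ⟨t, _, i, hi⟩ => ⟨i, Subtype.ext hi⟩⟩

omit hNn in
/-- Every solvable normal subgroup is central. -/
theorem Min.solvable_normal_le_center (h : Min G) {R : Subgroup G} [R.Normal]
    (hR : Group.IsSolvable R) : R ≤ center G := by
  by_contra hRc
  obtain ⟨W, ⟨hWn, hWs, hWz⟩, hmin⟩ := (wellFounded_lt (α := Subgroup G)).has_min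
    {U | U.Normal ∧ Group.IsSolvable U ∧ ¬ U ≤ center G} ⟨R, ‹_›, hR, hRc⟩
  have hsmall : ∀ U : Subgroup G, U.Normal → U < W → U ≤ center G := fun U hU hlt => by
    by_contra hUz
    exact hmin U ⟨hU, isSolvable_of_le hlt.le hWs, hUz⟩ hlt
  haveI := hWn
  haveI := hWs
  -- `W` is nilpotent
  have hFit : Group.IsNilpotent W := by
    set F := (Cfsg.fittingSubgroup W).map W.subtype with hF
    haveI : (Cfsg.fittingSubgroup W).Characteristic :=
      Subgroup.characteristic_iff_map_le.2 fun e => (Cfsg.Lib.Core.map_fittingSubgroup_equiv e).le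
    haveI : F.Normal := Cfsg.Lib.Core.normal_map_char_of_normal _
    rcases (map_subtype_le _ : F ≤ W).lt_or_eq with hlt | heq
    · exfalso
      have hz := hsmall F inferInstance hlt
      refine hWz fun x hx => ?_
      refine hz ⟨⟨x, hx⟩, Cfsg.Lib.Core.centralizer_fitting_le_of_isSolvable (G := W) ?_, rfl⟩
      refine mem_centralizer_iff.2 fun f hf => Subtype.ext ?_
      exact (mem_center_iff.1 (hz ⟨f, hf, rfl⟩) x).symm
    · have : Cfsg.fittingSubgroup W = ⊤ := map_injective W.subtype_injective <| by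
        rw [heq, ← MonoidHom.range_eq_map, range_subtype]
      have hn := Cfsg.Lib.Core.fittingSubgroup_isNilpotent W
      rw [this] at hn
      exact Group.nilpotent_of_mulEquiv (Subgroup.topEquiv : (⊤ : Subgroup W) ≃* W)
  obtain ⟨p, hp, U, hUn, hUW, hUp, hUz⟩ := exists_pGroup_le hWz hFit
  have hUW' : U = W := hUW.eq_of_not_lt fun hlt => hUz (hsmall U hUn hlt)
  subst hUW'
  haveI := Fact.mk hp
  set C := centralizer (U : Set G) with hC
  have hCz : C ≤ center G := h.comm_normal_le_center (h.comm_centralizer hWs hWz)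
  have hU' : ⁅U, U⁆ ≤ center G := hsmall _ inferInstance ((commutator_le_self U).lt_of_ne fun e => by
    haveI : Nontrivial U := (nontrivial_iff_ne_bot U).2 fun eb => hWz (eb ▸ bot_le)
    refine (Group.IsSolvable.commutator_lt_top_of_nontrivial U).ne (map_injective U.subtype_injective ?_)
    rw [map_subtype_commutator, e, ← MonoidHom.range_eq_map, range_subtype])
  obtain ⟨g, hg, hM⟩ := h.exists_witness
  set M := centralizer ({g} : Set G) with hMdef
  have hgC : g ∉ C := fun hgc => hg (hCz hgc)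
  have hUM : ¬ U ≤ M := fun hle => hgC (mem_centralizer_iff.2 fun u hu => (mem_cent.1 (hle hu)).eq.symm)
  have htop : U ⊔ M = ⊤ := by
    by_contra hne
    exact hUM (le_sup_left.trans (h.proper.le_cent hM hne le_sup_right))
  have hU0 : U ⊓ M ≤ center G := by
    refine hsmall _ ⟨fun m hm x => ?_⟩ (inf_le_left.lt_of_ne fun e => hUM (inf_eq_left.1 e))
    obtain ⟨u, hu, c, hc, rfl⟩ := mem_sup_of_normal_left.1 (htop ▸ mem_top x : x ∈ U ⊔ M)
    have h1 : c * m * c⁻¹ ∈ U ⊓ M := Subgroup.mem_inf.2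
      ⟨hWn.conj_mem m (Subgroup.mem_inf.1 hm).1 c,
        M.mul_mem (M.mul_mem hc (Subgroup.mem_inf.1 hm).2) (M.inv_mem hc)⟩
    have h2 := hU' (commutator_mem_commutator hu h1.1)
    rw [show u * c * m * (u * c)⁻¹ = ⁅u, c * m * c⁻¹⁆ * (c * m * c⁻¹) by
      rw [commutatorElement_def]; group]
    exact mul_mem ⟨commutator_le_self U (commutator_mem_commutator hu h1.1),
      center_le_centralizer _ h2⟩ h1
  have hfixM : ∀ y ∈ M, y ∉ center G → ∀ x ∈ U, Commute y x → x ∈ center G := by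
    intro y hy hyc x hx hxy
    by_contra hxc
    have hgx : ¬ Commute g x := fun e => hxc (hU0 ⟨hx, mem_cent.2 e⟩)
    have hA : Group.IsSolvable (zpowers g ⊔ zpowers y : Subgroup G) := Comm.isSolvable <| by
      have hle : zpowers g ⊔ zpowers y ≤ centralizer ((zpowers g ⊔ zpowers y : Subgroup G) : Set G) := by
        have hgy := mem_cent.1 hy
        refine sup_le (zpowers_le.2 ?_) (zpowers_le.2 ?_) <;>
          refine mem_centralizer_iff.2 fun z hz => ?_ <;>
          obtain ⟨_, ⟨i, rfl⟩, _, ⟨j, rfl⟩, rfl⟩ :=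
            (mem_sup_of_commute' hgy hz)
        · exact ((Commute.refl g).zpow_left i |>.mul_left (hgy.symm.zpow_left j)).eq
        · exact ((hgy.zpow_left i).mul_left ((Commute.refl y).zpow_left j)).eq
      exact fun a ha b hb => ((mem_centralizer_iff.1 (hle ha)) b hb).symm
    have hH := isSolvable_sup hWs hA
    have hc := h.proper.central (h.ne_top_of_solvable hH) (mem_sup_right (mem_sup_right (mem_zpowers y)))
      (mem_sup_right (mem_sup_left (mem_zpowers g))) (mem_sup_left hx) (mem_cent.1 hy).symm hxy hgx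
    exact hyc (hCz (mem_centralizer_iff.2 fun u hu => (hc u (mem_sup_left hu)).eq.symm))
  by_cases hp2 : p = 2
  · subst hp2
    obtain ⟨y, hyM, k, hyk, hyc⟩ : ∃ y ∈ M, ∃ k : ℕ, y ^ 2 ^ k = 1 ∧ y ∉ center G := by
      by_contra hc
      simp only [not_exists, not_and, not_not] at hc
      refine h.notSolvable (isSolvable_of_eq_top (isSolvable_sup hWs ?_) htop)
      refine isSolvable_of_two_elements (B := (center G).subgroupOf M) (Comm.isSolvable ?_) ?_
      · exact fun a ha b _ => Subtype.ext (mem_center_iff.1 (mem_subgroupOf.1 ha) b).symm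
      · exact fun y k hk => mem_subgroupOf.2 (hc y y.2 k (congrArg Subtype.val hk))
    obtain ⟨x, hx, hxc, z, hz, e⟩ := exists_fixed hUp hWz hyk
    have hgy : Commute g y := mem_cent.1 hyM
    have e' : y * (g * x * g⁻¹) * y⁻¹ = (g * x * g⁻¹) * z := by
      calc y * (g * x * g⁻¹) * y⁻¹ = (y * g) * x * (y * g)⁻¹ := by group
        _ = (g * y) * x * (g * y)⁻¹ := by rw [hgy.eq]
        _ = g * (y * x * y⁻¹) * g⁻¹ := by group
        _ = g * x * g⁻¹ * (g * z * g⁻¹) := by rw [e]; group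
        _ = _ := by rw [mem_center_iff.1 hz g, mul_inv_cancel_right]
    have hq : g * x * g⁻¹ * x⁻¹ ∈ center G := by
      refine hfixM y hyM hyc _ (mul_mem (hWn.conj_mem x hx g) (inv_mem hx)) ?_
      refine mul_inv_eq_iff_eq_mul.1 ?_
      calc y * (g * x * g⁻¹ * x⁻¹) * y⁻¹ = (y * (g * x * g⁻¹) * y⁻¹) * (y * x * y⁻¹)⁻¹ := by group
        _ = g * x * g⁻¹ * z * (x * z)⁻¹ := by rw [e', e]
        _ = g * x * g⁻¹ * x⁻¹ := by group
    -- the fixed space of `g` modulo the centre
    let Fx : Subgroup G :=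
      { carrier := {v | v ∈ U ∧ g * v * g⁻¹ * v⁻¹ ∈ center G}
        one_mem' := ⟨one_mem _, by simp⟩
        mul_mem' := fun {a b} ha hb => ⟨mul_mem ha.1 hb.1, by
          rw [show g * (a * b) * g⁻¹ * (a * b)⁻¹ =
            g * a * g⁻¹ * (g * b * g⁻¹ * b⁻¹) * a⁻¹ by group,
            mul_assoc (g * a * g⁻¹), ← mem_center_iff.1 hb.2, ← mul_assoc]
          exact mul_mem ha.2 hb.2⟩
        inv_mem' := fun {a} ha => ⟨inv_mem ha.1, by
          rw [show g * a⁻¹ * g⁻¹ * a⁻¹⁻¹ = a⁻¹ * (g * a * g⁻¹ * a⁻¹)⁻¹ * a by group,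
            mem_center_iff.1 (inv_mem ha.2) a⁻¹, inv_mul_cancel_right]
          exact inv_mem ha.2⟩ }
    have hFn : Fx.Normal := by
      refine ⟨fun v hv w => ⟨hWn.conj_mem v hv.1 w, ?_⟩⟩
      obtain ⟨u, hu, c, hc, rfl⟩ := mem_sup_of_normal_left.1 (htop ▸ mem_top w : w ∈ U ⊔ M)
      have h1 : g * (c * v * c⁻¹) * g⁻¹ * (c * v * c⁻¹)⁻¹ ∈ center G := by
        have hgc : Commute g c := mem_cent.1 hc
        rw [show g * (c * v * c⁻¹) * g⁻¹ * (c * v * c⁻¹)⁻¹ =
          (g * c) * v * (g * c)⁻¹ * c * v⁻¹ * c⁻¹ by group, hgc.eq,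
          show c * g * v * (c * g)⁻¹ * c * v⁻¹ * c⁻¹ = c * (g * v * g⁻¹ * v⁻¹) * c⁻¹ by group]
        exact (inferInstance : (center G).Normal).conj_mem _ hv.2 c
      set v' := c * v * c⁻¹
      have h2 : ⁅u, v'⁆ ∈ center G := hU' (commutator_mem_commutator hu (hWn.conj_mem v hv.1 c))
      rw [show u * c * v * (u * c)⁻¹ = ⁅u, v'⁆ * v' by
          simp only [v', commutatorElement_def]; group,
        show g * (⁅u, v'⁆ * v') * g⁻¹ * (⁅u, v'⁆ * v')⁻¹ =
          g * ⁅u, v'⁆ * g⁻¹ * (g * v' * g⁻¹ * v'⁻¹) * ⁅u, v'⁆⁻¹ by group]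
      exact mul_mem (mul_mem ((inferInstance : (center G).Normal).conj_mem _ h2 g) h1) (inv_mem h2)
    have hFU : Fx = U := by
      refine (show Fx ≤ U from fun v hv => hv.1).eq_of_not_lt fun hlt => hxc (hsmall _ hFn hlt ⟨hx, hq⟩)
    refine h.stab_false (N := U) hWs hWz fun w k _ => ?_
    refine (show U ⊔ M ≤ stab U from sup_le ?_ ?_) (htop ▸ mem_top w)
    · exact fun u hu v hv => ⟨v⁻¹ * (u * v * u⁻¹), hU' (by
        rw [show v⁻¹ * (u * v * u⁻¹) = ⁅v⁻¹, u⁆ by rw [commutatorElement_def]; group]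
        exact commutator_mem_commutator (inv_mem hv) hu), by group⟩
    · intro m hm v hv
      refine ⟨v⁻¹ * (m * v * m⁻¹), hU0 ⟨U.mul_mem (U.inv_mem hv) (hWn.conj_mem v hv m), mem_cent.2 ?_⟩,
        by group⟩
      set d := g * v * g⁻¹ * v⁻¹ with hd
      have hdz : d ∈ center G := (hFU.ge hv).2
      have h1 : g * v * g⁻¹ = d * v := by rw [hd]; group
      have h2 : g * (m * v * m⁻¹) * g⁻¹ = d * (m * v * m⁻¹) := by
        have hgm : Commute g m := mem_cent.1 hm
        calc g * (m * v * m⁻¹) * g⁻¹ = (g * m) * v * (g * m)⁻¹ := by group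
          _ = (m * g) * v * (m * g)⁻¹ := by rw [hgm.eq]
          _ = (m * d) * v * m⁻¹ := by rw [mul_inv_rev, mul_assoc m d, ← h1]; group
          _ = (d * m) * v * m⁻¹ := by rw [mem_center_iff.1 hdz m]
          _ = _ := by group
      refine mul_inv_eq_iff_eq_mul.1 ?_
      calc g * (v⁻¹ * (m * v * m⁻¹)) * g⁻¹ = (g * v * g⁻¹)⁻¹ * (g * (m * v * m⁻¹) * g⁻¹) := by group
        _ = _ := by rw [h1, h2]; group
  · refine h.odd_finish (N := U) hp2 hUp hWz hWs (fun a ha b hb => hU' ?_) ?_ ?_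
    · rw [show a⁻¹ * b⁻¹ * a * b = ⁅a⁻¹, b⁻¹⁆ by rw [commutatorElement_def]; group]
      exact commutator_mem_commutator (inv_mem ha) (inv_mem hb)
    · exact fun c hc _ _ => hCz hc
    · intro y k hy hyC x hx hxy
      haveI : Fact (Nat.Prime 2) := ⟨Nat.prime_two⟩
      have hyc : y ∉ center G := fun e => hyC (center_le_centralizer _ e)
      -- a conjugate of `y` lies in `M`
      obtain ⟨S⟩ : Nonempty (Sylow 2 M) := inferInstance
      have hidx : ¬ 2 ∣ M.index := by
        intro hd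
        obtain ⟨n, hn⟩ := IsPGroup.iff_card.1 hUp
        have h1 : M.index ∣ Nat.card U := by
          have h2 := Cfsg.Lib.Core.card_sup_dvd_mul M U
          rw [sup_comm, htop, card_top, ← card_mul_index M] at h2
          exact Nat.dvd_of_mul_dvd_mul_left Nat.card_pos h2
        have h2 := Nat.prime_two.dvd_of_dvd_pow (hn ▸ hd.trans h1)
        exact hp2 ((Nat.prime_dvd_prime_iff_eq Nat.prime_two hp).1 h2).symm
      have hS' : IsPGroup 2 ((S : Subgroup M).map M.subtype) := S.2.map _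
      have hind : ¬ 2 ∣ ((S : Subgroup M).map M.subtype).index := by
        rw [index_map_subtype, Nat.prime_two.dvd_mul]
        exact not_or.2 ⟨S.not_dvd_index, hidx⟩
      set P := hS'.toSylow hind with hP
      obtain ⟨Q, hQ⟩ := (show IsPGroup 2 (zpowers y) by
        rintro ⟨_, i, rfl⟩
        exact ⟨k, Subtype.ext (by
          rw [SubmonoidClass.coe_pow, ← zpow_natCast, ← zpow_mul, mul_comm, zpow_mul, zpow_natCast, hy,
            one_zpow, OneMemClass.coe_one])⟩).exists_le_sylow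
      obtain ⟨w, rfl⟩ := MulAction.exists_smul_eq G P Q
      have hm := hQ (mem_zpowers y)
      rw [Sylow.coe_subgroup_smul, Subgroup.mem_pointwise_smul_iff_inv_smul_mem] at hm
      have hyM : w⁻¹ * y * w ∈ M := by
        obtain ⟨c, -, hc⟩ := (hm : _ ∈ ((S : Subgroup M).map M.subtype))
        simp only [MulAut.smul_def, MulAut.inv_def, MulAut.conj_symm_apply] at hc
        exact hc ▸ c.2
      have := hfixM _ hyM (fun e => hyc (by
        have := (inferInstance : (center G).Normal).conj_mem _ e w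
        rwa [show w * (w⁻¹ * y * w) * w⁻¹ = y by group] at this)) (w⁻¹ * x * w) (hWn.conj_mem' x hx w) (by
          have := (commute_conj_iff (h := w⁻¹)).2 hxy
          simpa using this)
      have h' := (inferInstance : (center G).Normal).conj_mem _ this w
      rwa [show w * (w⁻¹ * x * w) * w⁻¹ = x by group] at h'

end Cfsg.Lib.MinNonCA
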