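import Cfsg.Agent.Lib.MinNonCA.TwoData
import Cfsg.Agent.Lib.Schur.Universe
import Cfsg.Agent.Lib.Linear.GLTwo
import Cfsg.Agent.S0074
import Cfsg.Agent.S2117
import Cfsg.Agent.S2202

/-!
# Non-abelian Sylow 2-subgroups are dihedral modulo the centre
-/

set_option autoImplicit false
set_option linter.style.haveILetI false

namespace Cfsg.Lib.MinNonCA

open Subgroup
open scoped commutatorElement

universe u

variable {X : Type u} [Group X] [Finite X] {S : Sylow 2 X}

theorem sylow_mem_of_mk {y : X} {k : ℕ} (hy : y ^ 2 ^ k = 1)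
    (h : QuotientGroup.mk' (center X) y ∈ (S : Subgroup X).map (QuotientGroup.mk' (center X))) :
    y ∈ (S : Subgroup X) := by
  obtain ⟨s, hs, e⟩ := h
  have hz : s⁻¹ * y ∈ center X := (QuotientGroup.eq (s := center X)).1 e
  obtain ⟨i, hi⟩ := sylow_two_pow S hs
  have hcomm : Commute s (s⁻¹ * y) := (mem_center_iff'.1 hz s).symm
  have h1 : (s⁻¹ * y) ^ 2 ^ (i + k) = 1 := by
    have h2 : (s * (s⁻¹ * y)) ^ 2 ^ (i + k) = 1 := by
      rw [mul_inv_cancel_left, pow_add, mul_comm, pow_mul, hy, one_pow]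
    rwa [hcomm.mul_pow, show s ^ 2 ^ (i + k) = 1 by rw [pow_add, pow_mul, hi, one_pow], one_mul] at h2
  have h3 := mul_mem hs (mem_sylow_of_commute S h1 fun a _ => mem_center_iff'.1 hz a)
  rwa [mul_inv_cancel_left] at h3

omit [Finite X] in
theorem commutator_mem_of_squares (hE : ∀ s ∈ (S : Subgroup X), s * s ∈ center X) {s t : X}
    (hs : s ∈ (S : Subgroup X)) (ht : t ∈ (S : Subgroup X)) : s * t * s⁻¹ * t⁻¹ ∈ center X := by
  have e : s * t * s⁻¹ * t⁻¹ = (s * t * (s * t)) * (t⁻¹ * (s * s)⁻¹ * t⁻¹) := by group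
  rw [e, mem_center_iff.1 (inv_mem (hE s hs)) t⁻¹, mul_assoc _ t⁻¹ t⁻¹, ← mul_inv_rev t t]
  exact mul_mem (hE _ (mul_mem hs ht)) (mul_mem (inv_mem (hE s hs)) (inv_mem (hE t ht)))

omit [Finite X] in
theorem QMin.quotient_not_comm (h : QMin X) : ¬ ∀ a b : X ⧸ center X, a * b = b * a := by
  intro hc
  haveI : Group.IsSolvable (X ⧸ center X) := Group.isSolvable_of_comm hc
  haveI : Group.IsSolvable (center X) := Comm.isSolvable fun a _ b hb => mem_center_iff.1 hb a
  exact h.not_solvable ((Group.isSolvable_iff_subgroup_quotient (center X)).2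
    ⟨inferInstance, inferInstance⟩)

/-- A quasisimple group is not an elementary abelian extension of rank at least three at the prime two. -/
theorem QMin.big_false (h : QMin X) (hS : ¬ Comm (S : Subgroup X))
    (hE : ∀ s ∈ (S : Subgroup X), s * s ∈ center X)
    (hbig : 4 < Nat.card ((S : Subgroup X).map (QuotientGroup.mk' (center X)))) : False := by
  haveI : Fact (Nat.Prime 2) := ⟨Nat.prime_two⟩
  haveI hsimple := h.quasi.2
  set f := QuotientGroup.mk' (center X) with hf
  set S' := S.mapSurjective (QuotientGroup.mk'_surjective (center X)) with hS'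
  have hcoe : (S' : Subgroup (X ⧸ center X)) = (S : Subgroup X).map f := rfl
  have hcomm : Comm (S' : Subgroup (X ⧸ center X)) := by
    rw [hcoe]
    rintro _ ⟨a, ha, rfl⟩ _ ⟨b, hb, rfl⟩
    show f a * f b = f b * f a
    have h1 : f (a * b * a⁻¹ * b⁻¹) = 1 := (QuotientGroup.eq_one_iff _).2 (commutator_mem_of_squares hE ha hb)
    rw [map_mul, map_mul, map_mul, map_inv, map_inv, mul_inv_eq_one, mul_inv_eq_iff_eq_mul] at h1
    exact h1
  have htop : commutator (X ⧸ center X) = ⊤ := by
    rw [_root_.commutator_def, ← map_top_of_surjective f (QuotientGroup.mk'_surjective _), ← map_commutator,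
      ← _root_.commutator_def, h.commutator_eq_top]
  -- no abelian subgroup of index two containing the central elements
  have hno : ∀ P : Subgroup X, P ≤ (S : Subgroup X) → Comm P →
      (∀ z ∈ (S : Subgroup X), z ∈ center X → z ∈ P) →
      (∀ a ∈ (S : Subgroup X), a ∉ P → ∀ b ∈ (S : Subgroup X), b ∉ P → a * b ∈ P) → False := by
    intro P hPS hPc hPz hPi
    have uniq : ∀ R : Subgroup X, R ≤ (S : Subgroup X) → Comm R →
        (∀ a ∈ (S : Subgroup X), a ∉ R → ∀ b ∈ (S : Subgroup X), b ∉ R → a * b ∈ R) → R ≤ P := by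
      intro R hRS hRc hRi b hbR
      by_contra hbP
      obtain ⟨a, haP, haR⟩ : ∃ a ∈ P, a ∉ R := by
        by_contra hc
        simp only [not_exists, not_and, not_not] at hc
        refine hS fun s hs t ht => hRc s ?_ t ?_
        · by_cases hsP : s ∈ P
          · exact hc s hsP
          · have h1 := hPi _ (inv_mem (hRS hbR)) (fun e => hbP (by simpa using P.inv_mem e)) s hs hsP
            simpa using R.mul_mem hbR (hc _ h1)
        · by_cases hsP : t ∈ P
          · exact hc t hsP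
          · have h1 := hPi _ (inv_mem (hRS hbR)) (fun e => hbP (by simpa using P.inv_mem e)) t ht hsP
            simpa using R.mul_mem hbR (hc _ h1)
      by_cases hw : ∃ w ∈ P, w ∈ R ∧ w ∉ center X
      · obtain ⟨w, hwP, hwR, hwc⟩ := hw
        have hC := h.comm_cent_sylow S hS (hPS hwP) hwc
        have hle : ∀ s ∈ (S : Subgroup X), s ∈ (S : Subgroup X) ⊓ centralizer ({w} : Set X) := by
          intro s hs
          refine Subgroup.mem_inf.2 ⟨hs, mem_cent.2 ?_⟩
          by_cases hsP : s ∈ P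
          · exact hPc w hwP s hsP
          · have h1 := hPi _ (inv_mem (hRS hbR)) (fun e => hbP (by simpa using P.inv_mem e)) s hs hsP
            have h2 := (hRc w hwR b hbR).mul_right (hPc w hwP _ h1)
            rwa [mul_inv_cancel_left] at h2
        exact hS (hC.mono hle)
      · simp only [not_exists, not_and, not_not] at hw
        have hcov : ∀ q ∈ (S : Subgroup X).map f,
            q ∈ ({1, f a, f b, f b * f a} : Set (X ⧸ center X)) := by
          rintro _ ⟨s, hs, rfl⟩
          have inP : ∀ p ∈ P, f p = 1 ∨ f p = f a := by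
            intro p hp
            by_cases hpR : p ∈ R
            · exact Or.inl ((QuotientGroup.eq_one_iff p).2 (hw p hp hpR))
            · refine Or.inr ((QuotientGroup.eq (s := center X)).2 (hw _ (P.mul_mem (P.inv_mem haP) hp) ?_)).symm
              exact hRi _ (inv_mem (hPS haP)) (fun e => haR (by simpa using R.inv_mem e)) p (hPS hp) hpR
          by_cases hsP : s ∈ P
          · rcases inP s hsP with e | e <;> simp [e]
          · have h1 := hPi _ (inv_mem (hRS hbR)) (fun e => hbP (by simpa using P.inv_mem e)) s hs hsP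
            have e : f s = f b * f (b⁻¹ * s) := by rw [← map_mul, mul_inv_cancel_left]
            rcases inP _ h1 with e' | e' <;> simp [e, e']
        have h4 := Set.ncard_le_ncard (s := (((S : Subgroup X).map f : Subgroup (X ⧸ center X)) : Set (X ⧸ center X)))
          (t := {1, f a, f b, f b * f a}) hcov (Set.toFinite _)
        rw [← Nat.card_coe_set_eq, SetLike.coe_sort_coe] at h4
        have h5 := h4.trans ((Set.ncard_insert_le _ _).trans (Nat.add_le_add_right
          ((Set.ncard_insert_le _ _).trans (Nat.add_le_add_right ((Set.ncard_insert_le _ _).trans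
            (Nat.add_le_add_right (Set.ncard_singleton _).le 1)) 1)) 1))
        omega
    set P' := P.map f with hP'
    have hPle : P' ≤ (S' : Subgroup (X ⧸ center X)) := hcoe ▸ map_mono hPS
    set N := normalizer ((S' : Subgroup (X ⧸ center X)) : Set (X ⧸ center X)) with hN
    have hPn : ∀ n ∈ N, ∀ q ∈ P', n * q * n⁻¹ ∈ P' := by
      intro n hn q hq
      obtain ⟨n', rfl⟩ := QuotientGroup.mk'_surjective _ n
      obtain ⟨p, hp, rfl⟩ := hq
      have conjS : ∀ m : X, f m ∈ N → ∀ s ∈ (S : Subgroup X), m * s * m⁻¹ ∈ (S : Subgroup X) := by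
        intro m hm s hs
        obtain ⟨k, hk⟩ := sylow_two_pow S hs
        refine sylow_mem_of_mk (k := k) (by rw [conj_pow, hk, mul_one, mul_inv_cancel]) ?_
        rw [map_mul, map_mul, map_inv, ← hcoe]
        exact (mem_normalizer_iff.1 hm _).1 (hcoe.ge ⟨s, hs, rfl⟩)
      let R := P.map (MulAut.conj n').toMonoidHom
      have hRS : R ≤ (S : Subgroup X) := by
        rintro _ ⟨r, hr, rfl⟩
        exact conjS n' hn r (hPS hr)
      have hRc : Comm R := by
        rintro _ ⟨r, hr, rfl⟩ _ ⟨r', hr', rfl⟩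
        exact (hPc r hr r' hr').map _
      have hRi : ∀ a ∈ (S : Subgroup X), a ∉ R → ∀ b ∈ (S : Subgroup X), b ∉ R → a * b ∈ R := by
        intro a ha haR b hb hbR
        have hn' : f n'⁻¹ ∈ N := by rw [map_inv]; exact inv_mem hn
        have h1 := conjS _ hn' a ha
        have h2 := conjS _ hn' b hb
        rw [inv_inv] at h1 h2
        refine ⟨n'⁻¹ * (a * b) * n', ?_, by simp [mul_assoc]⟩
        rw [SetLike.mem_coe, show n'⁻¹ * (a * b) * n' = (n'⁻¹ * a * n') * (n'⁻¹ * b * n') by group]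
        exact hPi _ h1 (fun e => haR ⟨_, e, by simp [mul_assoc]⟩) _ h2 (fun e => hbR ⟨_, e, by simp [mul_assoc]⟩)
      have h3 : n' * p * n'⁻¹ ∈ P := uniq R hRS hRc hRi ⟨p, hp, rfl⟩
      exact ⟨_, h3, by rw [map_mul, map_mul, map_inv]⟩
    obtain ⟨b, hb, hbP⟩ : ∃ b ∈ (S : Subgroup X), b ∉ P := by
      by_contra hc
      simp only [not_exists, not_and, not_not] at hc
      exact hS (hPc.mono hc)
    set P₁ := P'.subgroupOf N with hP1
    haveI hP1n : P₁.Normal := ⟨fun q hq n => mem_subgroupOf.2 (hPn n n.2 q (mem_subgroupOf.1 hq))⟩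
    set π := QuotientGroup.mk' P₁ with hπ
    set S₁ := S'.subtype (N := N) le_normalizer with hS1
    set S₂ := S₁.mapSurjective (QuotientGroup.mk'_surjective P₁) with hS2
    have hS2coe : (S₂ : Subgroup (N ⧸ P₁)) =
        ((S' : Subgroup (X ⧸ center X)).subgroupOf N).map π := rfl
    haveI : IsMulCommutative (S₂ : Subgroup (N ⧸ P₁)) := comm_iff.1 (by
      rw [hS2coe]
      rintro _ ⟨a, ha, rfl⟩ _ ⟨c, hc, rfl⟩
      exact (show Commute a c from Subtype.ext (hcomm _ (mem_subgroupOf.1 ha) _ (mem_subgroupOf.1 hc))).map π)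
    have hbS' : f b ∈ (S' : Subgroup (X ⧸ center X)) := hcoe.ge ⟨b, hb, rfl⟩
    set q : N := ⟨f b, le_normalizer hbS'⟩ with hq
    have hq1 : π q ≠ 1 := fun e => by
      have h1 : f b ∈ P' := mem_subgroupOf.1 ((QuotientGroup.eq_one_iff q).1 e)
      obtain ⟨p, hp, e'⟩ := h1
      exact hbP (by simpa using P.mul_mem hp (hPz _ (mul_mem (inv_mem (hPS hp)) hb)
        ((QuotientGroup.eq (s := center X)).1 e')))
    have hS2two : ∀ x ∈ (S₂ : Subgroup (N ⧸ P₁)), x = 1 ∨ x = π q := by
      intro x hx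
      obtain ⟨⟨y, hyN⟩, hy, rfl⟩ := hS2coe.le hx
      obtain ⟨s, hs, rfl⟩ := hcoe.le (mem_subgroupOf.1 hy)
      by_cases hsP : s ∈ P
      · exact Or.inl ((QuotientGroup.eq_one_iff _).2 (mem_subgroupOf.2 ⟨s, hsP, rfl⟩))
      · refine Or.inr ((QuotientGroup.eq (s := P₁)).2 (mem_subgroupOf.2 ?_)).symm
        exact ⟨b⁻¹ * s, hPi _ (inv_mem hb) (fun e => hbP (by simpa using P.inv_mem e)) s hs hsP,
          by simp [hq, f]⟩
    have hqS : π q ∈ (S₂ : Subgroup (N ⧸ P₁)) := hS2coe.ge ⟨q, mem_subgroupOf.2 hbS', rfl⟩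
    have hqc : π q ∈ center (N ⧸ P₁) := by
      refine mem_center_iff.2 fun m => ?_
      obtain ⟨m, rfl⟩ := QuotientGroup.mk'_surjective P₁ m
      have hmem : π (m * q * m⁻¹) ∈ (S₂ : Subgroup (N ⧸ P₁)) :=
        hS2coe.ge ⟨_, mem_subgroupOf.2 ((mem_normalizer_iff.1 m.2 _).1 hbS'), rfl⟩
      rcases hS2two _ hmem with e | e
      · rw [map_mul, map_mul, map_inv, conj_eq_one_iff] at e
        exact absurd e hq1
      · rw [map_mul, map_mul, map_inv, mul_inv_eq_iff_eq_mul] at e
        exact e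
    have hqd : π q ∈ commutator (N ⧸ P₁) := by
      haveI : IsMulCommutative (S' : Subgroup (X ⧸ center X)) := comm_iff.1 hcomm
      have h1 : f b ∈ ⁅N, N⁆ := by
        have := Cfsg.Agent.S0074.result S' inferInstance
        rw [htop, top_inf_eq] at this
        exact (this.le hbS').1
      rw [← map_subtype_commutator] at h1
      obtain ⟨c, hc, e⟩ := h1
      rw [show q = c from Subtype.ext e.symm, _root_.commutator_def,
        ← map_top_of_surjective π (QuotientGroup.mk'_surjective _), ← map_commutator]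
      exact ⟨c, hc, rfl⟩
    have := Cfsg.Lib.Fusion.inf_commutator_inf_center_eq_bot_sylow S₂
    exact hq1 (by
      rw [← Subgroup.mem_bot, ← this]
      exact ⟨⟨hqS, hqd⟩, hqc⟩)
  -- centralisers of involutions modulo the centre are abelian
  have habel : ∀ x ∈ (S : Subgroup X), x ∉ center X →
      Comm (centralizer ({f x} : Set (X ⧸ center X))) := by
    intro x hxS hxc
    set H := (centralizer ({f x} : Set (X ⧸ center X))).comap f with hH
    have memH : ∀ y, y ∈ H ↔ y * x * y⁻¹ * x⁻¹ ∈ center X := fun y => by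
      rw [hH, mem_comap, mem_cent, ← QuotientGroup.eq_one_iff]
      show Commute (f x) (f y) ↔ f _ = 1
      rw [map_mul, map_mul, map_mul, map_inv, map_inv, mul_inv_eq_one, mul_inv_eq_iff_eq_mul]
      exact ⟨fun e => e.eq.symm, fun e => e.symm⟩
    have hHtop : H ≠ ⊤ := by
      intro e
      have h1 : f x ∈ center (X ⧸ center X) := mem_center_iff'.2 fun q => by
        obtain ⟨y, rfl⟩ := QuotientGroup.mk'_surjective _ q
        exact mem_cent.1 (mem_comap.1 (e.ge (mem_top y)))
      rcases (inferInstance : (center (X ⧸ center X)).Normal).eq_bot_or_eq_top with e' | e'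
      · exact hxc ((QuotientGroup.eq_one_iff x).1 (by rwa [e', Subgroup.mem_bot] at h1))
      · exact h.quotient_not_comm fun a b =>
          mem_center_iff.1 (e' ▸ mem_top b : b ∈ center (X ⧸ center X)) a
    have hSH : (S : Subgroup X) ≤ H := fun s hs => (memH s).2 (commutator_mem_of_squares hE hs hxS)
    obtain ⟨s0, hs0, hs0x⟩ : ∃ s ∈ (S : Subgroup X), ¬ Commute x s := by
      by_contra hc
      simp only [not_exists, not_and, not_not] at hc
      exact hxc (h.center_sylow_le S hS hxS hc)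
    have hxH : x ∈ H := hSH hxS
    have hHCA : CA H := h.proper H hHtop
    have hCx : ∀ a ∈ H, Commute x a → ∀ b ∈ H, Commute x b → Commute a b := fun a ha hxa b hb hxb => by
      refine (hHCA.commute (x := (⟨x, hxH⟩ : H)) (a := ⟨a, ha⟩) (b := ⟨b, hb⟩) (Subtype.ext hxa)
        (Subtype.ext hxb) fun hc => hs0x ?_).map H.subtype
      exact congrArg Subtype.val (mem_center_iff'.1 hc ⟨s0, hSH hs0⟩)
    have hx2 := hE x hxS
    -- conjugation multiplies `x` by a central element of order two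
    have hdef : ∀ y ∈ H, x⁻¹ * (y * x * y⁻¹) ∈ center X ∧
        (x⁻¹ * (y * x * y⁻¹)) * (x⁻¹ * (y * x * y⁻¹)) = 1 := by
      intro y hy
      set c := x⁻¹ * (y * x * y⁻¹) with hc
      have hcz : c ∈ center X := by
        have e : c = x⁻¹ * (y * x * y⁻¹ * x⁻¹) * x := by rw [hc]; group
        rw [e]
        exact (inferInstance : (center X).Normal).conj_mem' _ ((memH y).1 hy) x
      refine ⟨hcz, ?_⟩
      have h1 : y * (x * x) * y⁻¹ = (x * x) * (c * c) := by
        calc y * (x * x) * y⁻¹ = (x * c) * (x * c) := by rw [hc]; group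
          _ = _ := by rw [(mem_center_iff'.1 hcz x).mul_mul_mul_comm]
      rw [mem_center_iff.1 hx2 y, mul_inv_cancel_right, left_eq_mul] at h1
      exact h1
    -- every element is a product of one commuting with `x` and one of `S`
    have hdec : ∀ y ∈ H, ∃ a ∈ H, Commute x a ∧ ∃ s ∈ (S : Subgroup X), y = a * s := by
      intro y hy
      let D : Subgroup H :=
        { carrier := {m | ∃ a ∈ H, Commute x a ∧ ∃ s ∈ (S : Subgroup X), (m : X) = a * s}
          one_mem' := ⟨1, one_mem _, Commute.one_right _, 1, one_mem _, by simp⟩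
          mul_mem' := by
            rintro m n ⟨a, ha, hxa, s, hs, e⟩ ⟨b, hb, hxb, t, ht, e'⟩
            refine ⟨a * (s * b * s⁻¹), mul_mem ha (mul_mem (mul_mem (hSH hs) hb) (inv_mem (hSH hs))),
              hxa.mul_right ?_, s * t, mul_mem hs ht, by rw [Subgroup.coe_mul, e, e']; group⟩
            obtain ⟨hc, -⟩ := hdef s⁻¹ (inv_mem (hSH hs))
            have ex : x = s * (x * (x⁻¹ * (s⁻¹ * x * s⁻¹⁻¹))) * s⁻¹ := by group
            rw [ex, commute_conj_iff]
            exact hxb.mul_left (mem_center_iff'.1 hc b)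
          inv_mem' := by
            rintro m ⟨a, ha, hxa, s, hs, e⟩
            refine ⟨s⁻¹ * a⁻¹ * s, mul_mem (mul_mem (inv_mem (hSH hs)) (inv_mem ha)) (hSH hs), ?_,
              s⁻¹, inv_mem hs, by rw [Subgroup.coe_inv, e]; group⟩
            obtain ⟨hc, -⟩ := hdef s (hSH hs)
            have ex : x = s⁻¹ * (x * (x⁻¹ * (s * x * s⁻¹))) * s⁻¹⁻¹ := by group
            have := (commute_conj_iff (h := s⁻¹)).2
              (hxa.inv_right.mul_left (mem_center_iff'.1 hc a⁻¹))
            rw [← ex, inv_inv] at this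
            exact this }
      suffices hm : (⟨y, hy⟩ : H) ∈ D by exact hm
      by_contra hnot
      obtain ⟨n, p, k, hp, hk, hn⟩ := exists_pow_primePow' (K := D) hnot
      set m := (⟨y, hy⟩ : H) ^ n with hm
      obtain ⟨hc, hc2⟩ := hdef m m.2
      have hmk : (m : X) ^ p ^ k = 1 := by
        rw [← SubmonoidClass.coe_pow, ← hk, pow_orderOf_eq_one, OneMemClass.coe_one]
      by_cases hp2 : p = 2
      · subst hp2
        obtain ⟨T, hT⟩ := (isPGroup_zpowers (p := 2) (k := k) (y := m)
          (by rw [← hk, pow_orderOf_eq_one])).exists_le_sylow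
        obtain ⟨w, hw⟩ := MulAction.exists_smul_eq H (S.subtype hSH) T
        have hmem := hT (mem_zpowers m)
        rw [← hw, Sylow.coe_subgroup_smul, Subgroup.mem_pointwise_smul_iff_inv_smul_mem] at hmem
        simp only [MulAut.smul_def, MulAut.inv_def, MulAut.conj_symm_apply, Sylow.coe_subtype,
          mem_subgroupOf, Subgroup.coe_mul, Subgroup.coe_inv] at hmem
        set s := (w : X)⁻¹ * m * w with hs
        obtain ⟨hcw, -⟩ := hdef w w.2
        obtain ⟨hcs, -⟩ := hdef s (hSH hmem)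
        refine hn ⟨(m : X) * s⁻¹, mul_mem m.2 (inv_mem (hSH hmem)), ?_, s, hmem, by group⟩
        -- `m` and `s` multiply `x` by the same central element
        have hcw' := mem_center_iff.1 hcw
        have key : (m : X) * x * (m : X)⁻¹ = s * x * s⁻¹ := by
          set c := x⁻¹ * (s * x * s⁻¹) with hcdef
          set d := x⁻¹ * ((w : X) * x * (w : X)⁻¹) with hddef
          have h1 : s * x * s⁻¹ = x * c := by rw [hcdef]; group
          have h2 : (w : X) * x * (w : X)⁻¹ = x * d := by rw [hddef]; group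
          have hwinv : (w : X)⁻¹ * x * w = x * d⁻¹ := by
            calc (w : X)⁻¹ * x * w = (w : X)⁻¹ * ((x * d) * d⁻¹) * w := by group
              _ = (w : X)⁻¹ * ((w : X) * x * (w : X)⁻¹ * d⁻¹) * w := by rw [h2]
              _ = x * ((w : X)⁻¹ * d⁻¹ * w) := by group
              _ = x * d⁻¹ := by rw [mem_center_iff.1 (inv_mem hcw) _, mul_assoc, inv_mul_cancel, mul_one]
          calc (m : X) * x * (m : X)⁻¹
              = (w : X) * (s * ((w : X)⁻¹ * x * w) * s⁻¹) * (w : X)⁻¹ := by rw [hs]; group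
            _ = (w : X) * (s * x * s⁻¹ * (s * d⁻¹ * s⁻¹)) * (w : X)⁻¹ := by rw [hwinv]; group
            _ = (w : X) * x * (w : X)⁻¹ * ((w : X) * (c * d⁻¹) * (w : X)⁻¹) := by
                rw [h1, mem_center_iff.1 (inv_mem hcw) s, mul_inv_cancel_right]; group
            _ = x * d * (c * d⁻¹) := by
                rw [h2, mem_center_iff.1 (mul_mem hcs (inv_mem hcw)) w, mul_inv_cancel_right]
            _ = s * x * s⁻¹ := by
                rw [h1, mem_center_iff.1 (inv_mem hcw) c, mul_assoc x, mul_inv_cancel_left]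
        show Commute x ((m : X) * s⁻¹)
        refine (mul_inv_eq_iff_eq_mul.1 ?_).symm
        calc (m : X) * s⁻¹ * x * ((m : X) * s⁻¹)⁻¹ = (m : X) * (s⁻¹ * x * s) * (m : X)⁻¹ := by group
          _ = x := by
              set c := x⁻¹ * (s * x * s⁻¹) with hcdef
              have h1 : s⁻¹ * x * s = x * c⁻¹ := by
                calc s⁻¹ * x * s = s⁻¹ * ((x * c) * c⁻¹) * s := by group
                  _ = s⁻¹ * (s * x * s⁻¹ * c⁻¹) * s := by rw [hcdef]; group
                  _ = x * (s⁻¹ * c⁻¹ * s) := by group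
                  _ = x * c⁻¹ := by rw [mem_center_iff.1 (inv_mem hcs) _, mul_assoc, inv_mul_cancel, mul_one]
              calc (m : X) * (s⁻¹ * x * s) * (m : X)⁻¹
                  = (m : X) * x * (m : X)⁻¹ * ((m : X) * c⁻¹ * (m : X)⁻¹) := by rw [h1]; group
                _ = x := by
                    rw [key, mem_center_iff.1 (inv_mem hcs) (m : X), mul_inv_cancel_right, hcdef]
                    group
      · refine hn ⟨m, m.2, (commute_of_pow_eq_one (z := x⁻¹ * ((m : X) * x * (m : X)⁻¹)) (by group)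
          (mem_center_iff.1 hc _) hmk (m := 2) (by rw [sq]; exact hc2) ?_).symm, 1, one_mem _, (mul_one _).symm⟩
        exact Nat.Coprime.pow_left _ ((Nat.coprime_primes hp Nat.prime_two).2 hp2)
    -- elements commuting with `x` commute with `S` modulo the centre
    have hcomS : ∀ a ∈ H, Commute x a → ∀ s ∈ (S : Subgroup X), a * s * a⁻¹ * s⁻¹ ∈ center X := by
      intro a ha hxa s hs
      let T : Subgroup H :=
        { carrier := {m | (m : X) * s * (m : X)⁻¹ * s⁻¹ ∈ center X}
          one_mem' := by simp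
          mul_mem' := by
            intro m n hm hn
            show ((m * n : H) : X) * s * ((m * n : H) : X)⁻¹ * s⁻¹ ∈ center X
            rw [Subgroup.coe_mul,
              show (m : X) * n * s * ((m : X) * n)⁻¹ * s⁻¹ =
                (m : X) * ((n : X) * s * (n : X)⁻¹ * s⁻¹) * (m : X)⁻¹ * ((m : X) * s * (m : X)⁻¹ * s⁻¹) by group]
            exact mul_mem ((inferInstance : (center X).Normal).conj_mem _ hn _) hm
          inv_mem' := by
            intro m hm
            show ((m⁻¹ : H) : X) * s * ((m⁻¹ : H) : X)⁻¹ * s⁻¹ ∈ center X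
            rw [Subgroup.coe_inv,
              show (m : X)⁻¹ * s * (m : X)⁻¹⁻¹ * s⁻¹ =
                (m : X)⁻¹ * ((m : X) * s * (m : X)⁻¹ * s⁻¹)⁻¹ * (m : X)⁻¹⁻¹ by group]
            exact (inferInstance : (center X).Normal).conj_mem _ (inv_mem hm) _ }
      suffices hm : (⟨a, ha⟩ : H) ∈ T by exact hm
      by_contra hnot
      obtain ⟨n, p, k, hp, hk, hn⟩ := exists_pow_primePow' (K := T) hnot
      set m := (⟨a, ha⟩ : H) ^ n with hm
      have hxm : Commute x (m : X) := by rw [hm, SubmonoidClass.coe_pow]; exact hxa.pow_right n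
      refine hn ?_
      by_cases hp2 : p = 2
      · subst hp2
        obtain ⟨T', hT'⟩ := (isPGroup_zpowers (p := 2) (k := k) (y := m)
          (by rw [← hk, pow_orderOf_eq_one])).exists_le_sylow
        obtain ⟨w, hw⟩ := MulAction.exists_smul_eq H (S.subtype hSH) T'
        have hmem := hT' (mem_zpowers m)
        rw [← hw, Sylow.coe_subgroup_smul, Subgroup.mem_pointwise_smul_iff_inv_smul_mem] at hmem
        simp only [MulAut.smul_def, MulAut.inv_def, MulAut.conj_symm_apply, Sylow.coe_subtype,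
          mem_subgroupOf, Subgroup.coe_mul, Subgroup.coe_inv] at hmem
        obtain ⟨b, hb, hxb, t, ht, ew⟩ := hdec w w.2
        rw [ew] at hmem
        have hbm : b⁻¹ * m * b ∈ (S : Subgroup X) := by
          have := mul_mem (mul_mem ht hmem) (inv_mem ht)
          rwa [show t * ((b * t)⁻¹ * m * (b * t)) * t⁻¹ = b⁻¹ * m * b by group] at this
        rw [Commute.inv_mul_cancel (hCx b hb hxb m m.2 hxm)] at hbm
        exact commutator_mem_of_squares hE hbm hs
      · have hcomm : ∀ t ∈ (S : Subgroup X), Commute (m : X) t := by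
          by_contra hnc
          simp only [not_forall] at hnc
          obtain ⟨t0, ht0, ht0m⟩ := hnc
          set P := (S : Subgroup X) ⊓ centralizer ({x} : Set X) with hP
          have hmodd : Odd (orderOf (m : X)) := by
            rw [Subgroup.orderOf_coe, hk]
            exact (hp.odd_of_ne_two hp2).pow
          have hm2 : ∀ e : X, e ∈ H → Commute x e → ¬ (∀ t ∈ (S : Subgroup X), Commute e t) →
              ∀ t ∈ (S : Subgroup X), Commute e t → Commute x t := by
            intro e he hxe hne t ht het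
            obtain ⟨t', ht'⟩ := not_forall.1 hne
            obtain ⟨ht'1, ht'2⟩ := Classical.not_imp.1 ht'
            refine (hHCA.commute (x := (⟨e, he⟩ : H)) (a := ⟨x, hxH⟩) (b := ⟨t, hSH ht⟩) (Subtype.ext hxe.symm)
              (Subtype.ext het) fun hc => ht'2 ?_).map H.subtype
            exact congrArg Subtype.val (mem_center_iff'.1 hc ⟨t', hSH ht'1⟩)
          have hrel : ∀ u ∈ (S : Subgroup X), u ∉ P →
              ∀ t ∈ (S : Subgroup X), Commute ((m : X) * (u * m * u⁻¹)) t := by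
            intro u hu huP
            have hum : u * m * u⁻¹ ∈ H := mul_mem (mul_mem (hSH hu) m.2) (inv_mem (hSH hu))
            have hxum : Commute x (u * m * u⁻¹) := by
              obtain ⟨hc, -⟩ := hdef u⁻¹ (inv_mem (hSH hu))
              have ex : x = u * (x * (x⁻¹ * (u⁻¹ * x * u⁻¹⁻¹))) * u⁻¹ := by group
              rw [ex, commute_conj_iff]
              exact hxm.mul_left (mem_center_iff'.1 hc _)
            have hcm : Commute (m : X) (u * m * u⁻¹) := hCx _ m.2 hxm _ hum hxum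
            by_contra hne
            have hfix : Commute ((m : X) * (u * m * u⁻¹)) u := by
              refine (mul_inv_eq_iff_eq_mul.1 ?_).symm
              calc u * ((m : X) * (u * m * u⁻¹)) * u⁻¹ = (u * m * u⁻¹) * ((u * u) * m * (u * u)⁻¹) := by group
                _ = (u * m * u⁻¹) * m := by
                    rw [← mem_center_iff.1 (hE u hu) (m : X), mul_inv_cancel_right]
                _ = _ := hcm.eq.symm
            exact huP (Subgroup.mem_inf.2 ⟨hu, mem_cent.2
              (hm2 _ (mul_mem m.2 hum) (hxm.mul_right hxum) hne u hu hfix)⟩)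
          refine hno P inf_le_left (h.comm_cent_sylow S hS hxS hxc)
            (fun z hz hzc => Subgroup.mem_inf.2 ⟨hz, mem_cent.2 (mem_center_iff'.1 hzc x).symm⟩)
            fun u hu huP v hv hvP => ?_
          by_contra huv
          refine ht0m ?_
          have h1 := hrel u hu huP
          have h2 := hrel v hv hvP
          have h3 := hrel _ (mul_mem hu hv) huv
          set e₁ := (m : X) * (u * m * u⁻¹) with he₁
          set e₂ := (m : X) * (v * m * v⁻¹) with he₂
          set e₃ := (m : X) * (u * v * m * (u * v)⁻¹) with he₃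
          have e4 : (m : X) * m = e₃ * e₂⁻¹ * e₁ := by
            have : u * e₂ * u⁻¹ = e₂ := by rw [(h2 u hu).symm.eq, mul_inv_cancel_right]
            have e5 : e₃ = (m : X) * (u * (m : X)⁻¹ * u⁻¹) * (u * e₂ * u⁻¹) := by rw [he₃, he₂]; group
            rw [this] at e5
            rw [e5, mul_inv_cancel_right, he₁]
            have hum : u * (m : X)⁻¹ * u⁻¹ = (u * m * u⁻¹)⁻¹ := by group
            rw [hum]
            have hc : Commute (m : X) (u * m * u⁻¹) := by
              refine hCx _ m.2 hxm _ (mul_mem (mul_mem (hSH hu) m.2) (inv_mem (hSH hu))) ?_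
              obtain ⟨hc, -⟩ := hdef u⁻¹ (inv_mem (hSH hu))
              have ex : x = u * (x * (x⁻¹ * (u⁻¹ * x * u⁻¹⁻¹))) * u⁻¹ := by group
              rw [ex, commute_conj_iff]
              exact hxm.mul_left (mem_center_iff'.1 hc _)
            rw [hc.inv_right.eq, mul_assoc, ← mul_assoc (m : X), (hc.mul_left hc).eq, inv_mul_cancel_left]
          have hmm : Commute ((m : X) * m) t0 := by
            rw [e4]; exact ((h3 t0 ht0).mul_left (h2 t0 ht0).inv_left).mul_left (h1 t0 ht0)
          obtain ⟨j, hj⟩ := hmodd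
          have h5 := hmm.pow_left (j + 1)
          rwa [← sq, ← pow_mul, show 2 * (j + 1) = orderOf (m : X) + 1 by omega, pow_add,
            pow_orderOf_eq_one, one_mul, pow_one] at h5
        show (m : X) * s * (m : X)⁻¹ * s⁻¹ ∈ center X
        rw [(hcomm s hs).eq, mul_inv_cancel_right, mul_inv_cancel]
        exact one_mem _
    intro p hp q hq
    obtain ⟨p', rfl⟩ := QuotientGroup.mk'_surjective _ p
    obtain ⟨q', rfl⟩ := QuotientGroup.mk'_surjective _ q
    obtain ⟨a, ha, hxa, s, hs, rfl⟩ := hdec p' (mem_comap.2 hp)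
    obtain ⟨b, hb, hxb, t, ht, rfl⟩ := hdec q' (mem_comap.2 hq)
    have mk_comm : ∀ {u v : X}, u * v * u⁻¹ * v⁻¹ ∈ center X → Commute (f u) (f v) := by
      intro u v huv
      have h1 : f (u * v * u⁻¹ * v⁻¹) = 1 := (QuotientGroup.eq_one_iff _).2 huv
      rwa [map_mul, map_mul, map_mul, map_inv, map_inv, mul_inv_eq_one, mul_inv_eq_iff_eq_mul] at h1
    rw [map_mul, map_mul]
    exact (((hCx a ha hxa b hb hxb).map f).mul_right (mk_comm (hcomS a ha hxa t ht))).mul_left
      ((mk_comm (hcomS b hb hxb s hs)).symm.mul_right (mk_comm (commutator_mem_of_squares hE hs ht)))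
  have hS'e : Nat.card (S' : Subgroup (X ⧸ center X)) = Nat.card ((S : Subgroup X).map f) := by rw [hcoe]
  have heven : Even (Nat.card (X ⧸ center X)) := by
    obtain ⟨k, hk⟩ := IsPGroup.iff_card.1 S'.2
    rcases Nat.eq_zero_or_pos k with rfl | hk0
    · rw [pow_zero] at hk; omega
    · exact even_iff_two_dvd.2 (((dvd_pow_self 2 hk0.ne').trans (dvd_of_eq hk.symm)).trans (card_subgroup_dvd_card _))
  have hall : ∀ t : X ⧸ center X, orderOf t = 2 → IsMulCommutative (centralizer ({t} : Set (X ⧸ center X))) := by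
    intro t ht
    obtain ⟨T, hT⟩ := (isPGroup_zpowers (p := 2) (k := 1) (y := t)
      (by rw [pow_one, ← ht, pow_orderOf_eq_one])).exists_le_sylow
    obtain ⟨w, hw⟩ := MulAction.exists_smul_eq (X ⧸ center X) S' T
    have hmem := hT (mem_zpowers t)
    rw [← hw, Sylow.coe_subgroup_smul, Subgroup.mem_pointwise_smul_iff_inv_smul_mem] at hmem
    simp only [MulAut.smul_def, MulAut.inv_def, MulAut.conj_symm_apply] at hmem
    obtain ⟨x, hx, ex⟩ := hcoe.le hmem
    have hxc : x ∉ center X := fun e => by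
      have h1 : f x = 1 := (QuotientGroup.eq_one_iff x).2 e
      rw [h1] at ex
      have : t = 1 := by
        calc t = w * (w⁻¹ * t * w) * w⁻¹ := by group
          _ = 1 := by rw [← ex]; group
      rw [this, orderOf_one] at ht
      norm_num at ht
    refine comm_iff.1 fun a ha b hb => ?_
    rw [← commute_conj_iff (h := w⁻¹)]
    refine habel x hx hxc _ ?_ _ ?_ <;> rw [mem_cent, ex] <;>
      simpa [inv_inv] using (commute_conj_iff (h := w⁻¹)).2 (mem_cent.1 ‹_›)
  rcases Cfsg.Agent.S2202.result heven hall with hc | hn | ⟨F, iF, jF, A, iA, fA, hF2, -, ⟨e⟩⟩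
  · obtain ⟨⟨r, hr⟩, hgen⟩ := (hc S').exists_generator
    have hr2 : r * r = 1 := by
      obtain ⟨s, hs, rfl⟩ := hcoe.le hr
      rw [← map_mul]
      exact (QuotientGroup.eq_one_iff _).2 (hE s hs)
    have h2' := orderOf_eq_card_of_forall_mem_zpowers hgen
    have h2 := h2'.trans hS'e
    have h3 : orderOf (⟨r, hr⟩ : (S' : Subgroup (X ⧸ center X))) ≤ 2 :=
      Nat.le_of_dvd two_pos (orderOf_dvd_of_pow_eq_one (Subtype.ext (by rw [sq]; exact hr2)))
    omega
  · rcases (hn S').eq_bot_or_eq_top with e | e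
    · rw [← hS'e, e, card_bot] at hbig
      omega
    · exact h.quotient_not_comm fun a b => hcomm a (e ▸ mem_top a) b (e ▸ mem_top b)
  · haveI := fA
    set g := (MonoidHom.fst (Matrix.SpecialLinearGroup (Fin 2) F) A).comp e.toMonoidHom with hg
    have hginj : Function.Injective g := by
      rw [← MonoidHom.ker_eq_bot_iff]
      rcases (inferInstance : g.ker.Normal).eq_bot_or_eq_top with e' | e'
      · exact e'
      · exfalso
        refine h.quotient_not_comm fun a b => e.injective ?_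
        have h1 : ∀ c, (e c).1 = 1 := fun c => (e'.ge (mem_top c) : g c = 1)
        rw [map_mul, map_mul]
        exact Prod.ext (by simp [h1]) (mul_comm _ _)
    let e₂ : X ⧸ center X ≃* Matrix.SpecialLinearGroup (Fin 2) F :=
      MulEquiv.ofBijective g ⟨hginj, Prod.fst_surjective.comp e.surjective⟩
    have hcard : Nat.card (X ⧸ center X) = Fintype.card F * (Fintype.card F ^ 2 - 1) := by
      rw [Nat.card_congr e₂.toEquiv, Cfsg.Lib.Linear.Two.card_SL_two]
    obtain ⟨k, hk⟩ := IsPGroup.iff_card.1 S'.2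
    have h4 : Fintype.card F ≠ 4 := fun e4 => by
      have hd := card_subgroup_dvd_card (S' : Subgroup (X ⧸ center X))
      rw [hcard, e4, hk] at hd
      norm_num at hd
      rw [← hS'e, hk] at hbig
      have : 3 ≤ k := by
        by_contra hlt
        interval_cases k <;> norm_num at hbig
      have := (pow_dvd_pow 2 this).trans hd
      norm_num at this
    have h9 : Fintype.card F ≠ 9 := fun e9 => by
      have := FiniteField.even_card_of_char_two (F := F) ((ringChar.eq_iff).mpr hF2)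
      omega
    have hM := Cfsg.Lib.Schur.hasSchur_of_equiv e₂.symm (Cfsg.Agent.S2117.result (F := F) h4 h9)
    obtain ⟨π, hπ⟩ := hM.2 X f ⟨QuotientGroup.mk'_surjective _, (QuotientGroup.ker_mk' _).le,
      le_top.trans h.commutator_eq_top.ge⟩
    haveI : Subsingleton f.ker := hπ.subsingleton
    refine hS fun a ha b hb => ?_
    have hc := commutator_mem_of_squares hE ha hb
    have h1 : (⟨_, (QuotientGroup.ker_mk' (center X)).ge hc⟩ : f.ker) = 1 := Subsingleton.elim _ _
    have h2 : a * b * a⁻¹ * b⁻¹ = 1 := congrArg Subtype.val h1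
    rwa [mul_inv_eq_one, mul_inv_eq_iff_eq_mul] at h2

/-- The Sylow 2-subgroup has the required structure. -/
theorem QMin.exists_twoData (h : QMin X) (S : Sylow 2 X) (hS : ¬ Comm (S : Subgroup X)) :
    ∃ A, TwoData S A := by
  haveI : Fact (Nat.Prime 2) := ⟨Nat.prime_two⟩
  haveI hsimple := h.quasi.2
  set f := QuotientGroup.mk' (center X) with hf
  set S' := S.mapSurjective (QuotientGroup.mk'_surjective (center X)) with hS'
  have hcoe : (S' : Subgroup (X ⧸ center X)) = (S : Subgroup X).map f := rfl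
  obtain ⟨x, hxS, hxc, hx2, hxn⟩ : ∃ x ∈ (S : Subgroup X), x ∉ center X ∧ x * x ∈ center X ∧
      ∀ s ∈ (S : Subgroup X), s * x * s⁻¹ * x⁻¹ ∈ center X := by
    haveI : Nontrivial (S' : Subgroup (X ⧸ center X)) := by
      rw [nontrivial_iff_ne_bot, hcoe, Ne, Subgroup.map_eq_bot_iff, QuotientGroup.ker_mk']
      exact not_le_center_of_not_comm hS
    haveI := S'.2.center_nontrivial
    obtain ⟨⟨⟨c, hc⟩, hcc⟩, hc1⟩ := exists_ne (1 : center (S' : Subgroup (X ⧸ center X)))
    obtain ⟨s, hs, rfl⟩ := hcoe.le hc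
    have hsc : s ∉ center X := fun e =>
      hc1 (Subtype.ext (Subtype.ext ((QuotientGroup.eq_one_iff s).2 e)))
    obtain ⟨k, hk⟩ := sylow_two_pow S hs
    obtain ⟨j, h1, h2⟩ := exists_pow_mem (p := 2) (k := k) (by rw [hk]; exact one_mem _) hsc
    rw [sq] at h2
    refine ⟨_, pow_mem hs _, h1, h2, fun t ht => ?_⟩
    have hcomm : Commute (f t) (f s) :=
      congrArg Subtype.val (mem_center_iff.1 hcc ⟨f t, hcoe.ge ⟨t, ht, rfl⟩⟩)
    rw [← QuotientGroup.eq_one_iff]
    show f _ = 1
    rw [map_mul, map_mul, map_mul, map_inv, map_inv, map_pow, (hcomm.pow_right _).eq,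
      mul_inv_cancel_right, mul_inv_cancel]
  set A := (S : Subgroup X) ⊓ centralizer ({x} : Set X) with hA
  have memA : ∀ a, a ∈ A ↔ a ∈ (S : Subgroup X) ∧ Commute x a := fun a => by
    rw [hA, Subgroup.mem_inf, mem_cent]
  have hAc : Comm A := h.comm_cent_sylow S hS hxS hxc
  have hxA : x ∈ A := (memA x).2 ⟨hxS, Commute.refl x⟩
  have hzA : ∀ z ∈ (S : Subgroup X), z ∈ center X → z ∈ A := fun z hz hzc =>
    (memA z).2 ⟨hz, (mem_center_iff'.1 hzc x).symm⟩
  obtain ⟨g₀, hg₀, hg₀A⟩ : ∃ g ∈ (S : Subgroup X), g ∉ A := by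
    by_contra hc
    simp only [not_exists, not_and, not_not] at hc
    exact hS (hAc.mono hc)
  have hmulA : ∀ g a : X, g ∉ A → a ∈ A → g * a ∉ A := fun g a hg ha e =>
    hg (by simpa using A.mul_mem e (A.inv_mem ha))
  have hnc : ∀ g ∈ (S : Subgroup X), g ∉ A → ∀ a ∈ A, a ∉ center X → ¬ Commute g a := by
    intro g hg hgA a ha hac hga
    refine hgA ((memA g).2 ⟨hg, ?_⟩)
    exact h.comm_cent_sylow S hS ((memA a).1 ha).1 hac x
      (Subgroup.mem_inf.2 ⟨hxS, mem_cent.2 ((memA a).1 ha).2.symm⟩) g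
      (Subgroup.mem_inf.2 ⟨hg, mem_cent.2 hga.symm⟩)
  have hout : ∀ g ∈ (S : Subgroup X), g ∉ A → g * g ∈ center X := by
    intro g hg hgA
    set c := x⁻¹ * (g * x * g⁻¹) with hc
    have hcz : c ∈ center X := by
      have e : c = x⁻¹ * (g * x * g⁻¹ * x⁻¹) * x := by rw [hc]; group
      rw [e]
      exact (inferInstance : (center X).Normal).conj_mem' _ (hxn g hg) x
    have h1 : g * (x * x) * g⁻¹ = (x * x) * (c * c) := by
      calc g * (x * x) * g⁻¹ = (x * c) * (x * c) := by rw [hc]; group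
        _ = _ := by rw [(mem_center_iff'.1 hcz x).mul_mul_mul_comm]
    rw [mem_center_iff.1 hx2 g, mul_inv_cancel_right, left_eq_mul] at h1
    have h2 := conj_pow_eq (show g * x * g⁻¹ = x * c by rw [hc]; group) (mem_center_iff.1 hcz g) 2
    rw [sq c, h1, mul_one, mul_inv_eq_iff_eq_mul, sq] at h2
    by_contra hgg
    exact hnc g hg hgA _ ((memA _).2 ⟨mul_mem hg hg, h2.symm⟩) hgg ((Commute.refl g).mul_right (Commute.refl g))
  by_cases hsq : ∀ a ∈ A, a * a ∈ center X
  · have hE : ∀ s ∈ (S : Subgroup X), s * s ∈ center X := fun s hs => by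
      by_cases hsA : s ∈ A
      · exact hsq s hsA
      · exact hout s hs hsA
    have hsmall : Nat.card ((S : Subgroup X).map f) ≤ 4 := not_lt.1 fun hb => h.big_false hS hE hb
    have hg₀x : g₀ * x ∉ A := hmulA g₀ x hg₀A hxA
    have hne : ∀ u ∈ (S : Subgroup X), ∀ v ∈ (S : Subgroup X), u ∈ A → v ∉ A → f u ≠ f v := by
      intro u hu v hv huA hvA e
      have h1 := A.mul_mem huA (hzA _ (mul_mem (inv_mem hu) hv) ((QuotientGroup.eq (s := center X)).1 e))
      exact hvA (by simpa using h1)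
    have hfx : f x ≠ 1 := fun e => hxc ((QuotientGroup.eq_one_iff x).1 e)
    set T : Set (X ⧸ center X) := {1, f x, f g₀, f (g₀ * x)} with hT
    have hTle : T ⊆ (((S : Subgroup X).map f : Subgroup (X ⧸ center X)) : Set (X ⧸ center X)) := by
      rintro q (rfl | rfl | rfl | rfl)
      · exact one_mem _
      · exact ⟨x, hxS, rfl⟩
      · exact ⟨g₀, hg₀, rfl⟩
      · exact ⟨_, mul_mem hg₀ hxS, rfl⟩
    have h1 : f g₀ ≠ f (g₀ * x) := by rw [map_mul, Ne, left_eq_mul]; exact hfx
    have h2 : (1 : X ⧸ center X) ≠ f g₀ := fun e =>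
      hne 1 (one_mem _) g₀ hg₀ (one_mem A) hg₀A (by rw [map_one]; exact e)
    have h3 : (1 : X ⧸ center X) ≠ f (g₀ * x) := fun e =>
      hne 1 (one_mem _) _ (mul_mem hg₀ hxS) (one_mem A) hg₀x (by rw [map_one]; exact e)
    have hT4 : T.ncard = 4 := by
      rw [hT, Set.ncard_insert_of_notMem (by
          simp only [Set.mem_insert_iff, Set.mem_singleton_iff, not_or]
          exact ⟨hfx.symm, h2, h3⟩),
        Set.ncard_insert_of_notMem (by
          simp only [Set.mem_insert_iff, Set.mem_singleton_iff, not_or]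
          exact ⟨hne x hxS g₀ hg₀ hxA hg₀A, hne x hxS _ (mul_mem hg₀ hxS) hxA hg₀x⟩),
        Set.ncard_pair h1]
    have hTeq : T = (((S : Subgroup X).map f : Subgroup (X ⧸ center X)) : Set (X ⧸ center X)) :=
      Set.eq_of_subset_of_ncard_le hTle (by
        rw [hT4, ← Nat.card_coe_set_eq, SetLike.coe_sort_coe]; exact hsmall)
    have hdec : ∀ a ∈ A, f a = 1 ∨ f a = f x := by
      intro a ha
      have hm : f a ∈ T := hTeq.ge ⟨a, ((memA a).1 ha).1, rfl⟩
      rcases hm with e | e | e | e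
      · exact Or.inl e
      · exact Or.inr e
      · exact absurd e (hne a ((memA a).1 ha).1 g₀ hg₀ ha hg₀A)
      · exact absurd e (hne a ((memA a).1 ha).1 _ (mul_mem hg₀ hxS) ha hg₀x)
    refine ⟨A, ⟨inf_le_left, hAc, hzA, fun g hg hgA g' hg' hg'A => ?_, ⟨g₀, hg₀, hg₀A⟩,
      fun hle => hxc (hle hxA), hout, hnc, ?_⟩⟩
    · have coset : ∀ u ∈ (S : Subgroup X), u ∉ A → g₀⁻¹ * u ∈ A := by
        intro u hu huA
        have hm : f u ∈ T := hTeq.ge ⟨u, hu, rfl⟩
        rcases hm with e | e | e | e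
        · exact absurd (e.symm.trans rfl) (fun e' => hne 1 (one_mem _) u hu (one_mem A) huA (by rw [map_one]; exact e'))
        · exact absurd e.symm (hne x hxS u hu hxA huA)
        · exact hzA _ (mul_mem (inv_mem hg₀) hu) ((QuotientGroup.eq (s := center X)).1 e.symm)
        · have hz := hzA _ (mul_mem (inv_mem (mul_mem hg₀ hxS)) hu) ((QuotientGroup.eq (s := center X)).1 e.symm)
          rw [show g₀⁻¹ * u = x * ((g₀ * x)⁻¹ * u) by group]
          exact A.mul_mem hxA hz
      have ha := coset g hg hgA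
      have hb := coset g' hg' hg'A
      have hgA' : g₀ * (g₀⁻¹ * g) * g₀⁻¹ ∈ A := by
        have hS0 := ((memA _).1 ha)
        refine (memA _).2 ⟨mul_mem (mul_mem hg₀ hS0.1) (inv_mem hg₀), ?_⟩
        have hcz : x⁻¹ * (g₀⁻¹ * x * g₀) ∈ center X := by
          have e : x⁻¹ * (g₀⁻¹ * x * g₀) = x⁻¹ * (g₀⁻¹ * x * g₀⁻¹⁻¹ * x⁻¹) * x := by group
          rw [e]
          exact (inferInstance : (center X).Normal).conj_mem' _ (hxn _ (inv_mem hg₀)) x
        have ex : x = g₀ * (x * (x⁻¹ * (g₀⁻¹ * x * g₀))) * g₀⁻¹ := by group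
        rw [ex, commute_conj_iff]
        exact hS0.2.mul_left (mem_center_iff'.1 hcz _)
      rw [show g * g' = (g₀ * (g₀⁻¹ * g) * g₀⁻¹) * (g₀ * g₀) * (g₀⁻¹ * g') by group]
      exact A.mul_mem (A.mul_mem hgA' (hzA _ (mul_mem hg₀ hg₀) (hout g₀ hg₀ hg₀A))) hb
    · have hle : A.map f ≤ zpowers (f x) := by
        rintro _ ⟨a, ha, rfl⟩
        rcases hdec a ha with e | e <;> rw [e]
        · exact one_mem _
        · exact mem_zpowers _
      exact isCyclic_of_le hle
  -- some square is not central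
  have hinv : ∀ g ∈ (S : Subgroup X), g ∉ A → ∀ a ∈ A, f g * f a * (f g)⁻¹ = (f a)⁻¹ := by
    intro g hg hgA a ha
    have h1 : f (g * a * (g * a)) = 1 :=
      (QuotientGroup.eq_one_iff _).2 (hout _ (mul_mem hg ((memA a).1 ha).1) (hmulA g a hgA ha))
    have h2 : f g * f g = 1 := by
      rw [← map_mul]; exact (QuotientGroup.eq_one_iff _).2 (hout g hg hgA)
    simp only [map_mul] at h1
    rw [inv_eq_of_mul_eq_one_right h2]
    refine eq_inv_of_mul_eq_one_left ?_
    simpa only [mul_assoc] using h1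
  have hidx : ∀ g ∈ (S : Subgroup X), g ∉ A → ∀ g' ∈ (S : Subgroup X), g' ∉ A → g * g' ∈ A := by
    intro g hg hgA g' hg' hg'A
    by_contra hgg
    refine hsq fun a ha => (QuotientGroup.eq_one_iff _).1 ?_
    show f (a * a) = 1
    have h1 := hinv g hg hgA a ha
    have h2 := hinv g' hg' hg'A a ha
    have h3 := hinv _ (mul_mem hg hg') hgg a ha
    rw [map_mul, show f g * f g' * f a * (f g * f g')⁻¹ = f g * (f g' * f a * (f g')⁻¹) * (f g)⁻¹ by group,
      h2, ← conj_inv, h1, inv_inv] at h3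
    rw [map_mul, ← eq_inv_iff_mul_eq_one]
    exact h3
  refine ⟨A, ⟨inf_le_left, hAc, hzA, hidx, ⟨g₀, hg₀, hg₀A⟩, fun hle => hxc (hle hxA), hout, hnc, ?_⟩⟩
  -- cyclicity
  by_contra hcyc
  set B := A.map f with hB
  have hB2 : IsPGroup 2 B := (S.2.to_le inf_le_left).map f
  have hBc : Comm B := by
    rintro _ ⟨a, ha, rfl⟩ _ ⟨b, hb, rfl⟩
    exact (hAc a ha b hb).map f
  obtain ⟨w₁, hw₁, h1a, h1b, w₂, hw₂, h2a, h2b, hne⟩ : ∃ w₁ ∈ B, w₁ * w₁ = 1 ∧ w₁ ≠ 1 ∧
      ∃ w₂ ∈ B, w₂ * w₂ = 1 ∧ w₂ ≠ 1 ∧ w₁ ≠ w₂ := by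
    by_contra hc
    simp only [not_exists, not_and, not_not] at hc
    exact hcyc (isCyclic_of_unique hB2 hBc fun u hu v hv hu1 hu2 hv1 hv2 => hc u hu hu1 hu2 v hv hv1 hv2)
  set u := f g₀ with hu
  have huS : u ∈ (S' : Subgroup (X ⧸ center X)) := hcoe.ge ⟨g₀, hg₀, rfl⟩
  have hBS : B ≤ (S' : Subgroup (X ⧸ center X)) := hcoe ▸ map_mono inf_le_left
  have hmem : ∀ s ∈ (S : Subgroup X), f s ∈ B → s ∈ A := by
    rintro s hs ⟨a, ha, e⟩
    simpa using A.mul_mem ha (hzA _ (mul_mem (inv_mem ((memA a).1 ha).1) hs) ((QuotientGroup.eq (s := center X)).1 e))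
  have huB : u ∉ B := fun e => hg₀A (hmem g₀ hg₀ e)
  have hrel : B.relIndex (S' : Subgroup (X ⧸ center X)) = 2 := by
    refine relIndex_eq_two_iff.2 ⟨u, huS, fun b hb => ?_⟩
    obtain ⟨b', hb', rfl⟩ := hcoe.le hb
    by_cases hbA : b' ∈ A
    · exact Or.inr ⟨⟨b', hbA, rfl⟩, fun e => huB (by simpa using B.mul_mem (B.inv_mem ⟨b', hbA, rfl⟩) e)⟩
    · exact Or.inl ⟨⟨_, hidx b' hb' hbA g₀ hg₀ hg₀A, by rw [map_mul]⟩, fun e => hbA (hmem b' hb' e)⟩
  have hu2 : orderOf u = 2 := by
    refine orderOf_eq_prime ?_ fun e => huB (e ▸ one_mem B)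
    rw [sq, hu, ← map_mul]
    exact (QuotientGroup.eq_one_iff _).2 (hout g₀ hg₀ hg₀A)
  rcases Cfsg.Agent.S0111.result S' B hBS hrel u hu2 huS huB with ⟨M, hMn, hM2, -⟩ | ⟨q, hq⟩
  · rcases hMn.eq_bot_or_eq_top with e | e
    · rw [e, index_bot] at hM2
      refine h.quotient_not_comm fun a b => ?_
      haveI := (isCyclic_of_prime_card (p := 2) hM2).isMulCommutative
      exact mul_comm' a b
    · rw [e, index_top] at hM2
      norm_num at hM2
  set ω := q * u * q⁻¹ with hω
  have hω2 : ω * ω = 1 := by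
    rw [hω, show q * u * q⁻¹ * (q * u * q⁻¹) = q * (u * u) * q⁻¹ by group, ← sq u, ← hu2,
      pow_orderOf_eq_one]
    group
  have hcen : ∀ s ∈ (S' : Subgroup (X ⧸ center X)), Commute ω s := by
    intro s hs
    obtain ⟨a, ha, ea⟩ := hq
    obtain ⟨s', hs', rfl⟩ := hcoe.le hs
    by_cases hsA : s' ∈ A
    · rw [← ea]; exact (hAc a ha s' hsA).map f
    · have h1 := hinv s' hs' hsA a ha
      rw [ea, inv_eq_of_mul_eq_one_right hω2, mul_inv_eq_iff_eq_mul] at h1
      exact h1.symm
  have hgen : ∀ w ∈ B, w * w = 1 → Commute u w := by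
    intro w hw hw2
    obtain ⟨a, ha, rfl⟩ := hw
    have h1 := hinv g₀ hg₀ hg₀A a ha
    rw [inv_eq_of_mul_eq_one_right hw2, mul_inv_eq_iff_eq_mul] at h1
    exact h1
  set C := centralizer ({ω} : Set (X ⧸ center X)) with hC
  have hSC : (S' : Subgroup (X ⧸ center X)) ≤ C := fun s hs => mem_cent.2 (hcen s hs)
  set E := ((S' : Subgroup (X ⧸ center X)) ⊓ centralizer ({u} : Set (X ⧸ center X))).map
    (MulAut.conj q).toMonoidHom with hE
  have hEC : E ≤ C := by
    rintro _ ⟨c, hc, rfl⟩
    exact mem_cent.2 (commute_conj_iff.2 (mem_cent.1 (Subgroup.mem_inf.1 hc).2))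
  obtain ⟨T, hT⟩ := (((S'.2.to_le inf_le_left).map (MulAut.conj q).toMonoidHom).comap_subtype
    (K := C) : IsPGroup 2 (E.subgroupOf C)).exists_le_sylow
  obtain ⟨c, rfl⟩ := MulAction.exists_smul_eq C (S'.subtype hSC) T
  set r := (c : X ⧸ center X)⁻¹ * q with hr
  have hmove : ∀ e ∈ (S' : Subgroup (X ⧸ center X)), Commute u e → r * e * r⁻¹ ∈ (S' : Subgroup (X ⧸ center X)) := by
    intro e he hue
    have hqe : q * e * q⁻¹ ∈ E := ⟨e, Subgroup.mem_inf.2 ⟨he, mem_cent.2 hue⟩, rfl⟩
    have := hT (show (⟨q * e * q⁻¹, hEC hqe⟩ : C) ∈ E.subgroupOf C from mem_subgroupOf.2 hqe)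
    rw [Sylow.coe_subgroup_smul, Subgroup.mem_pointwise_smul_iff_inv_smul_mem] at this
    simp only [MulAut.smul_def, MulAut.inv_def, MulAut.conj_symm_apply, Sylow.coe_subtype,
      mem_subgroupOf, Subgroup.coe_mul, Subgroup.coe_inv] at this
    rwa [show (c : X ⧸ center X)⁻¹ * (q * e * q⁻¹) * c = r * e * r⁻¹ by rw [hr]; group] at this
  have hru : r * u * r⁻¹ = ω := by
    have hc : Commute ω (c : X ⧸ center X) := mem_cent.1 c.2
    rw [hr, show (c : X ⧸ center X)⁻¹ * q * u * ((c : X ⧸ center X)⁻¹ * q)⁻¹ =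
      (c : X ⧸ center X)⁻¹ * ω * c by rw [hω]; group, Commute.inv_mul_cancel hc.symm]
  obtain ⟨w, hwB, hw2, hw1, hwr⟩ : ∃ w ∈ B, w * w = 1 ∧ w ≠ 1 ∧ r * w * r⁻¹ ∈ B := by
    by_contra hc
    simp only [not_exists, not_and] at hc
    have h12 : Commute w₁ w₂ := hBc w₁ hw₁ w₂ hw₂
    have a1 := hc w₁ hw₁ h1a h1b
    have a2 := hc w₂ hw₂ h2a h2b
    refine hc (w₁ * w₂) (B.mul_mem hw₁ hw₂) (by rw [h12.symm.mul_mul_mul_comm, h1a, h2a, one_mul])
      (fun e => hne ?_) ?_
    · rw [eq_inv_of_mul_eq_one_left e]; exact inv_eq_of_mul_eq_one_right h2a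
    · obtain ⟨b₁, hb₁, eb₁⟩ := hcoe.le (hmove w₁ (hBS hw₁) (hgen w₁ hw₁ h1a))
      obtain ⟨b₂, hb₂, eb₂⟩ := hcoe.le (hmove w₂ (hBS hw₂) (hgen w₂ hw₂ h2a))
      refine ⟨b₁ * b₂, hidx b₁ hb₁ (fun e => a1 ⟨b₁, e, eb₁⟩) b₂ hb₂ (fun e => a2 ⟨b₂, e, eb₂⟩), ?_⟩
      rw [map_mul, eb₁, eb₂]; group
  obtain ⟨a, ha, rfl⟩ := hwB
  obtain ⟨r', hr'⟩ := QuotientGroup.mk'_surjective (center X) r
  obtain ⟨au, hau, eau⟩ := hq
  obtain ⟨aw, haw, eaw⟩ := hwr
  have lift : ∀ y z : X, f y = f z → y⁻¹ * z ∈ center X := fun y z e => (QuotientGroup.eq (s := center X)).1 e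
  have z1 := lift au (r' * g₀ * r'⁻¹) (by rw [eau, ← hru, map_mul, map_mul, map_inv, hr', hu])
  have z2 := lift aw (r' * a * r'⁻¹) (by rw [eaw, map_mul, map_mul, map_inv, hr'])
  have hcomm : Commute (r' * g₀ * r'⁻¹) (r' * a * r'⁻¹) := by
    rw [show r' * g₀ * r'⁻¹ = au * (au⁻¹ * (r' * g₀ * r'⁻¹)) by group,
      show r' * a * r'⁻¹ = aw * (aw⁻¹ * (r' * a * r'⁻¹)) by group]
    exact ((hAc au hau aw haw).mul_right (mem_center_iff'.1 z2 au).symm).mul_left (mem_center_iff'.1 z1 _)
  exact hnc g₀ hg₀ hg₀A a ha (fun e => hw1 ((QuotientGroup.eq_one_iff a).2 e)) (commute_conj_iff.1 hcomm)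

end Cfsg.Lib.MinNonCA
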