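import Cfsg.Agent.Lib.MinNonCA.Component
import Cfsg.Agent.Lib.ZStar.Main
import Cfsg.Agent.Lib.Fusion.Alperin

/-!
# Quasisimple groups with CA proper subgroups: non-abelian Sylow 2-subgroups
-/

set_option autoImplicit false
set_option linter.style.haveILetI false

namespace Cfsg.Lib.MinNonCA

open Subgroup

/-- A quasisimple group all of whose proper subgroups are CA. -/
structure QMin (X : Type*) [Group X] : Prop where
  quasi : Cfsg.IsQuasisimple X
  proper : ProperCA X

variable {X : Type*} [Group X]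

theorem QMin.commutator_eq_top (h : QMin X) : commutator X = ⊤ :=
  Cfsg.Lib.Core.quasisimple_commutator h.quasi

theorem QMin.not_solvable (h : QMin X) : ¬ Group.IsSolvable X :=
  Cfsg.Lib.Core.quasisimple_not_solvable h.quasi

theorem QMin.normal_le_center (h : QMin X) {N : Subgroup X} [N.Normal] (hN : N ≠ ⊤) : N ≤ center X :=
  (Cfsg.Lib.Core.quasisimple_normal h.quasi).resolve_right hN

theorem QMin.ne_top_of_comm (h : QMin X) {N : Subgroup X} (hN : Comm N) : N ≠ ⊤ := fun e =>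
  h.not_solvable (isSolvable_of_eq_top hN.isSolvable e)

theorem QMin.ne_top_of_solvable (h : QMin X) {N : Subgroup X} (hN : Group.IsSolvable N) : N ≠ ⊤ :=
  fun e => h.not_solvable (isSolvable_of_eq_top hN e)

theorem QMin.normalizer_ne_top (h : QMin X) {D : Subgroup X} (hD : D ≠ ⊤) (hDc : ¬ D ≤ center X) :
    normalizer (D : Set X) ≠ ⊤ := fun e => by
  haveI := normalizer_eq_top_iff.1 e
  exact hDc (h.normal_le_center hD)

theorem not_le_center_of_not_comm {D : Subgroup X} (hD : ¬ Comm D) : ¬ D ≤ center X :=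
  fun hle => hD fun a _ b hb => mem_center_iff.1 (hle hb) a

theorem QMin.normalizer_cent (h : QMin X) {g : X} (hg : g ∉ center X)
    (hM : ¬ Comm (centralizer ({g} : Set X))) :
    normalizer ((centralizer ({g} : Set X) : Subgroup X) : Set X) ≤ centralizer ({g} : Set X) :=
  h.proper.le_cent hM (h.normalizer_ne_top (cent_ne_top hg) (not_le_center_of_not_comm hM))
    le_normalizer

theorem mem_normalizer_cent {g h : X} (hc : h * g * h⁻¹ * g⁻¹ ∈ center X) :
    h ∈ normalizer ((centralizer ({g} : Set X) : Subgroup X) : Set X) := by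
  have e : h * g * h⁻¹ = (h * g * h⁻¹ * g⁻¹) * g := by group
  rw [mem_normalizer_iff]
  intro a
  rw [mem_cent, mem_cent, ← commute_conj_iff (h := h) (a := g) (b := a), e]
  have hz : Commute (h * g * h⁻¹ * g⁻¹) (h * a * h⁻¹) := (mem_center_iff'.1 hc _)
  refine ⟨fun hh => ?_, fun hh => hz.mul_left hh⟩
  have h2 := hz.inv_left.mul_left hh
  rwa [inv_mul_cancel_left] at h2

theorem isPGroup_zpowers {p : ℕ} {y : X} {k : ℕ} (hy : y ^ p ^ k = 1) : IsPGroup p (zpowers y) := by
  rintro ⟨_, i, rfl⟩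
  exact ⟨k, Subtype.ext (by
    rw [SubmonoidClass.coe_pow, ← zpow_natCast, ← zpow_mul, mul_comm, zpow_mul, zpow_natCast, hy,
      one_zpow, OneMemClass.coe_one])⟩

theorem le_sylow_of_le_normalizer {p : ℕ} (S : Sylow p X) {T : Subgroup X} (hT : IsPGroup p T)
    (hn : (S : Subgroup X) ≤ normalizer (T : Set X)) : T ≤ S := by
  have hp : IsPGroup p ((S : Subgroup X) ⊔ T : Subgroup X) := S.2.to_sup_of_normal_right' hT hn
  exact le_sup_right.trans (S.3 hp le_sup_left).le

theorem mem_sylow_of_commute {p : ℕ} (S : Sylow p X) {z : X} {k : ℕ} (hz : z ^ p ^ k = 1)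
    (hc : ∀ s ∈ (S : Subgroup X), Commute z s) : z ∈ (S : Subgroup X) := by
  refine le_sylow_of_le_normalizer S (isPGroup_zpowers hz) ?_ (mem_zpowers z)
  refine le_trans (fun s hs => mem_centralizer_iff.2 ?_) (centralizer_le_normalizer _)
  rintro _ ⟨i, rfl⟩
  exact ((hc s hs).zpow_left i).eq

theorem sylow_two_pow {p : ℕ} (S : Sylow p X) {a : X} (ha : a ∈ (S : Subgroup X)) :
    ∃ k : ℕ, a ^ p ^ k = 1 :=
  (S.2 ⟨a, ha⟩).imp fun _ hk => congrArg Subtype.val hk

theorem isCyclic_of_le {A : Subgroup X} {r : X} (h : A ≤ zpowers r) : IsCyclic A :=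
  isCyclic_of_injective (inclusion h) (inclusion_injective h)

variable [Finite X]

theorem not_comm_sylow_conj {p : ℕ} [Fact p.Prime] (S P : Sylow p X) (hS : ¬ Comm (S : Subgroup X)) :
    ¬ Comm (P : Subgroup X) := by
  intro hP
  refine hS fun a ha b hb => ?_
  let e := S.equiv P
  have hc : Commute (e ⟨a, ha⟩) (e ⟨b, hb⟩) := Subtype.ext (hP _ (e ⟨a, ha⟩).2 _ (e ⟨b, hb⟩).2)
  exact congrArg Subtype.val (hc.of_map e.injective)

/-- The centre of a non-abelian Sylow 2-subgroup is central. -/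
theorem QMin.center_sylow_le (h : QMin X) (S : Sylow 2 X) (hS : ¬ Comm (S : Subgroup X)) {z : X}
    (hzS : z ∈ (S : Subgroup X)) (hz : ∀ s ∈ (S : Subgroup X), Commute z s) : z ∈ center X := by
  haveI : Fact (Nat.Prime 2) := ⟨Nat.prime_two⟩
  by_contra hzc
  obtain ⟨k, hk⟩ := sylow_two_pow S hzS
  obtain ⟨j, hjc, hj2⟩ := exists_pow_mem (p := 2) (k := k) (by rw [hk]; exact one_mem _) hzc
  set u := z ^ 2 ^ j with hu
  have huS : u ∈ (S : Subgroup X) := pow_mem hzS _
  have huk : u ^ 2 ^ k = 1 := by rw [hu, ← pow_mul, mul_comm, pow_mul, hk, one_pow]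
  have huc : ∀ s ∈ (S : Subgroup X), Commute u s := fun s hs => (hz s hs).pow_left _
  set M := centralizer ({u} : Set X) with hM
  have hSM : (S : Subgroup X) ≤ M := fun s hs => mem_cent.2 (huc s hs)
  have hMc : ¬ Comm M := fun hc => hS (hc.mono hSM)
  have hNM := h.normalizer_cent hjc hMc
  have key : ∀ g : X, u * (g * u * g⁻¹) * u⁻¹ * (g * u * g⁻¹)⁻¹ ∈ center X → g * u * g⁻¹ = u := by
    intro g hg
    set w := g * u * g⁻¹ with hw
    have hwc : w ∉ center X := fun e => hjc <| by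
      have := (inferInstance : (center X).Normal).conj_mem' _ e g
      rwa [hw, show g⁻¹ * (g * u * g⁻¹) * g = u by group] at this
    have hwk : w ^ 2 ^ k = 1 := by rw [hw, conj_pow, huk, mul_one, mul_inv_cancel]
    have hwM : w ∈ M := hNM (mem_normalizer_cent (by
      rw [show w * u * w⁻¹ * u⁻¹ = (u * w * u⁻¹ * w⁻¹)⁻¹ by group]
      exact inv_mem hg))
    have huw : Commute u w := mem_cent.1 hwM
    have hSg : (g • S : Sylow 2 X).toSubgroup ≤ centralizer ({w} : Set X) := by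
      intro x hx
      rw [Sylow.coe_subgroup_smul, Subgroup.mem_pointwise_smul_iff_inv_smul_mem] at hx
      simp only [MulAut.smul_def, MulAut.inv_def, MulAut.conj_symm_apply] at hx
      rw [mem_cent, hw, show x = g * (g⁻¹ * x * g) * g⁻¹ by group, commute_conj_iff]
      exact huc _ hx
    have hwc' : ¬ Comm (centralizer ({w} : Set X)) := fun hc =>
      not_comm_sylow_conj S (g • S) hS (hc.mono hSg)
    by_cases hall : ∀ m ∈ M, Commute w m
    · have e1 : centralizer ({w} : Set X) = M :=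
        h.proper.cent_eq hMc (cent_ne_top hwc) fun m hm => mem_cent.2 (hall m hm)
      have hgM : g ∈ M := hNM (mem_normalizer_iff.2 fun a => by
        rw [show g * a * g⁻¹ ∈ (M : Subgroup X) ↔ g * a * g⁻¹ ∈ centralizer ({w} : Set X) from by rw [e1],
          mem_cent, mem_cent, hw, commute_conj_iff])
      rw [hw, (mem_cent.1 hgM).symm.eq, mul_inv_cancel_right]
    exfalso
    set D := M ⊓ centralizer ({w} : Set X) with hD
    have hDc : Comm D := fun a ha b hb => by
      obtain ⟨m, hm⟩ := not_forall.1 hall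
      obtain ⟨hm1, hm2⟩ := Classical.not_imp.1 hm
      have hCA := h.proper M (cent_ne_top hjc)
      refine (hCA.commute (x := (⟨w, hwM⟩ : M)) (a := ⟨a, ha.1⟩) (b := ⟨b, hb.1⟩)
        (Subtype.ext (mem_cent.1 ha.2)) (Subtype.ext (mem_cent.1 hb.2)) fun hc => hm2 ?_).map M.subtype
      exact congrArg Subtype.val (mem_center_iff'.1 hc ⟨m, hm1⟩)
    let T : Subgroup X :=
      { carrier := {c | c ∈ D ∧ ∃ k : ℕ, c ^ 2 ^ k = 1}
        one_mem' := ⟨one_mem _, 0, by simp⟩
        mul_mem' := fun {a b} ⟨ha, ⟨i, hi⟩⟩ ⟨hb, ⟨j, hj⟩⟩ => ⟨mul_mem ha hb, i + j, by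
          rw [(hDc a ha b hb).mul_pow, pow_add, pow_mul, hi, one_pow, one_mul, mul_comm (2 ^ i) (2 ^ j),
            pow_mul, hj, one_pow]⟩
        inv_mem' := fun {a} ⟨ha, i, hi⟩ => ⟨inv_mem ha, i, by rw [inv_pow, hi, inv_one]⟩ }
    have hT2 : IsPGroup 2 T := fun ⟨t, _, i, hi⟩ => ⟨i, Subtype.ext hi⟩
    have hTD : T ≤ D := fun t ht => ht.1
    have hTc : Comm T := hDc.mono hTD
    have huT : u ∈ T := ⟨Subgroup.mem_inf.2 ⟨self_mem_cent u, mem_cent.2 huw.symm⟩, k, huk⟩
    have hwT : w ∈ T := ⟨Subgroup.mem_inf.2 ⟨hwM, self_mem_cent w⟩, k, hwk⟩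
    obtain ⟨SM, hSMle⟩ := (hT2.comap_subtype (K := M)).exists_le_sylow
    set S' := (SM : Subgroup M).map M.subtype with hS'
    have hTS' : T ≤ S' := fun t ht =>
      ⟨⟨t, (Subgroup.mem_inf.1 (hTD ht)).1⟩, hSMle ht, rfl⟩
    have hS'c : ¬ Comm S' := by
      intro hc
      refine not_comm_sylow_conj (S.subtype hSM) SM (fun hc' => hS fun a ha b hb => ?_)
        (fun a ha b hb => (hc _ ⟨a, ha, rfl⟩ _ ⟨b, hb, rfl⟩).of_map M.subtype_injective)
      exact (hc' ⟨a, hSM ha⟩ (mem_subgroupOf.2 ha) ⟨b, hSM hb⟩ (mem_subgroupOf.2 hb)).map M.subtype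
    have hS'p : IsPGroup 2 S' := SM.2.map _
    have grow : ∀ P : Subgroup X, IsPGroup 2 P → T ≤ P → ¬ Comm P →
        ∃ b ∈ P, b ∈ normalizer (T : Set X) ∧ b ∉ T := by
      intro P hP hTP hPc
      have hlt : T < P := lt_of_le_of_ne hTP fun e => hPc (e ▸ hTc)
      have h1 := Cfsg.Lib.Fusion.lt_inf_normalizer hP hlt
      obtain ⟨b, hb, hbT⟩ := SetLike.exists_of_lt h1
      exact ⟨b, (Subgroup.mem_inf.1 hb).1, (Subgroup.mem_inf.1 hb).2, hbT⟩
    obtain ⟨b, hbS', hbN, hbT⟩ := grow S' hS'p hTS' hS'c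
    have hTnc : ¬ T ≤ center X := fun hle => hjc (hle huT)
    have hNT : normalizer (T : Set X) ≠ ⊤ := h.normalizer_ne_top (h.ne_top_of_comm hTc) hTnc
    have hwb : ¬ Commute w b := by
      intro e
      obtain ⟨i, hi⟩ := hS'p ⟨b, hbS'⟩
      exact hbT ⟨Subgroup.mem_inf.2 ⟨map_subtype_le _ hbS', mem_cent.2 e⟩, i, congrArg Subtype.val hi⟩
    have hun := h.proper.central hNT (le_normalizer huT) (le_normalizer hwT) hbN huw
      (mem_cent.1 (map_subtype_le _ hbS')) hwb
    obtain ⟨P, hP⟩ := (hT2.comap_subtype (K := centralizer ({w} : Set X))).exists_le_sylow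
    have hPc : ¬ Comm ((P : Subgroup (centralizer ({w} : Set X))).map (centralizer ({w} : Set X)).subtype) := by
      intro hc
      refine not_comm_sylow_conj ((g • S).subtype hSg) P
        (fun hc' => not_comm_sylow_conj S (g • S) hS fun a ha b hb => ?_)
        (fun a ha b hb => (hc _ ⟨a, ha, rfl⟩ _ ⟨b, hb, rfl⟩).of_map (centralizer ({w} : Set X)).subtype_injective)
      exact (hc' ⟨a, hSg ha⟩ (mem_subgroupOf.2 ha) ⟨b, hSg hb⟩ (mem_subgroupOf.2 hb)).map
        (centralizer ({w} : Set X)).subtype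
    obtain ⟨c, hcP, hcN, hcT⟩ := grow _ (P.2.map _)
      (fun t ht => ⟨⟨t, (Subgroup.mem_inf.1 (hTD ht)).2⟩, hP ht, rfl⟩) hPc
    obtain ⟨i, hi⟩ := (P.2.map (centralizer ({w} : Set X)).subtype) ⟨c, hcP⟩
    exact hcT ⟨Subgroup.mem_inf.2 ⟨mem_cent.2 (hun c hcN), map_subtype_le _ hcP⟩, i,
      congrArg Subtype.val hi⟩
  haveI hsimple := h.quasi.2
  set f := QuotientGroup.mk' (center X) with hf
  have hfu2 : orderOf (f u) = 2 := by
    refine orderOf_eq_prime ?_ fun e => hjc ((QuotientGroup.eq_one_iff u).1 e)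
    rw [← map_pow]
    exact (QuotientGroup.eq_one_iff _).2 hj2
  have hiso : Cfsg.IsIsolatedInvolution (f u) := by
    refine ⟨hfu2, fun q hq => ?_⟩
    obtain ⟨g, rfl⟩ := QuotientGroup.mk'_surjective _ q
    rw [← map_inv, ← map_mul, ← map_mul] at hq ⊢
    refine congrArg f (key g ((QuotientGroup.eq_one_iff _).1 ?_))
    show f _ = 1
    rw [map_mul, map_mul, map_mul, map_inv, map_inv, hq.eq, mul_inv_cancel_right, mul_inv_cancel]
  have hnc : ¬ ∀ a b : X ⧸ center X, a * b = b * a := by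
    intro hc
    haveI : Group.IsSolvable (X ⧸ center X) := Group.isSolvable_of_comm hc
    haveI : Group.IsSolvable (center X) := Comm.isSolvable fun a _ b hb => mem_center_iff.1 hb a
    exact h.not_solvable ((Group.isSolvable_iff_subgroup_quotient (center X)).2
      ⟨inferInstance, inferInstance⟩)
  have hO : Cfsg.oddCore (X ⧸ center X) = ⊥ := by
    rcases (inferInstance : (Cfsg.oddCore (X ⧸ center X)).Normal).eq_bot_or_eq_top with e | e
    · exact e
    · exfalso
      have hodd := Cfsg.Lib.ZStar.odd_card_oddCore (G := X ⧸ center X)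
      rw [e, card_top, ← Nat.not_even_iff_odd, even_iff_two_dvd] at hodd
      exact hodd (hfu2 ▸ orderOf_dvd_natCard (f u))
  have hc := Cfsg.Lib.ZStar.mem_center_of_isolated hO hiso
  rcases (inferInstance : (center (X ⧸ center X)).Normal).eq_bot_or_eq_top with e | e
  · rw [e, Subgroup.mem_bot] at hc
    rw [hc, orderOf_one] at hfu2
    norm_num at hfu2
  · exact hnc fun a b => (mem_center_iff.1 (e ▸ mem_top b : b ∈ center (X ⧸ center X)) a)

/-- Non-central elements of a non-abelian Sylow 2-subgroup have abelian centraliser in it. -/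
theorem QMin.comm_cent_sylow (h : QMin X) (S : Sylow 2 X) (hS : ¬ Comm (S : Subgroup X)) {x : X}
    (hxS : x ∈ (S : Subgroup X)) (hx : x ∉ center X) :
    Comm ((S : Subgroup X) ⊓ centralizer ({x} : Set X)) := by
  haveI : Fact (Nat.Prime 2) := ⟨Nat.prime_two⟩
  by_contra hc
  set M := centralizer ({x} : Set X) with hM
  obtain ⟨SM, hSM⟩ := (S.2.comap_subtype (K := M)).exists_le_sylow
  set D := (SM : Subgroup M).map M.subtype with hD
  have hle : (S : Subgroup X) ⊓ M ≤ D := fun a ha =>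
    ⟨⟨a, (Subgroup.mem_inf.1 ha).2⟩, hSM (Subgroup.mem_inf.1 ha).1, rfl⟩
  have hDc : ¬ Comm D := fun hc' => hc (hc'.mono hle)
  have hDM : D ≤ M := map_subtype_le _
  have hD2 : IsPGroup 2 D := SM.2.map _
  have hxc : ∀ a ∈ D, Commute x a := fun a ha => mem_cent.1 (hDM ha)
  have hDne : D ≠ ⊤ := h.ne_top_of_solvable (by haveI := hD2.isNilpotent; infer_instance)
  have hxD : x ∈ D := hle (Subgroup.mem_inf.2 ⟨hxS, self_mem_cent x⟩)
  have hcen := h.proper.central_of_not_comm (h.normalizer_ne_top hDne (not_le_center_of_not_comm hDc))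
    (le_normalizer hxD) le_normalizer hDc hxc
  obtain ⟨P, hP⟩ := hD2.exists_le_sylow
  have hDP : D = (P : Subgroup X) := by
    by_contra hne
    obtain ⟨b, hb, hbD⟩ := SetLike.exists_of_lt
      (Cfsg.Lib.Fusion.lt_inf_normalizer P.2 (lt_of_le_of_ne hP hne))
    obtain ⟨hbP, hbN⟩ := Subgroup.mem_inf.1 hb
    have hle' : (SM : Subgroup M) ≤ (P : Subgroup X).subgroupOf M := fun a ha =>
      hP ⟨a, ha, rfl⟩
    have he := SM.3 (P.2.comap_subtype (K := M)) hle'
    exact hbD ⟨⟨b, mem_cent.2 (hcen b hbN)⟩, he.le hbP, rfl⟩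
  exact hx (h.center_sylow_le P (not_comm_sylow_conj S P hS) (hP hxD) fun s hs => hxc s (hDP ▸ hs))

/-- An abelian 2-group with at most one involution is cyclic. -/
theorem isCyclic_of_unique {Y : Type*} [Group Y] [Finite Y] {P : Subgroup Y} (hP : IsPGroup 2 P)
    (hc : Comm P) (hu : ∀ a ∈ P, ∀ b ∈ P, a * a = 1 → a ≠ 1 → b * b = 1 → b ≠ 1 → a = b) :
    IsCyclic P := by
  haveI : Fact (Nat.Prime 2) := ⟨Nat.prime_two⟩
  haveI : IsMulCommutative P := comm_iff.1 hc
  have key : ∀ H : Subgroup P, Nat.card H = 2 → ∀ K : Subgroup P, Nat.card K = 2 → H ≤ K := by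
    intro H hH K hK x hx
    rcases eq_or_ne x 1 with rfl | hx1
    · exact one_mem K
    obtain ⟨y, hy⟩ := exists_prime_orderOf_dvd_card' (G := K) 2 (dvd_of_eq hK.symm)
    have hx2 : (x : Y) * x = 1 := by
      have h0 := pow_card_eq_one' (x := (⟨x, hx⟩ : H))
      rw [hH, sq] at h0
      exact congrArg (fun t : H => ((t : P) : Y)) h0
    have hy2 : ((y : P) : Y) * (y : P) = 1 := by
      have h0 := pow_orderOf_eq_one y
      rw [hy, sq] at h0
      exact congrArg (fun t : K => ((t : P) : Y)) h0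
    have hy1 : ((y : P) : Y) ≠ 1 := fun e => by
      rw [OneMemClass.coe_eq_one, OneMemClass.coe_eq_one] at e
      rw [e, orderOf_one] at hy
      norm_num at hy
    rw [show x = (y : P) from Subtype.ext (hu _ x.2 _ (y : P).2 hx2
      (fun e => hx1 (Subtype.ext e)) hy2 hy1)]
    exact y.2
  rcases Cfsg.Agent.S0016.result 2 hP (fun H K hH hK => le_antisymm (key H hH K hK) (key K hK H hH)) with
    hcyc | ⟨-, n, ⟨e⟩⟩
  · exact hcyc
  rcases Nat.eq_zero_or_pos n with rfl | hn
  · haveI : IsCyclic (QuaternionGroup (2 ^ 0)) := QuaternionGroup.quaternionGroup_one_isCyclic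
    exact isCyclic_of_surjective e.symm e.symm.surjective
  · exfalso
    have h2 : QuaternionGroup.a (n := 2 ^ n) 1 * QuaternionGroup.xa 0 = QuaternionGroup.xa 0 * QuaternionGroup.a 1 := by
      obtain ⟨a, ha⟩ := e.surjective (QuaternionGroup.a 1)
      obtain ⟨b, hb⟩ := e.surjective (QuaternionGroup.xa 0)
      rw [← ha, ← hb, ← map_mul, ← map_mul, mul_comm' a b]
    simp only [QuaternionGroup.a_mul_xa, QuaternionGroup.xa_mul_a, QuaternionGroup.xa.injEq,
      zero_sub, zero_add] at h2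
    have h3 : ((2 : ℕ) : ZMod (2 * 2 ^ n)) = 0 := by
      push_cast
      linear_combination -h2
    rw [ZMod.natCast_eq_zero_iff] at h3
    have := Nat.le_of_dvd (by norm_num) h3
    have : 2 ≤ 2 ^ n := Nat.le_self_pow hn.ne' 2
    omega

end Cfsg.Lib.MinNonCA
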