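import Cfsg.Agent.Lib.MinNonCA.TwoBase
import Cfsg.Agent.Lib.GW.Basic
import Cfsg.Agent.S0111

/-!
# The structure of a non-abelian Sylow 2-subgroup modulo the centre
-/

set_option autoImplicit false
set_option linter.style.haveILetI false

namespace Cfsg.Lib.MinNonCA

open Subgroup
open scoped commutatorElement

variable {X : Type*} [Group X]

/-- `A` has index two in `S`, is abelian and cyclic modulo the centre, and is inverted outside. -/
structure TwoData (S : Sylow 2 X) (A : Subgroup X) : Prop where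
  le : A ≤ (S : Subgroup X)
  comm : Comm A
  center_mem : ∀ z ∈ (S : Subgroup X), z ∈ center X → z ∈ A
  mul_mem_two : ∀ g ∈ (S : Subgroup X), g ∉ A → ∀ h ∈ (S : Subgroup X), h ∉ A → g * h ∈ A
  outside : ∃ g ∈ (S : Subgroup X), g ∉ A
  not_le_center : ¬ A ≤ center X
  outside_sq : ∀ g ∈ (S : Subgroup X), g ∉ A → g * g ∈ center X
  not_commute : ∀ g ∈ (S : Subgroup X), g ∉ A → ∀ a ∈ A, a ∉ center X → ¬ Commute g a
  cyclic : IsCyclic (A.map (QuotientGroup.mk' (center X)))

variable {S : Sylow 2 X} {A : Subgroup X}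

theorem TwoData.outside_not_center (hA : TwoData S A) {g : X} (hg : g ∈ (S : Subgroup X))
    (hgA : g ∉ A) : g ∉ center X := fun e => hgA (hA.center_mem g hg e)

theorem TwoData.mul_notMem (hA : TwoData S A) {g a : X} (hgA : g ∉ A) (ha : a ∈ A) : g * a ∉ A :=
  fun e => hgA (by simpa using A.mul_mem e (A.inv_mem ha))

theorem TwoData.inverts (hA : TwoData S A) {g : X} (hg : g ∈ (S : Subgroup X)) (hgA : g ∉ A) {a : X}
    (ha : a ∈ A) : g * a * g⁻¹ * a ∈ center X := by
  have h1 := hA.outside_sq _ (mul_mem hg (hA.le ha)) (hA.mul_notMem hgA ha)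
  have h2 := hA.outside_sq g hg hgA
  have e : g * a * g⁻¹ * a = (g * a * (g * a)) * (a⁻¹ * (g * g)⁻¹ * a) := by group
  rw [e, mem_center_iff.1 (inv_mem h2) a⁻¹, inv_mul_cancel_right]
  exact mul_mem h1 (inv_mem h2)

theorem TwoData.conj_mem (hA : TwoData S A) {g : X} (hg : g ∈ (S : Subgroup X)) {a : X}
    (ha : a ∈ A) : g * a * g⁻¹ ∈ A := by
  by_cases hgA : g ∈ A
  · exact A.mul_mem (A.mul_mem hgA ha) (A.inv_mem hgA)
  have hz := hA.inverts hg hgA ha
  have hzA := hA.center_mem _ (mul_mem (mul_mem (mul_mem hg (hA.le ha)) (inv_mem hg)) (hA.le ha)) hz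
  simpa using A.mul_mem hzA (A.inv_mem ha)

theorem TwoData.commutator_mem_center (hA : TwoData S A) {g : X} (hg : g ∈ (S : Subgroup X))
    (hgA : g ∉ A) {a : X} (ha : a ∈ A) (h2 : a * a ∈ center X) :
    g * a * g⁻¹ * a⁻¹ ∈ center X := by
  have e : g * a * g⁻¹ * a⁻¹ = (g * a * g⁻¹ * a) * (a * a)⁻¹ := by group
  rw [e]
  exact mul_mem (hA.inverts hg hgA ha) (inv_mem h2)

/-- An involution modulo the centre commutes modulo the centre with an element not commuting with it. -/
theorem TwoData.companion (hA : TwoData S A) {u : X} (hu : u ∈ (S : Subgroup X)) (huc : u ∉ center X)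
    (hu2 : u * u ∈ center X) :
    ∃ v ∈ (S : Subgroup X), u * v * u⁻¹ * v⁻¹ ∈ center X ∧ ¬ Commute u v := by
  haveI : Fact (Nat.Prime 2) := ⟨Nat.prime_two⟩
  by_cases huA : u ∈ A
  · obtain ⟨g, hg, hgA⟩ := hA.outside
    refine ⟨g, hg, ?_, fun e => hA.not_commute g hg hgA u huA huc e.symm⟩
    rw [show u * g * u⁻¹ * g⁻¹ = (g * u * g⁻¹ * u⁻¹)⁻¹ by group]
    exact inv_mem (hA.commutator_mem_center hg hgA huA hu2)
  · obtain ⟨a, ha, hac⟩ := SetLike.not_le_iff_exists.1 hA.not_le_center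
    obtain ⟨k, hk⟩ := sylow_two_pow S (hA.le ha)
    obtain ⟨j, h1, h2⟩ := exists_pow_mem (p := 2) (k := k) (by rw [hk]; exact one_mem _) hac
    rw [sq] at h2
    exact ⟨_, hA.le (pow_mem ha _), hA.commutator_mem_center hu huA (pow_mem ha _) h2,
      hA.not_commute u hu huA _ (pow_mem ha _) h1⟩

variable [Finite X]

/-- The Sylow 2-subgroups modulo the centre are dihedral. -/
theorem TwoData.sylowDihedral (hA : TwoData S A) (hS : ¬ Comm (S : Subgroup X)) :
    Cfsg.Lib.GW.SylowDihedral (X ⧸ center X) := by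
  haveI : Fact (Nat.Prime 2) := ⟨Nat.prime_two⟩
  set f := QuotientGroup.mk' (center X) with hf
  set S' := S.mapSurjective (QuotientGroup.mk'_surjective (center X)) with hS'
  have hcoe : (S' : Subgroup (X ⧸ center X)) = (S : Subgroup X).map f := rfl
  set R := (A.map f).subgroupOf (S' : Subgroup (X ⧸ center X)) with hR
  have hle : A.map f ≤ (S' : Subgroup (X ⧸ center X)) := hcoe ▸ map_mono hA.le
  obtain ⟨g, hg, hgA⟩ := hA.outside
  have hmem : ∀ a ∈ (S : Subgroup X), (f a ∈ A.map f ↔ a ∈ A) := fun a ha => by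
    refine ⟨fun ⟨b, hb, e⟩ => ?_, fun h => ⟨a, h, rfl⟩⟩
    have hz : b⁻¹ * a ∈ center X := (QuotientGroup.eq (s := center X)).1 e
    simpa using A.mul_mem hb (hA.center_mem _ (mul_mem (inv_mem (hA.le hb)) ha) hz)
  have hcd : Cfsg.Lib.GW.CycDih (S' : Subgroup (X ⧸ center X)) := by
    refine ⟨R, ?_, ?_, ?_⟩
    · haveI := hA.cyclic
      exact isCyclic_of_surjective (subgroupOfEquivOfLe hle).symm (subgroupOfEquivOfLe hle).symm.surjective
    · refine le_of_eq (index_eq_two_iff.2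
        ⟨⟨f g, hcoe.ge ⟨g, hg, rfl⟩⟩, fun b => ?_⟩)
      obtain ⟨b', hb', e⟩ := hcoe.le b.2
      simp only [hR, mem_subgroupOf, Subgroup.coe_mul, ← e, ← map_mul, hmem _ hb',
        hmem _ (mul_mem hb' hg)]
      by_cases hb : b' ∈ A
      · exact Or.inr ⟨hb, fun h => hgA (by simpa using A.mul_mem (A.inv_mem hb) h)⟩
      · exact Or.inl ⟨hA.mul_mem_two b' hb' hb g hg hgA, hb⟩
    · rintro ⟨x, hx⟩ hxR
      obtain ⟨b, hb, rfl⟩ := hcoe.le hx
      refine Subtype.ext ?_
      show f b * f b = 1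
      rw [← map_mul]
      exact (QuotientGroup.eq_one_iff _).2
        (hA.outside_sq b hb fun hbA => hxR (mem_subgroupOf.2 ((hmem b hb).2 hbA)))
  rcases hcd.cyclic_or_dihedral with hc | ⟨n, hn, he⟩
  · exfalso
    refine hS fun a ha b hb => ?_
    obtain ⟨⟨r, hr⟩, hgen⟩ := hc.exists_generator
    obtain ⟨r', hr', rfl⟩ := hcoe.le hr
    have key : ∀ c ∈ (S : Subgroup X), ∃ i : ℤ, c⁻¹ * r' ^ i ∈ center X := by
      intro c hc
      obtain ⟨i, hi⟩ := hgen ⟨f c, hcoe.ge ⟨c, hc, rfl⟩⟩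
      refine ⟨i, (QuotientGroup.eq (s := center X)).1 ?_⟩
      have := congrArg Subtype.val hi
      simp only [Subgroup.coe_zpow, ← map_zpow] at this
      exact this.symm
    obtain ⟨i, hi⟩ := key a ha
    obtain ⟨j, hj⟩ := key b hb
    have e1 : a = r' ^ i * (a⁻¹ * r' ^ i)⁻¹ := by group
    have e2 : b = r' ^ j * (b⁻¹ * r' ^ j)⁻¹ := by group
    rw [e1, e2]
    exact ((Commute.zpow_zpow_self r' i j).mul_right (mem_center_iff.1 (inv_mem hj) _)).mul_left
      (mem_center_iff'.1 (inv_mem hi) _)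
  · exact Cfsg.Lib.GW.sylowDihedral_of_equiv S' hn he

/-- Central elements of the Sylow 2-subgroup have order at most two. -/
theorem TwoData.center_sq (hA : TwoData S A) (hperf : commutator X = ⊤) {c : X}
    (hc : c ∈ (S : Subgroup X)) (hcz : c ∈ center X) : c * c = 1 := by
  haveI : Fact (Nat.Prime 2) := ⟨Nat.prime_two⟩
  have hcA := hA.center_mem c hc hcz
  let B : Subgroup X :=
    { carrier := {a | a ∈ A ∧ ∀ g ∈ (S : Subgroup X), g ∉ A → g * a * g⁻¹ = a⁻¹}
      one_mem' := ⟨one_mem _, fun g _ _ => by group⟩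
      mul_mem' := fun {a b} ha hb => ⟨mul_mem ha.1 hb.1, fun g hg hgA => by
        calc g * (a * b) * g⁻¹ = (g * a * g⁻¹) * (g * b * g⁻¹) := by group
          _ = a⁻¹ * b⁻¹ := by rw [ha.2 g hg hgA, hb.2 g hg hgA]
          _ = (a * b)⁻¹ := by rw [(hA.comm a ha.1 b hb.1).eq, mul_inv_rev]⟩
      inv_mem' := fun {a} ha => ⟨inv_mem ha.1, fun g hg hgA => by
        calc g * a⁻¹ * g⁻¹ = (g * a * g⁻¹)⁻¹ := by group
          _ = a⁻¹⁻¹ := by rw [ha.2 g hg hgA]⟩ }
  have key : ∀ g ∈ (S : Subgroup X), g ∉ A → ∀ a ∈ A, ⁅g, a⁆ ∈ B := by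
    intro g hg hgA a ha
    rw [commutatorElement_def]
    have hga := hA.conj_mem hg ha
    refine ⟨A.mul_mem hga (A.inv_mem ha), fun h hh hhA => ?_⟩
    have hd : g⁻¹ * h ∈ A := hA.mul_mem_two _ (inv_mem hg) (fun e => hgA (by simpa using A.inv_mem e)) h hh hhA
    have e1 : h = g * (g⁻¹ * h) := by group
    set d := g⁻¹ * h
    set b := g * a * g⁻¹ * a⁻¹ with hb
    have hbA : b ∈ A := A.mul_mem hga (A.inv_mem ha)
    have hdb : d * b * d⁻¹ = b := by rw [(hA.comm d hd b hbA).eq, mul_inv_cancel_right]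
    calc h * b * h⁻¹ = g * (d * b * d⁻¹) * g⁻¹ := by rw [e1]; group
      _ = (g * g) * a * (g * g)⁻¹ * (g * a * g⁻¹)⁻¹ := by rw [hdb, hb]; group
      _ = a * (g * a * g⁻¹)⁻¹ := by
          rw [← mem_center_iff.1 (hA.outside_sq g hg hgA) a, mul_inv_cancel_right]
      _ = b⁻¹ := by rw [hb]; group
  have hSB : ⁅(S : Subgroup X), (S : Subgroup X)⁆ ≤ B := by
    refine Subgroup.commutator_le.2 fun s hs t ht => ?_
    by_cases hsA : s ∈ A
    · by_cases htA : t ∈ A
      · rw [commutatorElement_eq_one_iff_mul_comm.2 (hA.comm s hsA t htA).eq]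
        exact one_mem B
      · rw [← commutatorElement_inv]
        exact inv_mem (key t ht htA s hsA)
    · by_cases htA : t ∈ A
      · exact key s hs hsA t htA
      · have ha : s⁻¹ * t ∈ A :=
          hA.mul_mem_two _ (inv_mem hs) (fun e => hsA (by simpa using A.inv_mem e)) t ht htA
        have hb := key s hs hsA _ ha
        have e : ⁅s, t⁆ = s * ⁅s, s⁻¹ * t⁆ * s⁻¹ := by simp only [commutatorElement_def]; group
        rw [e, hb.2 s hs hsA]
        exact inv_mem hb
  let φ : (S : Subgroup X) →* Abelianization (S : Subgroup X) := Abelianization.of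
  have h1 : MonoidHom.transfer φ c = 1 := by
    have : commutator X ≤ (MonoidHom.transfer φ).ker := Subgroup.commutator_le.2 fun a _ b _ => by
      rw [MonoidHom.mem_ker, map_commutatorElement]
      exact commutatorElement_eq_one_iff_mul_comm.2 (mul_comm _ _)
    exact this (hperf ▸ mem_top c)
  rw [MonoidHom.transfer_eq_pow φ c fun k g₀ _ => by
    rw [mem_center_iff.1 (pow_mem hcz k) g₀⁻¹, inv_mul_cancel_right]] at h1
  have h2 : c ^ (S : Subgroup X).index ∈ B := by
    refine hSB ?_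
    rw [← map_subtype_commutator]
    exact ⟨_, (QuotientGroup.eq_one_iff _).1 h1, rfl⟩
  obtain ⟨g, hg, hgA⟩ := hA.outside
  have h3 := h2.2 g hg hgA
  rw [mem_center_iff.1 (pow_mem hcz _) g, mul_inv_cancel_right, eq_inv_iff_mul_eq_one, ← pow_add,
    ← two_mul, pow_mul, sq] at h3
  obtain ⟨k, hk⟩ := sylow_two_pow S hc
  refine pow_eq_one_of_coprime h3 (m := 2 ^ k) ?_ ?_
  · rw [← sq, ← pow_mul, mul_comm, pow_mul, hk, one_pow]
  · exact Nat.Coprime.pow_right _ (Nat.coprime_comm.1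
      (Nat.prime_two.coprime_iff_not_dvd.2 S.not_dvd_index))

/-- Replace the cyclic part when all squares are central. -/
theorem TwoData.swap (hA : TwoData S A) (hsq : ∀ a ∈ A, a * a ∈ center X) {w : X}
    (hw : w ∈ (S : Subgroup X)) (hwc : w ∉ center X) :
    ∃ B : Subgroup X, TwoData S B ∧ w ∈ B ∧
      ∀ b ∈ B, b ∈ center X ∨ w⁻¹ * b ∈ center X := by
  haveI : Fact (Nat.Prime 2) := ⟨Nat.prime_two⟩
  have hSsq : ∀ s ∈ (S : Subgroup X), s * s ∈ center X := fun s hs => by
    by_cases hsA : s ∈ A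
    · exact hsq s hsA
    · exact hA.outside_sq s hs hsA
  set f := QuotientGroup.mk' (center X) with hf
  have hone : ∀ a ∈ A, ∀ b ∈ A, a ∉ center X → b ∉ center X → a⁻¹ * b ∈ center X := by
    intro a ha b hb hac hbc
    haveI := hA.cyclic
    obtain ⟨⟨r, hr⟩, hgen⟩ := IsCyclic.exists_generator (α := A.map f)
    obtain ⟨r', hr', rfl⟩ := hr
    have key : ∀ c ∈ A, c ∉ center X → f c = f r' := by
      intro c hc hcc
      obtain ⟨i, hi⟩ := hgen ⟨f c, c, hc, rfl⟩
      have hi' : f r' ^ i = f c := congrArg Subtype.val hi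
      rcases Int.even_or_odd i with ⟨j, rfl⟩ | ⟨j, rfl⟩
      · refine absurd ?_ hcc
        refine (QuotientGroup.eq_one_iff c).1 ?_
        show f c = 1
        rw [← hi', ← two_mul, zpow_mul, zpow_two, ← map_mul,
          show f (r' * r') = 1 from (QuotientGroup.eq_one_iff _).2 (hsq r' hr'), one_zpow]
      · rw [← hi', zpow_add_one, zpow_mul, zpow_two, ← map_mul,
          show f (r' * r') = 1 from (QuotientGroup.eq_one_iff _).2 (hsq r' hr'), one_zpow, one_mul]
    exact (QuotientGroup.eq (s := center X)).1 ((key a ha hac).trans (key b hb hbc).symm)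
  have hset : ∀ s ∈ (S : Subgroup X), Commute w s → s ∈ center X ∨ w⁻¹ * s ∈ center X := by
    intro s hs hsw
    by_cases hsc : s ∈ center X
    · exact Or.inl hsc
    refine Or.inr ?_
    by_cases hwA : w ∈ A
    · by_cases hsA : s ∈ A
      · exact hone w hwA s hsA hwc hsc
      · exact absurd hsw.symm (hA.not_commute s hs hsA w hwA hwc)
    · by_cases hsA : s ∈ A
      · exact absurd hsw (hA.not_commute w hw hwA s hsA hsc)
      · by_contra hc
        exact hA.not_commute w hw hwA _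
          (hA.mul_mem_two _ (inv_mem hw) (fun e => hwA (by simpa using A.inv_mem e)) s hs hsA) hc
          (((Commute.refl w).inv_right).mul_right hsw)
  set B := (S : Subgroup X) ⊓ centralizer ({w} : Set X) with hBdef
  have hmem : ∀ b, b ∈ B ↔ b ∈ (S : Subgroup X) ∧ Commute w b := fun b => by
    rw [hBdef, Subgroup.mem_inf, mem_cent]
  have hdec : ∀ b ∈ B, b ∈ center X ∨ w⁻¹ * b ∈ center X := fun b hb =>
    hset b ((hmem b).1 hb).1 ((hmem b).1 hb).2
  refine ⟨B, ⟨inf_le_left, ?_, fun z hz hzc => (hmem z).2 ⟨hz, (mem_center_iff'.1 hzc w).symm⟩, ?_,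
    ?_, fun hle => hwc (hle ((hmem w).2 ⟨hw, Commute.refl w⟩)),
    fun g hg _ => hSsq g hg, ?_, ?_⟩, (hmem w).2 ⟨hw, Commute.refl w⟩, hdec⟩
  · intro a ha b hb
    rcases hdec a ha with h1 | h1
    · exact mem_center_iff'.1 h1 b
    · have e : a = w * (w⁻¹ * a) := by group
      rw [e]
      exact ((hmem b).1 hb).2.mul_left (mem_center_iff'.1 h1 b)
  · intro g hg hgB h hh hhB
    have out : ∀ x ∈ (S : Subgroup X), x ∉ B → x ∉ center X ∧ w⁻¹ * x ∉ center X := fun x hx hxB => by
      refine ⟨fun e => hxB ((hmem x).2 ⟨hx, (mem_center_iff'.1 e w).symm⟩), fun e => hxB ((hmem x).2 ⟨hx, ?_⟩)⟩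
      have e' : x = w * (w⁻¹ * x) := by group
      rw [e']
      exact (Commute.refl w).mul_right ((mem_center_iff'.1 e w).symm)
    obtain ⟨hg1, hg2⟩ := out g hg hgB
    obtain ⟨hh1, hh2⟩ := out h hh hhB
    refine (hmem _).2 ⟨mul_mem hg hh, ?_⟩
    suffices hz : g * h ∈ center X ∨ w⁻¹ * (g * h) ∈ center X by
      rcases hz with h' | h'
      · exact (mem_center_iff'.1 h' w).symm
      · rw [show g * h = w * (w⁻¹ * (g * h)) by group]
        exact (Commute.refl w).mul_right ((mem_center_iff'.1 h' w).symm)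
    have same : ∀ x ∈ A, ∀ y ∈ A, x ∉ center X → y ∉ center X → x * y ∈ center X := fun x hx y hy hxc hyc => by
      rw [show x * y = (x * x) * (x⁻¹ * y) by group]
      exact mul_mem (hsq x hx) (hone x hx y hy hxc hyc)
    by_cases hwA : w ∈ A
    · have hgA : g ∉ A := fun e => hg2 (hone w hwA g e hwc hg1)
      have hhA : h ∉ A := fun e => hh2 (hone w hwA h e hwc hh1)
      by_cases hc : g * h ∈ center X
      · exact Or.inl hc
      · exact Or.inr (hone w hwA _ (hA.mul_mem_two g hg hgA h hh hhA) hwc hc)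
    have hw' : w⁻¹ ∉ A := fun e => hwA (by simpa using A.inv_mem e)
    by_cases hgA : g ∈ A <;> by_cases hhA : h ∈ A
    · exact Or.inl (same g hgA h hhA hg1 hh1)
    · refine Or.inr ?_
      have hb := hA.mul_mem_two _ (inv_mem hw) hw' h hh hhA
      have e : w⁻¹ * (g * h) = (w⁻¹ * g * w⁻¹⁻¹ * g) * (g⁻¹ * (w⁻¹ * h)) := by group
      rw [e]
      exact mul_mem (hA.inverts (inv_mem hw) hw' hgA) (hone g hgA _ hb hg1 hh2)
    · refine Or.inr ?_
      rw [← mul_assoc]
      exact same _ (hA.mul_mem_two _ (inv_mem hw) hw' g hg hgA) h hhA hg2 hh1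
    · refine Or.inl ?_
      have ha := hA.mul_mem_two _ (inv_mem hw) hw' g hg hgA
      have hb := hA.mul_mem_two _ (inv_mem hw) hw' h hh hhA
      have e : g * h = (w * (w⁻¹ * g) * w⁻¹ * (w⁻¹ * g)) *
          ((w⁻¹ * g)⁻¹ * (w * w) * (w⁻¹ * h)) := by group
      rw [e, mem_center_iff.1 (hSsq w hw) (w⁻¹ * g)⁻¹]
      refine mul_mem (hA.inverts hw hwA ha) ?_
      rw [mul_assoc]
      exact mul_mem (hSsq w hw) (hone _ ha _ hb hg2 hh2)
  · by_contra hc
    simp only [not_exists, not_and, not_not] at hc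
    obtain ⟨g, hg, hgA⟩ := hA.outside
    obtain ⟨a, ha, hac⟩ := SetLike.not_le_iff_exists.1 hA.not_le_center
    by_cases hwA : w ∈ A
    · exact hA.not_commute g hg hgA w hwA hwc ((hmem g).1 (hc g hg)).2.symm
    · exact hA.not_commute w hw hwA a ha hac ((hmem a).1 (hc a (hA.le ha))).2
  · intro g hg hgB b hb hbc hgb
    refine hgB ((hmem g).2 ⟨hg, ?_⟩)
    rcases hdec b hb with h1 | h1
    · exact absurd h1 hbc
    · rw [show w = b * (w⁻¹ * b)⁻¹ by group]
      exact hgb.symm.mul_left (mem_center_iff'.1 (inv_mem h1) g)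
  · have hle : B.map f ≤ zpowers (f w) := by
      rintro _ ⟨b, hb, rfl⟩
      rcases hdec b hb with h1 | h1
      · rw [show f b = 1 from (QuotientGroup.eq_one_iff b).2 h1]
        exact one_mem _
      · rw [show f b = f w from ((QuotientGroup.eq (s := center X)).2 h1).symm]
        exact mem_zpowers _
    exact isCyclic_of_le hle

omit [Finite X] in
theorem TwoData.exists_square (hA : TwoData S A) {a : X} (ha : a ∈ A) (hasq : a * a ∉ center X) {k : X}
    (hk : k ∈ A) (hk2 : k * k ∈ center X) : ∃ b ∈ A, (b * b)⁻¹ * k ∈ center X := by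
  set f := QuotientGroup.mk' (center X) with hf
  haveI := hA.cyclic
  obtain ⟨⟨r, hr⟩, hgen⟩ := IsCyclic.exists_generator (α := A.map f)
  obtain ⟨r', hr', rfl⟩ := hr
  obtain ⟨i, hi⟩ := hgen ⟨f k, k, hk, rfl⟩
  have hi' : f r' ^ i = f k := congrArg Subtype.val hi
  rcases Int.even_or_odd i with ⟨j, rfl⟩ | hodd
  · refine ⟨r' ^ j, zpow_mem hr' _, (QuotientGroup.eq (s := center X)).1 ?_⟩
    show f (r' ^ j * r' ^ j) = f k
    rw [← hi', ← zpow_add, map_zpow]
  · exfalso
    obtain ⟨m, hm⟩ := sylow_two_pow S (hA.le hr')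
    have h2 : f r' ^ (2 * i : ℤ) = 1 := by
      rw [mul_comm, zpow_mul, hi', zpow_two, ← map_mul]
      exact (QuotientGroup.eq_one_iff _).2 hk2
    have hd : orderOf (f r') ∣ 2 := by
      have h3 : orderOf (f r') ∣ 2 * i.natAbs := by
        have := Int.natAbs_dvd_natAbs.2 (orderOf_dvd_iff_zpow_eq_one.2 h2)
        simpa [Int.natAbs_mul] using this
      obtain ⟨l, -, hl⟩ := (Nat.dvd_prime_pow Nat.prime_two).1
        (orderOf_dvd_of_pow_eq_one (show f r' ^ 2 ^ m = 1 by rw [← map_pow, hm, map_one]))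
      refine (Nat.Coprime.dvd_of_dvd_mul_right ?_ h3)
      rw [hl]
      exact Nat.Coprime.pow_left l (Nat.coprime_two_left.2 (Int.natAbs_odd.2 hodd))
    obtain ⟨ia, hia⟩ := hgen ⟨f a, a, ha, rfl⟩
    have hia' : f r' ^ ia = f a := congrArg Subtype.val hia
    refine hasq ((QuotientGroup.eq_one_iff _).1 ?_)
    show f (a * a) = 1
    rw [map_mul, ← hia', ← zpow_add, ← two_mul, zpow_mul]
    have : f r' ^ (2 : ℤ) = 1 := orderOf_dvd_iff_zpow_eq_one.1 (by exact_mod_cast hd)
    rw [this, one_zpow]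

/-- There are no non-central involutions. -/
theorem TwoData.involution_central (hA : TwoData S A) (hperf : commutator X = ⊤) {k : X}
    (hk : k * k = 1) : k ∈ center X := by
  haveI : Fact (Nat.Prime 2) := ⟨Nat.prime_two⟩
  obtain ⟨B, hB, hBno⟩ : ∃ B, TwoData S B ∧ ∀ b ∈ B, b * b = 1 → b ∈ center X := by
    by_cases hsq : ∀ a ∈ A, a * a ∈ center X
    · obtain ⟨w, hw, hwc, hw1⟩ : ∃ w ∈ (S : Subgroup X), w ∉ center X ∧ w * w ≠ 1 := by
        by_contra hc
        simp only [not_exists, not_and, not_not] at hc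
        obtain ⟨g, hg, hgA⟩ := hA.outside
        obtain ⟨a, ha, hac⟩ := SetLike.not_le_iff_exists.1 hA.not_le_center
        have h1 := hc g hg (hA.outside_not_center hg hgA)
        have h2 := hc a (hA.le ha) hac
        have h3 := hc _ (mul_mem hg (hA.le ha))
          (hA.outside_not_center (mul_mem hg (hA.le ha)) (hA.mul_notMem hgA ha))
        refine hA.not_commute g hg hgA a ha hac ?_
        have e : g * a = (g * g) * ((g * a) * (g * a))⁻¹ * (g * a) := by rw [h1, h3]; group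
        show g * a = a * g
        calc g * a = (g * g) * ((g * a) * (g * a))⁻¹ * (g * a) := e
          _ = g * g * a⁻¹ * g⁻¹ := by group
          _ = a * g := by rw [h1, one_mul, inv_eq_of_mul_eq_one_right h2, inv_eq_of_mul_eq_one_right h1]
      obtain ⟨B, hB, -, hdec⟩ := hA.swap hsq hw hwc
      refine ⟨B, hB, fun b hb hb1 => (hdec b hb).resolve_right fun h1 => hw1 ?_⟩
      have hzS : w⁻¹ * b ∈ (S : Subgroup X) := mul_mem (inv_mem hw) (hB.le hb)
      have hz := hA.center_sq hperf hzS h1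
      have hcomm : Commute w (w⁻¹ * b) := (mem_center_iff'.1 h1 w).symm
      calc w * w = (w * (w⁻¹ * b)) * (w * (w⁻¹ * b)) * ((w⁻¹ * b) * (w⁻¹ * b))⁻¹ := by
            rw [hcomm.symm.mul_mul_mul_comm]; group
        _ = 1 := by rw [hz, mul_inv_cancel_left, hb1]; group
    · refine ⟨A, hA, fun b hb hb1 => ?_⟩
      simp only [not_forall] at hsq
      obtain ⟨a, ha, hasq⟩ := hsq
      by_contra hbc
      obtain ⟨g, hg, hgA⟩ := hA.outside
      obtain ⟨c, hc, hcz⟩ := hA.exists_square ha hasq hb (by rw [hb1]; exact one_mem _)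
      set z := (c * c)⁻¹ * b with hz
      have hzS : z ∈ (S : Subgroup X) :=
        mul_mem (inv_mem (mul_mem (hA.le hc) (hA.le hc))) (hA.le hb)
      set y := g * c * g⁻¹ * c with hy
      have hyz := hA.inverts hg hgA hc
      have hyS : y ∈ (S : Subgroup X) := mul_mem (mul_mem (mul_mem hg (hA.le hc)) (inv_mem hg)) (hA.le hc)
      have hy2 := hA.center_sq hperf hyS hyz
      have hz2 := hA.center_sq hperf hzS hcz
      refine hA.not_commute g hg hgA b hb hbc ?_
      have hb' : b = c * c * z := by rw [hz]; group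
      have h1 : g * b * g⁻¹ = (c * c)⁻¹ * z := by
        calc g * b * g⁻¹ = (g * c * g⁻¹) * (g * c * g⁻¹) * (g * z * g⁻¹) := by rw [hb']; group
          _ = (y * c⁻¹) * (y * c⁻¹) * z := by
              have e1 : y * c⁻¹ = g * c * g⁻¹ := by rw [hy]; group
              have e2 : g * z * g⁻¹ = z := by rw [mem_center_iff.1 hcz g, mul_inv_cancel_right]
              rw [e1, e2]
          _ = (y * y) * (c⁻¹ * c⁻¹) * z := by
              rw [(mem_center_iff'.1 hyz c⁻¹).symm.mul_mul_mul_comm]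
          _ = _ := by rw [hy2, one_mul, mul_inv_rev]
      have h2 : (c * c)⁻¹ * z = b := by
        have e : b = b⁻¹ := eq_inv_iff_mul_eq_one.2 hb1
        rw [e, hb', mul_inv_rev (c * c) z, inv_eq_of_mul_eq_one_right hz2]
        exact mem_center_iff.1 hcz _
      exact mul_inv_eq_iff_eq_mul.1 (h1.trans h2)
  by_contra hkc
  obtain ⟨P, hP⟩ := (isPGroup_zpowers (p := 2) (k := 1) (y := k) (by rwa [pow_one, sq])).exists_le_sylow
  obtain ⟨g, rfl⟩ := MulAction.exists_smul_eq X S P
  have hk' := hP (mem_zpowers k)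
  rw [Sylow.coe_subgroup_smul, Subgroup.mem_pointwise_smul_iff_inv_smul_mem] at hk'
  simp only [MulAut.smul_def, MulAut.inv_def, MulAut.conj_symm_apply] at hk'
  set u := g⁻¹ * k * g with hu
  have huc : u ∉ center X := fun e => hkc <| by
    have := (inferInstance : (center X).Normal).conj_mem _ e g
    rwa [hu, show g * (g⁻¹ * k * g) * g⁻¹ = k by group] at this
  have hu1 : u * u = 1 := by
    rw [hu, show g⁻¹ * k * g * (g⁻¹ * k * g) = g⁻¹ * (k * k) * g by group, hk]; group
  have huB : u ∉ B := fun e => huc (hBno u e hu1)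
  have hrel : B.relIndex (S : Subgroup X) = 2 := by
    obtain ⟨h, hh, hhB⟩ := hB.outside
    refine relIndex_eq_two_iff.2 ⟨h, hh, fun b hb => ?_⟩
    by_cases hbB : b ∈ B
    · exact Or.inr ⟨hbB, fun e => hhB (by simpa using B.mul_mem (B.inv_mem hbB) e)⟩
    · exact Or.inl ⟨hB.mul_mem_two b hb hbB h hh hhB, hbB⟩
  have hord : orderOf u = 2 := orderOf_eq_prime (by rw [sq, hu1]) fun e => huc (e ▸ one_mem _)
  rcases Cfsg.Agent.S0111.result S B hB.le hrel u hord hk' huB with ⟨M, hMn, hM2, -⟩ | ⟨x, hx⟩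
  · have hle : commutator X ≤ M := by
      haveI := hMn
      haveI : IsMulCommutative (X ⧸ M) := (isCyclic_of_prime_card (p := 2)
        (by rw [← index_eq_card, hM2])).isMulCommutative
      exact Subgroup.commutator_le.2 fun a _ b _ => by
        rw [← QuotientGroup.eq_one_iff]
        show (QuotientGroup.mk' M) ⁅a, b⁆ = 1
        rw [map_commutatorElement]
        exact commutatorElement_eq_one_iff_mul_comm.2 (mul_comm' _ _)
    rw [hperf, top_le_iff] at hle
    rw [hle, index_top] at hM2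
    norm_num at hM2
  · refine huc ?_
    have h1 := hBno _ hx (by rw [show x * u * x⁻¹ * (x * u * x⁻¹) = x * (u * u) * x⁻¹ by group, hu1]; group)
    have := (inferInstance : (center X).Normal).conj_mem' _ h1 x
    rwa [show x⁻¹ * (x * u * x⁻¹) * x = u by group] at this

end Cfsg.Lib.MinNonCA
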